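import Cfsg.Agent.Lib.Glauberman.PGroup
import Cfsg.Agent.Lib.ZStar.Fusion

/-!
# Coprime solvable operator groups: fixed characters and fixed classes
-/

namespace CfsgLib.Glauberman

open Cfsg CfsgLib.CharTheory CfsgLib.Blocks
open scoped ComplexConjugate commutatorElement

set_option linter.unusedVariables false
set_option linter.unusedSectionVars false
set_option maxHeartbeats 400000

universe u v w

/-- A nontrivial solvable group has a nontrivial normal `p`-subgroup. -/
theorem exists_normal_pgroup (A : Type w) [Group A] [Finite A] [Group.IsSolvable A] [Nontrivial A] :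
    ∃ (p : ℕ) (Q : Subgroup A), p.Prime ∧ Q.Normal ∧ Q ≠ ⊥ ∧ IsPGroup p Q := by
  classical
  obtain ⟨n, hn⟩ := Group.IsSolvable.solvable (G := A)
  obtain ⟨m, hm, hm1⟩ : ∃ m, derivedSeries A m ≠ ⊥ ∧ derivedSeries A (m + 1) = ⊥ := by
    induction n with
    | zero => exact absurd hn (by simp [derivedSeries_zero, top_ne_bot])
    | succ k ih =>
      by_cases hk : derivedSeries A k = ⊥
      · exact ih hk
      · exact ⟨k, hk, hn⟩
  set K := derivedSeries A m with hK
  haveI hKn : K.Normal := derivedSeries_normal A m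
  have hab : ∀ x ∈ K, ∀ y ∈ K, x * y = y * x := by
    intro x hx y hy
    have : ⁅x, y⁆ ∈ derivedSeries A (m + 1) := by
      rw [derivedSeries_succ]; exact Subgroup.commutator_mem_commutator hx hy
    rw [hm1, Subgroup.mem_bot, commutatorElement_eq_one_iff_mul_comm] at this
    exact this
  obtain ⟨x, hx, hx1⟩ := (Subgroup.bot_or_exists_ne_one K).resolve_left hm
  obtain ⟨p, hp, hpx⟩ := Nat.exists_prime_and_dvd (mt orderOf_eq_one_iff.1 hx1)
  let Q : Subgroup A :=
    { carrier := {y | y ∈ K ∧ ∃ k : ℕ, y ^ p ^ k = 1}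
      one_mem' := ⟨K.one_mem, 0, by simp⟩
      mul_mem' := by
        rintro a b ⟨ha, i, hi⟩ ⟨hb, j, hj⟩
        refine ⟨K.mul_mem ha hb, i + j, ?_⟩
        have e1 : (a : A) ^ p ^ (i + j) = 1 := by rw [pow_add, pow_mul, hi, one_pow]
        have e2 : (b : A) ^ p ^ (i + j) = 1 := by
          rw [pow_add, mul_comm, pow_mul, hj, one_pow]
        rw [(show Commute a b from hab a ha b hb).mul_pow, e1, e2, one_mul]
      inv_mem' := by
        rintro a ⟨ha, i, hi⟩
        exact ⟨K.inv_mem ha, i, by rw [inv_pow, hi, inv_one]⟩ }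
  refine ⟨p, Q, hp, ⟨?_⟩, ?_, ?_⟩
  · rintro a ⟨ha, i, hi⟩ g
    exact ⟨hKn.conj_mem a ha g, i, by rw [conj_pow, hi, mul_one, mul_inv_cancel]⟩
  · intro hQ
    obtain ⟨t, ht⟩ := hpx
    have hy : x ^ t ∈ Q := ⟨K.pow_mem hx t, 1, by
      rw [pow_one, ← pow_mul, mul_comm, ← ht, pow_orderOf_eq_one]⟩
    rw [hQ, Subgroup.mem_bot] at hy
    have h1 := orderOf_dvd_of_pow_eq_one hy
    have ht0 : t ≠ 0 := by
      rintro rfl
      rw [mul_zero] at ht
      exact (orderOf_pos x).ne' ht
    have := Nat.le_of_dvd (Nat.pos_of_ne_zero ht0) h1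
    rw [ht] at this
    have := hp.two_le
    nlinarith [Nat.pos_of_ne_zero ht0]
  · rintro ⟨y, hy, k, hk⟩
    exact ⟨k, Subtype.ext hk⟩

variable {G : Type u} [Group G]

/-- Fixed points of a group of automorphisms. -/
def fixedSub (A : Subgroup (MulAut G)) : Subgroup G where
  carrier := {g | ∀ a ∈ A, a g = g}
  one_mem' := fun a _ => map_one a
  mul_mem' := fun hx hy a ha => by rw [map_mul, hx a ha, hy a ha]
  inv_mem' := fun hx a ha => by rw [map_inv, hx a ha]

theorem mem_fixedSub {A : Subgroup (MulAut G)} {g : G} : g ∈ fixedSub A ↔ ∀ a ∈ A, a g = g :=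
  Iff.rfl

/-- Restriction of automorphisms to an invariant subgroup. -/
noncomputable def restrictHom {S : Type w} [Group S] (φ : S →* MulAut G) (N : Subgroup G)
    (hN : ∀ s, ∀ n ∈ N, φ s n ∈ N) : S →* MulAut N where
  toFun s :=
    { toFun := fun n => ⟨φ s n, hN s n n.2⟩
      invFun := fun n => ⟨φ s⁻¹ n, hN s⁻¹ n n.2⟩
      left_inv := fun n => Subtype.ext (by simp)
      right_inv := fun n => Subtype.ext (by simp)
      map_mul' := fun a b => Subtype.ext (by simp) }
  map_one' := by ext n; simp
  map_mul' s t := by ext n; simp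

@[simp] theorem restrictHom_apply {S : Type w} [Group S] (φ : S →* MulAut G) (N : Subgroup G)
    (hN : ∀ s, ∀ n ∈ N, φ s n ∈ N) (s : S) (n : N) : (restrictHom φ N hN s n : G) = φ s n := rfl

theorem setup_subgroup [Finite G] {p : ℕ} {M : Ideal AlgInt} (hM : IsPModular p M)
    {S : Type w} [Group S] (hS : IsPGroup p S) (φ : S →* MulAut G) (hG : ¬ p ∣ Nat.card G)
    (C : Subgroup G) (hC : ∀ g, g ∈ C ↔ ∀ s, φ s g = g) : Setup p M φ C.subtype :=
  { hM := hM, hP := hS, hG := hG, inj := C.subtype_injective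
    fix := fun g => by
      constructor
      · rintro ⟨c, rfl⟩; exact (hC _).1 c.2
      · intro h; exact ⟨⟨g, (hC g).2 h⟩, rfl⟩ }

/-- Transport of a multiplicity by a symmetry of the whole situation. -/
theorem mult_twist {C : Type v} [Group C] [Fintype C] (ι : C →* G) (α : G ≃* G) (γ : C ≃* C)
    (h : ∀ c, α (ι c) = ι (γ c)) (χ : IrrCharacter G)
    (hχ : ∀ g, (χ : G → ℂ) (α g) = (χ : G → ℂ) g) (β : IrrCharacter C) :
    mult ι χ ⟨fun c => (β : C → ℂ) (γ c),
      isIrrCharacter_comp_surjective β.2 γ.toMonoidHom γ.surjective⟩ = mult ι χ β := by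
  apply mult_eq
  rw [← mult_spec ι χ β]
  unfold classInner
  congr 1
  exact Fintype.sum_equiv γ.toEquiv _ _ fun c => by simp [← h, hχ]

/-- Data for one step of the induction. -/
theorem exists_step [Finite G] (A : Subgroup (MulAut G)) [Group.IsSolvable A] (hA : A ≠ ⊥)
    (hcop : (Nat.card A).Coprime (Nat.card G)) :
    ∃ (p : ℕ) (Q : Subgroup A) (hC : ∀ a : A, ∀ g ∈ fixedSub (Q.map A.subtype),
        A.subtype a g ∈ fixedSub (Q.map A.subtype)),
      p.Prime ∧ IsPGroup p Q ∧ ¬ p ∣ Nat.card G ∧ Q.Normal ∧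
      Group.IsSolvable (restrictHom A.subtype (fixedSub (Q.map A.subtype)) hC).range ∧
      Nat.card (restrictHom A.subtype (fixedSub (Q.map A.subtype)) hC).range < Nat.card A ∧
      (Nat.card (restrictHom A.subtype (fixedSub (Q.map A.subtype)) hC).range).Coprime
        (Nat.card (fixedSub (Q.map A.subtype))) := by
  classical
  haveI : Finite (MulAut G) := Finite.of_injective (fun a : MulAut G => a.toEquiv) MulEquiv.toEquiv_injective
  haveI : Nontrivial A := (Subgroup.nontrivial_iff_ne_bot A).2 hA
  obtain ⟨p, Q, hp, hQn, hQ1, hQp⟩ := exists_normal_pgroup A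
  have hC : ∀ a : A, ∀ g ∈ fixedSub (Q.map A.subtype),
      A.subtype a g ∈ fixedSub (Q.map A.subtype) := by
    rintro a g hg _ ⟨q, hq, rfl⟩
    have h2 : a⁻¹ * q * a ∈ Q := by simpa using hQn.conj_mem q hq a⁻¹
    have h3 := hg _ ⟨_, h2, rfl⟩
    show (q : MulAut G) ((a : MulAut G) g) = (a : MulAut G) g
    conv_rhs => rw [← h3]
    simp
  set f := restrictHom A.subtype (fixedSub (Q.map A.subtype)) hC
  have hker : Q ≤ f.ker := by
    intro q hq
    rw [MonoidHom.mem_ker]
    ext c
    exact c.2 _ ⟨q, hq, rfl⟩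
  have hpA : p ∣ Nat.card A := by
    haveI : Fact p.Prime := ⟨hp⟩
    haveI : Nontrivial Q := (Subgroup.nontrivial_iff_ne_bot Q).2 hQ1
    obtain ⟨n, hn, hcard⟩ := hQp.nontrivial_iff_card.1 inferInstance
    exact (dvd_pow_self p hn.ne').trans (hcard ▸ Subgroup.card_subgroup_dvd_card Q)
  refine ⟨p, Q, hC, hp, hQp, ?_, hQn, ?_, ?_, ?_⟩
  · intro hpG
    have := Nat.dvd_gcd hpA hpG
    rw [hcop] at this
    exact hp.one_lt.ne' (Nat.dvd_one.1 this)
  · exact solvable_of_surjective f.rangeRestrict_surjective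
  · rw [Nat.card_congr (QuotientGroup.quotientKerEquivRange f).symm.toEquiv,
      ← Subgroup.index_eq_card]
    have h1 : 1 < Nat.card f.ker := by
      haveI : Nontrivial f.ker := (Subgroup.nontrivial_iff_ne_bot _).2 fun e =>
        hQ1 (le_bot_iff.1 (e ▸ hker))
      exact Finite.one_lt_card
    calc f.ker.index = 1 * f.ker.index := (one_mul _).symm
      _ < Nat.card f.ker * f.ker.index :=
        (Nat.mul_lt_mul_right (Nat.pos_of_ne_zero Subgroup.index_ne_zero_of_finite)).2 h1
      _ = Nat.card A := Subgroup.card_mul_index _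
  · have h1 : Nat.card f.range ∣ Nat.card A := Subgroup.card_range_dvd f
    exact Nat.Coprime.coprime_dvd_left h1
      (hcop.coprime_dvd_right (Subgroup.card_subgroup_dvd_card _))

/-- The class map of an automorphism. -/
def classMap (a : MulAut G) : ConjClasses G → ConjClasses G := ConjClasses.map a.toMonoidHom

theorem classMap_mk (a : MulAut G) (g : G) :
    classMap a (ConjClasses.mk g) = ConjClasses.mk (a g) := rfl

/-- Fixed characters and fixed classes are equinumerous. -/
theorem card_inv_eq_card_fixed_classes : ∀ (n : ℕ) (G : Type u) [Group G] [Finite G]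
    (A : Subgroup (MulAut G)) [Group.IsSolvable A], Nat.card A = n →
    (Nat.card A).Coprime (Nat.card G) →
    Nat.card {χ : IrrCharacter G // Inv A.subtype (χ : G → ℂ)} =
      Nat.card {K : ConjClasses G // ∀ a ∈ A, classMap a K = K} := by
  intro n
  induction n using Nat.strong_induction_on with
  | _ n ih =>
  intro G _ _ A _ hn hcop
  classical
  haveI := Fintype.ofFinite G
  by_cases hA : A = ⊥
  · subst hA
    have e1 : ∀ χ : IrrCharacter G,
        Inv (⊥ : Subgroup (MulAut G)).subtype (χ : G → ℂ) := fun χ a g => by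
      rw [show ((⊥ : Subgroup (MulAut G)).subtype a) = 1 from Subgroup.mem_bot.1 a.2]; rfl
    have e2 : ∀ K : ConjClasses G, ∀ a ∈ (⊥ : Subgroup (MulAut G)), classMap a K = K := by
      intro K a ha
      obtain rfl := Subgroup.mem_bot.1 ha
      induction K using Quotient.inductionOn with
      | _ g => rfl
    rw [Nat.card_congr (Equiv.subtypeUnivEquiv e1), Nat.card_congr (Equiv.subtypeUnivEquiv e2)]
    exact card_irr_eq_card_conjClasses
  obtain ⟨p, Q, hC, hp, hQp, hpG, hQn, hsol, hlt, hcop'⟩ := exists_step A hA hcop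
  obtain ⟨M, hM⟩ := CfsgLib.ZStar.exists_isPModular hp
  set C := fixedSub (Q.map A.subtype) with hCdef
  set f := restrictHom A.subtype C hC with hf
  haveI := Fintype.ofFinite C
  have hS : Setup p M (A.subtype.comp Q.subtype) C.subtype :=
    setup_subgroup hM hQp _ hpG C fun g => by
      rw [hCdef, mem_fixedSub]
      exact ⟨fun h s => h _ ⟨_, s.2, rfl⟩, by rintro h _ ⟨q, hq, rfl⟩; exact h ⟨q, hq⟩⟩
  have hinvQ : ∀ χ : IrrCharacter G, Inv A.subtype (χ : G → ℂ) →
      Inv (A.subtype.comp Q.subtype) (χ : G → ℂ) := fun χ h s g => h s g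
  have IH := ih (Nat.card f.range) (hn ▸ hlt) C f.range rfl hcop'
  -- characters
  have hch : Nat.card {χ : IrrCharacter G // Inv A.subtype (χ : G → ℂ)} =
      Nat.card {β : IrrCharacter C // Inv f.range.subtype (β : C → ℂ)} := by
    have hto : ∀ χ : {χ : IrrCharacter G // Inv A.subtype (χ : G → ℂ)},
        ∃! β : IrrCharacter C, (mult C.subtype χ.1 β : AlgInt ⧸ M) ≠ 0 := by
      intro χ
      obtain ⟨β, h1, h2⟩ := hS.exists_unique_under χ.1 (hinvQ _ χ.2)
      exact ⟨β, h1, fun b hb => by_contra fun hne => hb (h2 b hne)⟩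
    have hinv : ∀ χ : {χ : IrrCharacter G // Inv A.subtype (χ : G → ℂ)},
        Inv f.range.subtype ((hto χ).exists.choose : C → ℂ) := by
      rintro χ ⟨_, a, rfl⟩ c
      have h1 := (hto χ).exists.choose_spec
      rw [← mult_twist C.subtype (a : MulAut G) (f a) (fun c => rfl) χ.1 (χ.2 a)] at h1
      have := (hto χ).unique h1 (hto χ).exists.choose_spec
      exact congrFun (congrArg Subtype.val this) c
    refine Nat.card_eq_of_bijective (fun χ => ⟨(hto χ).exists.choose, hinv χ⟩) ⟨?_, ?_⟩
    · intro χ χ' e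
      have e' : (hto χ).exists.choose = (hto χ').exists.choose := congrArg Subtype.val e
      by_contra hne
      haveI := res_isDomain hM
      have := hS.mult_disjoint (hinvQ _ χ.2) (hinvQ _ χ'.2) (fun h => hne (Subtype.ext h))
        (hto χ).exists.choose
      rcases mul_eq_zero.1 this with h | h
      · exact (hto χ).exists.choose_spec h
      · rw [e'] at h; exact (hto χ').exists.choose_spec h
    · intro β
      obtain ⟨χ, hi, h1, hu⟩ := hS.exists_unique_over β.1
      have hm : (mult C.subtype χ β.1 : AlgInt ⧸ M) ≠ 0 := fun h0 => by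
        haveI := res_isDomain hM
        rw [h0, zero_mul] at h1; exact zero_ne_one h1
      have hχA : Inv A.subtype (χ : G → ℂ) := by
        intro a g
        let χ' : IrrCharacter G := ⟨fun g => (χ : G → ℂ) ((a : MulAut G) g),
          isIrrCharacter_comp_surjective χ.2 (a : MulAut G).toMonoidHom (a : MulAut G).surjective⟩
        have hi' : Inv (A.subtype.comp Q.subtype) (χ' : G → ℂ) := by
          intro q x
          show (χ : G → ℂ) ((a : MulAut G) ((q : A).1 x)) = (χ : G → ℂ) ((a : MulAut G) x)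
          have hq' : a * (q : A) * a⁻¹ ∈ Q := (Subgroup.Normal.conj_mem inferInstance _ q.2 a)
          have := hi ⟨_, hq'⟩ ((a : MulAut G) x)
          rw [← this]
          simp
        have hm' : mult C.subtype χ' β.1 = mult C.subtype χ β.1 := by
          apply mult_eq
          rw [← mult_spec C.subtype χ β.1]
          unfold classInner
          congr 1
          refine Fintype.sum_equiv (f a).toEquiv _ _ fun c => ?_
          have hb := β.2 ⟨f a, a, rfl⟩ c
          simp only [Subgroup.coe_subtype] at hb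
          show (χ : G → ℂ) ((a : MulAut G) (c : G)) * conj ((β.1 : C → ℂ) c) =
            (χ : G → ℂ) ((f a c : C) : G) * conj ((β.1 : C → ℂ) (f a c))
          rw [hb]
          rfl
        have : χ' = χ := by_contra fun hne => hm (by rw [← hm']; exact hu χ' hi' hne)
        exact congrFun (congrArg Subtype.val this) g
      exact ⟨⟨χ, hχA⟩, Subtype.ext ((hto ⟨χ, hχA⟩).unique
        (hto ⟨χ, hχA⟩).exists.choose_spec hm)⟩
  -- classes
  have hcl : Nat.card {K : ConjClasses C // ∀ b ∈ f.range, classMap b K = K} =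
      Nat.card {K : ConjClasses G // ∀ a ∈ A, classMap a K = K} := by
    have hm : ∀ K : {K : ConjClasses C // ∀ b ∈ f.range, classMap b K = K},
        ∀ a ∈ A, classMap a (ConjClasses.map C.subtype K.1) = ConjClasses.map C.subtype K.1 := by
      rintro ⟨K, hK⟩ a ha
      induction K using Quotient.inductionOn with
      | _ c =>
        have h1 := congrArg (ConjClasses.map C.subtype) (hK _ ⟨⟨a, ha⟩, rfl⟩)
        exact h1
    refine Nat.card_eq_of_bijective (fun K => ⟨ConjClasses.map C.subtype K.1, hm K⟩) ⟨?_, ?_⟩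
    · rintro ⟨K, hK⟩ ⟨K', hK'⟩ e
      have e' := congrArg Subtype.val e
      apply Subtype.ext
      induction K using Quotient.inductionOn with
      | _ c =>
        induction K' using Quotient.inductionOn with
        | _ c' =>
          exact ConjClasses.mk_eq_mk_iff_isConj.2
            (hS.fusion (ConjClasses.mk_eq_mk_iff_isConj.1 e'))
    · rintro ⟨K, hK⟩
      haveI : Fact p.Prime := ⟨hp⟩
      obtain ⟨g, rfl⟩ := ConjClasses.mk_surjective K
      letI := grpAction (A.subtype.comp Q.subtype)
      let T : SubMulAction Q G :=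
        { carrier := {x | ConjClasses.mk x = ConjClasses.mk g}
          smul_mem' := fun q x hx => by
            show ConjClasses.mk (((q : A) : MulAut G) x) = ConjClasses.mk g
            have := hK _ (q : A).2
            rw [← hx] at this ⊢
            exact this }
      have hT : ¬ p ∣ Nat.card T := fun hd => hpG (hd.trans (by
        have e : Nat.card T = Nat.card {x : G // IsConj g x} :=
          Nat.card_congr (Equiv.subtypeEquivRight fun x => by
            show ConjClasses.mk x = ConjClasses.mk g ↔ IsConj g x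
            rw [ConjClasses.mk_eq_mk_iff_isConj, isConj_comm])
        rw [e]
        exact ⟨_, (card_isConj_mul_card_centralizer g).symm⟩))
      obtain ⟨x, hx⟩ := hQp.nonempty_fixed_point_of_prime_not_dvd_card T hT
      obtain ⟨c, hc⟩ := (hS.fix x.1).2 fun q => congrArg Subtype.val (hx q)
      refine ⟨⟨ConjClasses.mk c, ?_⟩, Subtype.ext ?_⟩
      · rintro _ ⟨a, rfl⟩
        refine ConjClasses.mk_eq_mk_iff_isConj.2 (hS.fusion ?_)
        show IsConj ((a : MulAut G) (c : G)) (c : G)
        rw [show (c : G) = x.1 from hc]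
        have := hK _ a.2
        rw [← x.2] at this
        exact ConjClasses.mk_eq_mk_iff_isConj.1 this
      · show ConjClasses.mk (c : G) = ConjClasses.mk g
        rw [show (c : G) = x.1 from hc]
        exact x.2
  rw [hch, IH, hcl]

/-- An invariant irreducible character of an invariant normal subgroup lies below an invariant
one. -/
theorem exists_inv_over : ∀ (n : ℕ) (G : Type u) [Group G] [Finite G]
    (A : Subgroup (MulAut G)) [Group.IsSolvable A], Nat.card A = n →
    (Nat.card A).Coprime (Nat.card G) → ∀ (N : Subgroup G) [N.Normal] [Fintype N],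
    (∀ a ∈ A, ∀ x ∈ N, a x ∈ N) → ∀ θ : IrrCharacter N,
    (∀ a ∈ A, ∀ x y : N, (y : G) = a x → (θ : N → ℂ) y = (θ : N → ℂ) x) →
    ∃ χ : IrrCharacter G, Inv A.subtype (χ : G → ℂ) ∧ mult N.subtype χ θ ≠ 0 := by
  intro n
  induction n using Nat.strong_induction_on with
  | _ n ih =>
  intro G _ _ A _ hn hcop N _ _ hNA θ hθ
  classical
  haveI := Fintype.ofFinite G
  by_cases hA : A = ⊥
  · subst hA
    have hne : indFun N (θ : N → ℂ) ≠ 0 := by
      intro e
      have h1 := congrFun e 1
      rw [indFun_apply_one] at h1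
      simp only [Pi.zero_apply, mul_eq_zero] at h1
      rcases h1 with h | h
      · exact Nat.cast_ne_zero.mpr Subgroup.index_ne_zero_of_finite h
      · exact irr_ne_zero θ.2 h
    have hc := isCharacter_indFun N (isCharacter_of_irr θ.2)
    obtain ⟨χ, hχ, hχne⟩ := exists_constituent hc hne
    refine ⟨⟨χ, hχ⟩, fun a g => by
      rw [show ((⊥ : Subgroup (MulAut G)).subtype a) = 1 from Subgroup.mem_bot.1 a.2]; rfl,
      fun h0 => hχne ?_⟩
    rw [frobenius_reciprocity N (θ : N → ℂ) (isClassFunction_irr hχ), ← classInner_comm]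
    have h2 : classInner (fun x : N => χ x) (θ : N → ℂ) = 0 := by
      have := mult_spec N.subtype ⟨χ, hχ⟩ θ
      rw [h0, Nat.cast_zero] at this
      exact this
    rw [h2, map_zero]
  obtain ⟨p, Q, hC, hp, hQp, hpG, hQn, hsol, hlt, hcop'⟩ := exists_step A hA hcop
  obtain ⟨M, hM⟩ := CfsgLib.ZStar.exists_isPModular hp
  haveI := res_isDomain hM
  set C := fixedSub (Q.map A.subtype) with hCdef
  set f := restrictHom A.subtype C hC with hf
  haveI := Fintype.ofFinite C
  have hS : Setup p M (A.subtype.comp Q.subtype) C.subtype :=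
    setup_subgroup hM hQp _ hpG C fun g => by
      rw [hCdef, mem_fixedSub]
      exact ⟨fun h s => h _ ⟨_, s.2, rfl⟩, by rintro h _ ⟨q, hq, rfl⟩; exact h ⟨q, hq⟩⟩
  -- the situation inside `N`
  have hNA' : ∀ a : A, ∀ x ∈ N, A.subtype a x ∈ N := fun a => hNA _ a.2
  set D := N.subgroupOf C with hD
  haveI := Fintype.ofFinite D
  let κ : D →* N :=
    { toFun := fun d => ⟨((d : C) : G), d.2⟩
      map_one' := rfl
      map_mul' := fun _ _ => rfl }
  have hSN : Setup p M ((restrictHom A.subtype N hNA').comp Q.subtype) κ :=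
    { hM := hM, hP := hQp, hG := fun hd => hpG (hd.trans (Subgroup.card_subgroup_dvd_card N))
      inj := fun a b e => Subtype.ext (Subtype.ext (congrArg (fun z : N => (z : G)) e))
      fix := fun x => by
        constructor
        · rintro ⟨d, rfl⟩ q
          exact Subtype.ext ((d : C).2 _ ⟨_, q.2, rfl⟩)
        · intro h
          have hxC : (x : G) ∈ C := by
            rintro _ ⟨q, hq, rfl⟩
            exact congrArg Subtype.val (h ⟨q, hq⟩)
          exact ⟨⟨⟨x, hxC⟩, x.2⟩, rfl⟩ }
  have hθA : Inv (restrictHom A.subtype N hNA') (θ : N → ℂ) := fun a x => hθ _ a.2 x _ rfl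
  obtain ⟨γ, hγ, hγu⟩ := hSN.exists_unique_under θ fun q x => hθA q x
  -- `γ` is invariant
  have hDinv : ∀ b ∈ f.range, ∀ x ∈ D, b x ∈ D := by
    rintro _ ⟨a, rfl⟩ x hx
    exact hNA' a _ hx
  have hγA : ∀ b ∈ f.range, ∀ x y : D, (y : C) = b x → (γ : D → ℂ) y = (γ : D → ℂ) x := by
    rintro _ ⟨a, rfl⟩ x y hxy
    let e : MulAut D := restrictHom f D (fun a x hx => hNA' a _ hx) a
    have h1 := mult_twist κ (restrictHom A.subtype N hNA' a) e (fun d => rfl) θ (hθA a) γ
    have h2 : (⟨fun c => (γ : D → ℂ) (e c),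
        isIrrCharacter_comp_surjective γ.2 e.toMonoidHom e.surjective⟩ : IrrCharacter D) = γ :=
      by_contra fun hne => hγ (by rw [← h1]; exact hγu _ hne)
    have h3 := congrFun (congrArg Subtype.val h2) x
    rw [show y = e x from Subtype.ext hxy]
    exact h3
  obtain ⟨β, hβi, hβ⟩ := ih (Nat.card f.range) (hn ▸ hlt) C f.range rfl hcop' D hDinv γ hγA
  obtain ⟨χ, hi, h1, hu⟩ := hS.exists_unique_over β
  have hm : (mult C.subtype χ β : AlgInt ⧸ M) ≠ 0 := left_ne_zero_of_mul (h1 ▸ one_ne_zero)
  have hu' : ∀ b : IrrCharacter C, b ≠ β → (mult C.subtype χ b : AlgInt ⧸ M) = 0 := by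
    obtain ⟨b0, hb0, hb⟩ := hS.exists_unique_under χ hi
    intro b hne
    have : β = b0 := by_contra fun h => hm (hb β h)
    exact hb b (this ▸ hne)
  -- `χ` is invariant under all of `A`
  have hχA : Inv A.subtype (χ : G → ℂ) := by
    intro a g
    let χ' : IrrCharacter G := ⟨fun g => (χ : G → ℂ) ((a : MulAut G) g),
      isIrrCharacter_comp_surjective χ.2 (a : MulAut G).toMonoidHom (a : MulAut G).surjective⟩
    have hi' : Inv (A.subtype.comp Q.subtype) (χ' : G → ℂ) := by
      intro q x
      show (χ : G → ℂ) ((a : MulAut G) ((q : A).1 x)) = (χ : G → ℂ) ((a : MulAut G) x)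
      have hq' : a * (q : A) * a⁻¹ ∈ Q := (Subgroup.Normal.conj_mem inferInstance _ q.2 a)
      have := hi ⟨_, hq'⟩ ((a : MulAut G) x)
      rw [← this]
      simp
    have hm' : mult C.subtype χ' β = mult C.subtype χ β := by
      apply mult_eq
      rw [← mult_spec C.subtype χ β]
      unfold classInner
      congr 1
      refine Fintype.sum_equiv (f a).toEquiv _ _ fun c => ?_
      have hb := hβi ⟨f a, a, rfl⟩ c
      simp only [Subgroup.coe_subtype] at hb
      show (χ : G → ℂ) ((a : MulAut G) (c : G)) * conj ((β : C → ℂ) c) =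
        (χ : G → ℂ) ((f a c : C) : G) * conj ((β : C → ℂ) (f a c))
      rw [hb]
      rfl
    have : χ' = χ := by_contra fun hne => hm (by rw [← hm']; exact hu χ' hi' hne)
    exact congrFun (congrArg Subtype.val this) g
  refine ⟨χ, hχA, fun h0 => ?_⟩
  -- compare the two ways of restricting `χ` to `D`
  have hcomm : C.subtype.comp D.subtype = N.subtype.comp κ := rfl
  have hL : (mult (C.subtype.comp D.subtype) χ γ : AlgInt ⧸ M) =
      (mult C.subtype χ β : AlgInt ⧸ M) * (mult D.subtype β γ : AlgInt ⧸ M) := by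
    rw [mult_comp, Nat.cast_sum, Finset.sum_eq_single β
      (fun b _ hne => by rw [Nat.cast_mul, hu' b hne, zero_mul])
      (fun hh => absurd (Finset.mem_univ _) hh), Nat.cast_mul]
  have hR : (mult (N.subtype.comp κ) χ γ : AlgInt ⧸ M) = 0 := by
    rw [mult_comp, Nat.cast_sum]
    letI := irrAction ((restrictHom A.subtype N hNA').comp Q.subtype)
    rw [sum_fixedPoints hM hQp (fun t : IrrCharacter N =>
      ((mult N.subtype χ t * mult κ t γ : ℕ) : AlgInt ⧸ M))]
    · refine Finset.sum_eq_zero fun t ht => ?_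
      rw [Finset.mem_filter, MulAction.mem_fixedPoints] at ht
      by_cases ht0 : t = θ
      · subst ht0; rw [h0]; simp
      · have hti : Inv ((restrictHom A.subtype N hNA').comp Q.subtype) (t : N → ℂ) := fun q x => by
          have := congrFun (congrArg Subtype.val (ht.2 q⁻¹)) x
          have e : ((q⁻¹ • t : IrrCharacter N) : N → ℂ) x =
            (t : N → ℂ) ((restrictHom A.subtype N hNA').comp Q.subtype q⁻¹⁻¹ x) := rfl
          rw [← this, e, inv_inv]
        have := hSN.mult_disjoint hti (fun q x => hθA q x) ht0 γ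
        rw [Nat.cast_mul, (mul_eq_zero.1 this).resolve_right hγ, mul_zero]
    · intro q t
      have e1 : mult N.subtype χ (q • t) = mult N.subtype χ t :=
        mult_twist N.subtype (((q⁻¹ : Q) : A) : MulAut G)
          (restrictHom A.subtype N hNA' ((q⁻¹ : Q) : A)) (fun c => rfl) χ (hi (q⁻¹)) t
      have e2 : mult κ (q • t) γ = mult κ t γ := by
        apply mult_eq
        rw [← mult_spec κ t γ]
        unfold classInner
        congr 1
        refine Finset.sum_congr rfl fun d _ => ?_
        show (t : N → ℂ) ((restrictHom A.subtype N hNA').comp Q.subtype q⁻¹ (κ d)) * _ = _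
        rw [hSN.apply_fix]
      rw [e1, e2]
  rw [hcomm] at hL
  rw [hR] at hL
  have hd0 : (mult D.subtype β γ : AlgInt ⧸ M) ≠ 0 := by
    obtain ⟨d, hdpos, hd⟩ := irr_degree_pos β.2
    have hdiv := mult_dvd_degree D β γ hβ hd
    refine natCast_ne_zero hM fun hpd => hpG ?_
    have hdC : d ∣ Nat.card C := by
      obtain ⟨k, ρ, hρ, hρχ⟩ := β.2
      haveI := hρ
      have e : (k : ℂ) = d := by
        rw [← hd, ← hρχ, ρ.char_one, Module.finrank_fintype_fun_eq_card, Fintype.card_fin]
      have := finrank_dvd_card ρ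
      rw [Module.finrank_fintype_fun_eq_card, Fintype.card_fin, Nat.cast_inj.1 e] at this
      exact this
    exact hpd.trans (hdiv.trans (hdC.trans (Subgroup.card_subgroup_dvd_card C)))
  exact mul_ne_zero hm hd0 hL.symm

end CfsgLib.Glauberman
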