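import Cfsg.Agent.Lib.Glauberman.Solvable

/-!
# Operators inside an ambient group
-/

namespace CfsgLib.Glauberman

universe u

variable {Γ : Type u} [Group Γ]

/-- Conjugation of an element of `S` on a normalised subgroup `G`. -/
noncomputable def conjHom (G S : Subgroup Γ) (hnorm : ∀ s ∈ S, ∀ g ∈ G, s * g * s⁻¹ ∈ G) :
    S →* MulAut G :=
  { toFun := fun s =>
      { toFun := fun g => ⟨s * g * (s : Γ)⁻¹, hnorm s s.2 g g.2⟩
        invFun := fun g => ⟨(s : Γ)⁻¹ * g * (s : Γ), by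
          simpa using hnorm (s : Γ)⁻¹ (S.inv_mem s.2) g g.2⟩
        left_inv := fun g => Subtype.ext (by simp [mul_assoc])
        right_inv := fun g => Subtype.ext (by simp [mul_assoc])
        map_mul' := fun a b => Subtype.ext (by simp [mul_assoc]) }
    map_one' := by ext g; simp
    map_mul' := fun s t => by ext g; simp [mul_assoc] }

theorem conjHom_coe (G S : Subgroup Γ) (hnorm : ∀ s ∈ S, ∀ g ∈ G, s * g * s⁻¹ ∈ G)
    (s : S) (g : G) : ((conjHom G S hnorm s g : G) : Γ) = s * g * (s : Γ)⁻¹ := rfl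

theorem inv_iff (G S : Subgroup Γ) (hnorm : ∀ s ∈ S, ∀ g ∈ G, s * g * s⁻¹ ∈ G) (χ : G → ℂ) :
    (∀ s ∈ S, ∀ g g' : G, (g' : Γ) = s * g * s⁻¹ → χ g' = χ g) ↔ Inv (conjHom G S hnorm) χ := by
  constructor
  · intro h s g
    exact h s s.2 g _ (conjHom_coe G S hnorm s g)
  · intro h s hs g g' e
    rw [show g' = conjHom G S hnorm ⟨s, hs⟩ g from
      Subtype.ext (e.trans (conjHom_coe G S hnorm ⟨s, hs⟩ g).symm)]
    exact h ⟨s, hs⟩ g

theorem inv_range_iff {S : Type u} [Group S] {G : Type u} [Group G] (φ : S →* MulAut G) (χ : G → ℂ) :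
    Inv φ χ ↔ Inv φ.range.subtype χ := by
  constructor
  · rintro h ⟨_, s, rfl⟩ g; exact h s g
  · exact fun h s g => h ⟨φ s, s, rfl⟩ g

end CfsgLib.Glauberman
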