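import Cfsg.Agent.Lib.Glauberman.Mult
import Cfsg.Agent.Lib.Blocks.Orth

/-!
# The Glauberman correspondence for a `p`-group of operators, by reduction modulo `p`
-/

namespace CfsgLib.Glauberman

open Cfsg CfsgLib.CharTheory CfsgLib.Blocks
open scoped ComplexConjugate

set_option linter.unusedVariables false
set_option linter.unusedSectionVars false
set_option maxHeartbeats 400000

universe u v w

variable {G : Type u} [Group G] {P : Type w} [Group P]

/-- `χ` is fixed by the operators. -/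
def Inv (φ : P →* MulAut G) (χ : G → ℂ) : Prop := ∀ (s : P) (g : G), χ (φ s g) = χ g

theorem isIrr_twist (φ : P →* MulAut G) (s : P) {χ : G → ℂ} (h : IsIrrCharacter G χ) :
    IsIrrCharacter G (fun g => χ (φ s g)) :=
  isIrrCharacter_comp_surjective h (φ s).toMonoidHom (φ s).surjective

/-- The action on functions restricted to irreducible characters. -/
noncomputable abbrev irrAction (φ : P →* MulAut G) : MulAction P (IrrCharacter G) where
  smul s χ := ⟨fun g => (χ : G → ℂ) (φ s⁻¹ g), isIrr_twist φ s⁻¹ χ.2⟩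
  one_smul χ := by
    apply Subtype.ext; funext g
    show (χ : G → ℂ) (φ (1 : P)⁻¹ g) = _
    simp
  mul_smul s t χ := by
    apply Subtype.ext; funext g
    show (χ : G → ℂ) (φ (s * t)⁻¹ g) = (χ : G → ℂ) (φ t⁻¹ (φ s⁻¹ g))
    rw [mul_inv_rev, map_mul]; rfl

/-- The action on the group through `φ`. -/
abbrev grpAction (φ : P →* MulAut G) : MulAction P G where
  smul s g := φ s g
  one_smul g := by show φ 1 g = g; simp
  mul_smul s t g := by show φ (s * t) g = φ s (φ t g); rw [map_mul]; rfl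

/-- The standing hypotheses: a `p`-group acting on a `p'`-group `G`, `ι` onto the fixed points. -/
structure Setup (p : ℕ) (M : Ideal AlgInt) (φ : P →* MulAut G) {C : Type v} [Group C]
    (ι : C →* G) : Prop where
  hM : IsPModular p M
  hP : IsPGroup p P
  hG : ¬ p ∣ Nat.card G
  inj : Function.Injective ι
  fix : ∀ g : G, (∃ c, ι c = g) ↔ ∀ s, φ s g = g

variable {p : ℕ} {M : Ideal AlgInt} {C : Type v} [Group C] {φ : P →* MulAut G} {ι : C →* G}

theorem Setup.apply_fix (h : Setup p M φ ι) (s : P) (c : C) : φ s (ι c) = ι c :=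
  (h.fix _).1 ⟨c, rfl⟩ s

theorem Setup.not_dvd_C [Finite G] (h : Setup p M φ ι) : ¬ p ∣ Nat.card C := fun hd =>
  h.hG (hd.trans (Subgroup.card_dvd_of_injective ι h.inj))

theorem natCast_ne_zero (hM : IsPModular p M) {n : ℕ} (hn : ¬ p ∣ n) :
    (n : AlgInt ⧸ M) ≠ 0 := by
  haveI := res_charP hM
  rwa [Ne, CharP.cast_eq_zero_iff (AlgInt ⧸ M) p]

theorem natCast_eq_zero_iff (hM : IsPModular p M) (n : ℕ) :
    (n : AlgInt ⧸ M) = 0 ↔ p ∣ n := by
  haveI := res_charP hM
  exact CharP.cast_eq_zero_iff (AlgInt ⧸ M) p n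

/-- Sum of an invariant function over `G` reduces to the sum over the fixed points. -/
theorem Setup.sum_fix [Fintype G] [Fintype C] (h : Setup p M φ ι) (f : G → AlgInt ⧸ M)
    (hf : ∀ s g, f (φ s g) = f g) : ∑ g, f g = ∑ c, f (ι c) := by
  classical
  letI := grpAction φ
  rw [sum_fixedPoints h.hM h.hP f hf]
  have e : Finset.univ.filter (· ∈ MulAction.fixedPoints P G) = Finset.univ.image ι := by
    ext g
    simp only [Finset.mem_filter, Finset.mem_univ, true_and, Finset.mem_image,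
      MulAction.mem_fixedPoints]
    exact ((h.fix g).trans Iff.rfl).symm
  rw [e, Finset.sum_image fun a _ b _ e => h.inj e]

/-- The centralizer of a fixed point reduces to the centralizer in the fixed points. -/
theorem Setup.card_centralizer_modEq [Finite G] (h : Setup p M φ ι) (c : C) :
    (Nat.card (Subgroup.centralizer ({ι c} : Set G)) : AlgInt ⧸ M) =
      (Nat.card (Subgroup.centralizer ({c} : Set C)) : AlgInt ⧸ M) := by
  classical
  haveI := Fintype.ofFinite G
  haveI : Finite C := Finite.of_injective ι h.inj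
  haveI := Fintype.ofFinite C
  have h1 := h.sum_fix (fun g => if g * ι c = ι c * g then 1 else 0) (fun s g => by
    have e : (φ s g) * ι c = ι c * φ s g ↔ g * ι c = ι c * g := by
      conv_lhs => rw [← h.apply_fix s c]; rw [← map_mul, ← map_mul]
      exact (φ s).injective.eq_iff
    by_cases hg : g * ι c = ι c * g
    · rw [if_pos hg, if_pos (e.2 hg)]
    · rw [if_neg hg, if_neg fun hh => hg (e.1 hh)])
  rw [Finset.sum_boole, Finset.sum_boole] at h1
  rw [Nat.card_eq_fintype_card, Nat.card_eq_fintype_card,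
    Fintype.card_of_subtype (Finset.univ.filter fun g : G => g * ι c = ι c * g),
    Fintype.card_of_subtype (Finset.univ.filter fun a : C => ι a * ι c = ι c * ι a)]
  · exact h1
  · intro a
    simp only [Finset.mem_filter, Finset.mem_univ, true_and, Subgroup.mem_centralizer_singleton_iff]
    rw [← map_mul, ← map_mul]
    exact ⟨fun e => h.inj e, fun e => congrArg ι e⟩
  · intro g
    simp only [Finset.mem_filter, Finset.mem_univ, true_and, Subgroup.mem_centralizer_singleton_iff]

/-- Fusion of fixed points happens among fixed points. -/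
theorem Setup.fusion [Finite G] (h : Setup p M φ ι) {a b : C} (hab : IsConj (ι a) (ι b)) :
    IsConj a b := by
  classical
  haveI : Fact p.Prime := ⟨h.hM.1⟩
  obtain ⟨g, hg⟩ := isConj_iff.1 hab
  letI := grpAction φ
  let T : SubMulAction P G :=
    { carrier := {x | x * ι a * x⁻¹ = ι b}
      smul_mem' := fun s x hx => by
        show φ s x * ι a * (φ s x)⁻¹ = ι b
        conv_lhs => rw [← h.apply_fix s a]
        rw [← map_inv, ← map_mul, ← map_mul, show x * ι a * x⁻¹ = ι b from hx, h.apply_fix] }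
  have hcard : Nat.card T = Nat.card (Subgroup.centralizer ({ι a} : Set G)) := by
    refine Nat.card_congr
      { toFun := fun x => ⟨g⁻¹ * x.1, ?_⟩
        invFun := fun y => ⟨g * y.1, ?_⟩
        left_inv := fun x => by simp
        right_inv := fun y => by simp }
    · rw [Subgroup.mem_centralizer_singleton_iff]
      have hx : x.1 * ι a * x.1⁻¹ = g * ι a * g⁻¹ := x.2.trans hg.symm
      calc g⁻¹ * x.1 * ι a = g⁻¹ * (x.1 * ι a * x.1⁻¹) * x.1 := by group
        _ = g⁻¹ * (g * ι a * g⁻¹) * x.1 := by rw [hx]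
        _ = ι a * (g⁻¹ * x.1) := by group
    · have hy := Subgroup.mem_centralizer_singleton_iff.1 y.2
      show g * y.1 * ι a * (g * y.1)⁻¹ = ι b
      rw [mul_assoc g, hy, ← hg]; group
  have hne : ¬ p ∣ Nat.card T := by
    rw [hcard]
    exact fun hd => h.hG (hd.trans (Subgroup.card_subgroup_dvd_card _))
  obtain ⟨x, hx⟩ := h.hP.nonempty_fixed_point_of_prime_not_dvd_card T hne
  obtain ⟨c, hc⟩ := (h.fix x.1).2 fun s => congrArg Subtype.val (hx s)
  refine isConj_iff.2 ⟨c, h.inj ?_⟩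
  rw [map_mul, map_mul, map_inv, hc]
  exact x.2

variable [Fintype G] [Fintype C]

open Classical in
/-- The fixed characters. -/
noncomputable def invSet (φ : P →* MulAut G) : Finset (IrrCharacter G) :=
  Finset.univ.filter fun χ => Inv φ (χ : G → ℂ)

theorem mem_invSet {χ : IrrCharacter G} : χ ∈ invSet φ ↔ Inv φ (χ : G → ℂ) := by
  classical
  simp [invSet]

/-- Second orthogonality on the fixed points, modulo `p`. -/
theorem Setup.col (h : Setup p M φ ι) (x c : C) :
    ∑ χ ∈ invSet φ, res h.hM ((χ : G → ℂ) (ι x) * conj ((χ : G → ℂ) (ι c))) =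
      ∑ ψ : IrrCharacter C, res h.hM ((ψ : C → ℂ) x * conj ((ψ : C → ℂ) c)) := by
  classical
  letI := irrAction φ
  have hfix : invSet φ = Finset.univ.filter (· ∈ MulAction.fixedPoints P (IrrCharacter G)) := by
    ext χ
    simp only [mem_invSet, Finset.mem_filter, Finset.mem_univ, true_and, MulAction.mem_fixedPoints]
    constructor
    · intro hi s
      exact Subtype.ext (funext fun g => hi s⁻¹ g)
    · intro hi s g
      have := congrFun (congrArg Subtype.val (hi s⁻¹)) g
      have e : ((s⁻¹ • χ : IrrCharacter G) : G → ℂ) g = (χ : G → ℂ) (φ s⁻¹⁻¹ g) := rfl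
      rw [← this, e, inv_inv]
  have hmG : ∀ (χ : IrrCharacter G) (a b : G),
      MemLocalRing M ((χ : G → ℂ) a * conj ((χ : G → ℂ) b)) := fun χ a b =>
    (loc h.hM).mul_mem (memRing_irr h.hM χ a) (by rw [irr_conjInv]; exact memRing_irr h.hM χ _)
  rw [hfix, ← sum_fixedPoints h.hM h.hP
    (fun χ : IrrCharacter G => res h.hM ((χ : G → ℂ) (ι x) * conj ((χ : G → ℂ) (ι c))))]
  · rw [← res_sum h.hM (fun χ _ => hmG χ _ _),
      ← res_sum h.hM (fun ψ _ => (loc h.hM).mul_mem (memRing_irr h.hM ψ x)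
        (by rw [irr_conjInv]; exact memRing_irr h.hM ψ _)),
      sum_irr_mul_conj, sum_irr_mul_conj]
    by_cases hc : IsConj x c
    · rw [if_pos hc, if_pos (ι.map_isConj hc), res_natCast, res_natCast,
        h.card_centralizer_modEq]
    · rw [if_neg hc, if_neg fun e => hc (h.fusion e)]
  · intro s χ
    show res h.hM ((χ : G → ℂ) (φ s⁻¹ (ι x)) * conj ((χ : G → ℂ) (φ s⁻¹ (ι c)))) = _
    rw [h.apply_fix, h.apply_fix]

theorem memRing_conj_irr {X : Type*} [Group X] [Fintype X] (hM : IsPModular p M)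
    (χ : IrrCharacter X) (g : X) : MemLocalRing M (conj ((χ : X → ℂ) g)) := by
  rw [irr_conjInv]; exact memRing_irr hM χ _

/-- Orthogonality of the multiplicity columns. -/
theorem Setup.mult_col [DecidableEq (IrrCharacter C)] (h : Setup p M φ ι)
    (β β' : IrrCharacter C) :
    ∑ χ ∈ invSet φ, (mult ι χ β : AlgInt ⧸ M) * (mult ι χ β' : AlgInt ⧸ M) =
      if β = β' then 1 else 0 := by
  classical
  haveI := res_isDomain h.hM
  have hcne : (Nat.card C : AlgInt ⧸ M) ≠ 0 := natCast_ne_zero h.hM h.not_dvd_C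
  have hC : (Nat.card C : ℂ) ≠ 0 := Nat.cast_ne_zero.mpr Nat.card_pos.ne'
  -- evaluate the two sides of `col` against `conj β x * β' c`
  have key : ∀ (K : Type (max u v)) (s : Finset K) (f : K → C → ℂ)
      (hf : ∀ k x, MemLocalRing M (f k x)) (hfc : ∀ k x, MemLocalRing M (conj (f k x))),
      ∑ x : C, ∑ c : C, res h.hM (conj ((β : C → ℂ) x) * (β' : C → ℂ) c) *
        ∑ k ∈ s, res h.hM (f k x * conj (f k c)) =
      ∑ k ∈ s, res h.hM ((∑ x, f k x * conj ((β : C → ℂ) x)) *
        conj (∑ c, f k c * conj ((β' : C → ℂ) c))) := by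
    intro K s f hf hfc
    have hb : ∀ x c, MemLocalRing M (conj ((β : C → ℂ) x) * (β' : C → ℂ) c) := fun x c =>
      (loc h.hM).mul_mem (memRing_conj_irr h.hM β x) (memRing_irr h.hM β' c)
    have ht : ∀ (k : K) x c, MemLocalRing M
        ((f k x * conj ((β : C → ℂ) x)) * (conj (f k c) * (β' : C → ℂ) c)) := fun k x c =>
      (loc h.hM).mul_mem ((loc h.hM).mul_mem (hf k x) (memRing_conj_irr h.hM β x))
        ((loc h.hM).mul_mem (hfc k c) (memRing_irr h.hM β' c))
    have hexp : ∀ k : K, res h.hM ((∑ x, f k x * conj ((β : C → ℂ) x)) *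
        conj (∑ c, f k c * conj ((β' : C → ℂ) c))) =
        ∑ x, ∑ c, res h.hM (conj ((β : C → ℂ) x) * (β' : C → ℂ) c) *
          res h.hM (f k x * conj (f k c)) := by
      intro k
      simp only [map_sum, map_mul, Complex.conj_conj]
      rw [Finset.sum_mul_sum, res_sum h.hM fun x _ => memRing_sum h.hM fun c _ => ht k x c]
      refine Finset.sum_congr rfl fun x _ => ?_
      rw [res_sum h.hM fun c _ => ht k x c]
      refine Finset.sum_congr rfl fun c _ => ?_
      rw [← res_mul h.hM (hb _ _) ((loc h.hM).mul_mem (hf k _) (hfc k _))]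
      congr 1
      ring
    simp only [hexp, Finset.mul_sum]
    symm
    rw [Finset.sum_comm]
    exact Finset.sum_congr rfl fun x _ => Finset.sum_comm
  have hinner : ∀ (f : C → ℂ) (γ : IrrCharacter C),
      ∑ x, f x * conj ((γ : C → ℂ) x) = (Nat.card C : ℂ) * classInner f (γ : C → ℂ) := by
    intro f γ
    rw [classInner, ← mul_assoc, mul_inv_cancel₀ hC, one_mul]
  have L : ∀ χ : IrrCharacter G,
      res h.hM ((∑ x, (χ : G → ℂ) (ι x) * conj ((β : C → ℂ) x)) *
        conj (∑ c, (χ : G → ℂ) (ι c) * conj ((β' : C → ℂ) c))) =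
      (Nat.card C : AlgInt ⧸ M) ^ 2 * ((mult ι χ β : AlgInt ⧸ M) * (mult ι χ β' : AlgInt ⧸ M)) := by
    intro χ
    rw [hinner, hinner, mult_spec, mult_spec, map_mul, map_natCast, map_natCast, ← Nat.cast_mul,
      ← Nat.cast_mul, ← Nat.cast_mul, res_natCast]
    push_cast; ring
  have R : ∀ ψ : IrrCharacter C,
      res h.hM ((∑ x, (ψ : C → ℂ) x * conj ((β : C → ℂ) x)) *
        conj (∑ c, (ψ : C → ℂ) c * conj ((β' : C → ℂ) c))) =
      (Nat.card C : AlgInt ⧸ M) ^ 2 * (if ψ = β ∧ ψ = β' then 1 else 0) := by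
    intro ψ
    rw [hinner, hinner, classInner_irr ψ.2 β.2, classInner_irr ψ.2 β'.2]
    by_cases h1 : ψ = β
    · by_cases h2 : ψ = β'
      · rw [if_pos (congrArg Subtype.val h1), if_pos (congrArg Subtype.val h2), if_pos ⟨h1, h2⟩,
          mul_one, map_natCast, ← Nat.cast_mul, res_natCast]
        push_cast; ring
      · rw [if_neg (fun e => h2 (Subtype.ext e) : ¬ (ψ : C → ℂ) = (β' : C → ℂ)),
          if_neg (fun e => h2 e.2 : ¬ (ψ = β ∧ ψ = β'))]
        simp [res_zero]
    · rw [if_neg (fun e => h1 (Subtype.ext e) : ¬ (ψ : C → ℂ) = (β : C → ℂ)),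
        if_neg (fun e => h1 e.1 : ¬ (ψ = β ∧ ψ = β'))]
      simp [res_zero]
  have e1 := key (ULift.{max u v} (IrrCharacter G))
    ((invSet φ).map Equiv.ulift.symm.toEmbedding) (fun χ x => (χ.down : G → ℂ) (ι x))
    (fun χ x => memRing_irr h.hM χ.down _) (fun χ x => memRing_conj_irr h.hM χ.down _)
  have e2 := key (ULift.{max u v} (IrrCharacter C))
    ((Finset.univ : Finset (IrrCharacter C)).map Equiv.ulift.symm.toEmbedding)
    (fun ψ x => (ψ.down : C → ℂ) x)
    (fun ψ x => memRing_irr h.hM ψ.down _) (fun ψ x => memRing_conj_irr h.hM ψ.down _)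
  simp only [Finset.sum_map, Equiv.coe_toEmbedding, Equiv.ulift_symm_down] at e1 e2
  simp only [h.col] at e1
  rw [e2] at e1
  simp only [L, R, ← Finset.mul_sum] at e1
  rw [← mul_left_cancel₀ (pow_ne_zero 2 hcne) e1]
  by_cases hb : β = β'
  · subst hb; simp
  · rw [if_neg hb]
    refine Finset.sum_eq_zero fun ψ _ => if_neg fun e => hb (e.1.symm.trans e.2)

/-- Two different fixed characters share no constituent with multiplicity prime to `p`. -/
theorem Setup.mult_disjoint (h : Setup p M φ ι) {χ χ' : IrrCharacter G}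
    (hχ : Inv φ (χ : G → ℂ)) (hχ' : Inv φ (χ' : G → ℂ)) (hne : χ ≠ χ') (β : IrrCharacter C) :
    (mult ι χ β : AlgInt ⧸ M) * (mult ι χ' β : AlgInt ⧸ M) = 0 := by
  classical
  haveI := res_isDomain h.hM
  have hcne : (Nat.card C : AlgInt ⧸ M) ≠ 0 := natCast_ne_zero h.hM h.not_dvd_C
  have hC : (Nat.card C : ℂ) ≠ 0 := Nat.cast_ne_zero.mpr Nat.card_pos.ne'
  -- over `G` the convolution vanishes
  have hzero : ∀ y : G, ∑ x, conj ((χ : G → ℂ) x) * (χ' : G → ℂ) (x * y) = 0 := by
    intro y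
    rw [sum_classFun_mul_shift (fun g k => by show conj _ = conj _; rw [irr_isClassFun χ g k]) χ' y]
    have h0 : classInner (χ' : G → ℂ) (χ : G → ℂ) = 0 :=
      classInner_irr_ne χ'.2 χ.2 fun e => hne (Subtype.ext e.symm)
    rw [classInner] at h0
    have h1 := (mul_eq_zero.1 h0).resolve_left (inv_ne_zero (Nat.cast_ne_zero.mpr Nat.card_pos.ne'))
    rw [omega, show ∑ g, conj ((χ : G → ℂ) g) * (χ' : G → ℂ) g =
      ∑ g, (χ' : G → ℂ) g * conj ((χ : G → ℂ) g) from Finset.sum_congr rfl fun g _ => mul_comm _ _,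
      h1, zero_div, zero_mul]
  have hC0 : ∀ c : C, res h.hM (∑ a, conj ((χ : G → ℂ) (ι a)) * (χ' : G → ℂ) (ι a * ι c)) = 0 := by
    intro c
    have hm : ∀ x, MemLocalRing M (conj ((χ : G → ℂ) x) * (χ' : G → ℂ) (x * ι c)) := fun x =>
      (loc h.hM).mul_mem (memRing_conj_irr h.hM χ x) (memRing_irr h.hM χ' _)
    rw [res_sum h.hM fun a _ => hm _, ← h.sum_fix
      (fun x => res h.hM (conj ((χ : G → ℂ) x) * (χ' : G → ℂ) (x * ι c))), ← res_sum h.hM
        fun a _ => hm _, hzero, res_zero]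
    intro s g
    show res h.hM _ = res h.hM _
    conv_lhs => rw [← h.apply_fix s c]
    rw [← map_mul, hχ s, hχ' s]
  -- pair with `β`
  obtain ⟨d, hd0, hd⟩ := irr_degree_pos β.2
  have hdC : (d : ℂ) ≠ 0 := Nat.cast_ne_zero.mpr hd0.ne'
  set f : C → ℂ := fun x => (χ' : G → ℂ) (ι x) with hf
  have hfc : IsClassFunction C f :=
    isClassFunction_char (isCharacter_comp (isCharacter_of_irr χ'.2) ι)
  have hω : omega (conjIrr β : C → ℂ) f * (d : ℂ) = (Nat.card C : ℂ) * mult ι χ' β := by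
    rw [omega, conjIrr_apply, irr_one_conj, hd, div_mul_cancel₀ _ hdC, ← mult_spec, classInner,
      ← mul_assoc, mul_inv_cancel₀ hC, one_mul]
    rfl
  have hinner : ∀ a : C, (∑ c, conj ((β : C → ℂ) c) * (χ' : G → ℂ) (ι a * ι c)) * (d : ℂ) =
      (Nat.card C : ℂ) * mult ι χ' β * (β : C → ℂ) a := by
    intro a
    have e := sum_classFun_mul_shift hfc (conjIrr β) a⁻¹
    have e' : ∑ c, conj ((β : C → ℂ) c) * (χ' : G → ℂ) (ι a * ι c) =
        ∑ x, f x * (conjIrr β : C → ℂ) (x * a⁻¹) := by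
      refine Fintype.sum_equiv (Equiv.mulLeft a) _ _ fun c => ?_
      rw [Equiv.coe_mulLeft, conjIrr_apply, hf]
      dsimp only
      rw [map_mul, classFun_conj_apply (irr_isClassFun β) (a * c) a⁻¹, inv_mul_cancel_left,
        mul_comm]
    rw [e', e, conjIrr_apply, irr_inv, Complex.conj_conj, mul_comm (omega _ f), mul_assoc, hω,
      mul_comm]
  have htot : (∑ c, conj ((β : C → ℂ) c) *
        ∑ a, conj ((χ : G → ℂ) (ι a)) * (χ' : G → ℂ) (ι a * ι c)) * (d : ℂ) =
      ((Nat.card C * Nat.card C * (mult ι χ β * mult ι χ' β) : ℕ) : ℂ) := by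
    simp only [Finset.mul_sum]
    rw [Finset.sum_comm, Finset.sum_mul]
    have : ∀ a : C, (∑ c, conj ((β : C → ℂ) c) * (conj ((χ : G → ℂ) (ι a)) *
        (χ' : G → ℂ) (ι a * ι c))) * (d : ℂ) =
        (Nat.card C : ℂ) * mult ι χ' β * conj ((χ : G → ℂ) (ι a) * conj ((β : C → ℂ) a)) := by
      intro a
      rw [show ∑ c, conj ((β : C → ℂ) c) * (conj ((χ : G → ℂ) (ι a)) *
          (χ' : G → ℂ) (ι a * ι c)) = conj ((χ : G → ℂ) (ι a)) *
          ∑ c, conj ((β : C → ℂ) c) * (χ' : G → ℂ) (ι a * ι c) by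
        rw [Finset.mul_sum]; exact Finset.sum_congr rfl fun c _ => by ring,
        mul_assoc, hinner, map_mul, Complex.conj_conj]
      ring
    rw [Finset.sum_congr rfl fun a _ => this a, ← Finset.mul_sum, ← map_sum]
    have e := mult_spec ι χ β
    rw [classInner] at e
    have e2 : ∑ a, (χ : G → ℂ) (ι a) * conj ((β : C → ℂ) a) = (Nat.card C : ℂ) * mult ι χ β := by
      rw [← e, ← mul_assoc, mul_inv_cancel₀ hC, one_mul]
    rw [e2, map_mul, map_natCast, map_natCast]
    push_cast; ring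
  have hres := congrArg (res h.hM) htot
  have hmem : ∀ c : C, MemLocalRing M
      (∑ a, conj ((χ : G → ℂ) (ι a)) * (χ' : G → ℂ) (ι a * ι c)) := fun c =>
    memRing_sum h.hM fun a _ =>
      (loc h.hM).mul_mem (memRing_conj_irr h.hM χ _) (memRing_irr h.hM χ' _)
  rw [res_mul h.hM (memRing_sum h.hM fun c _ => (loc h.hM).mul_mem (memRing_conj_irr h.hM β c)
      (hmem c)) (natCast_mem (loc h.hM) d), res_sum h.hM fun c _ =>
      (loc h.hM).mul_mem (memRing_conj_irr h.hM β c) (hmem c), res_natCast, res_natCast] at hres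
  rw [Finset.sum_eq_zero (fun c _ => by
    rw [res_mul h.hM (memRing_conj_irr h.hM β c) (hmem c), hC0, mul_zero]), zero_mul] at hres
  push_cast at hres
  exact (mul_eq_zero.1 hres.symm).resolve_left (mul_ne_zero hcne hcne)

/-- Every irreducible character of the fixed points comes from exactly one fixed character. -/
theorem Setup.exists_unique_over (h : Setup p M φ ι) (β : IrrCharacter C) :
    ∃ χ : IrrCharacter G, Inv φ (χ : G → ℂ) ∧
      (mult ι χ β : AlgInt ⧸ M) * (mult ι χ β : AlgInt ⧸ M) = 1 ∧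
      ∀ χ' : IrrCharacter G, Inv φ (χ' : G → ℂ) → χ' ≠ χ → (mult ι χ' β : AlgInt ⧸ M) = 0 := by
  classical
  haveI := res_isDomain h.hM
  have h1 := h.mult_col β β
  rw [if_pos rfl] at h1
  obtain ⟨χ, hχ, hne⟩ := Finset.exists_ne_zero_of_sum_ne_zero (h1 ▸ one_ne_zero)
  have hχi := mem_invSet.1 hχ
  have hm : (mult ι χ β : AlgInt ⧸ M) ≠ 0 := left_ne_zero_of_mul hne
  have hoth : ∀ χ' : IrrCharacter G, Inv φ (χ' : G → ℂ) → χ' ≠ χ →
      (mult ι χ' β : AlgInt ⧸ M) = 0 := fun χ' h' hn =>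
    (mul_eq_zero.1 (h.mult_disjoint h' hχi hn β)).resolve_right hm
  refine ⟨χ, hχi, ?_, hoth⟩
  rw [Finset.sum_eq_single χ (fun χ' h' hn => by rw [hoth χ' (mem_invSet.1 h') hn, zero_mul])
    (fun hh => absurd hχ hh)] at h1
  exact h1

/-- Every fixed character has a constituent of multiplicity prime to `p`, and only one. -/
theorem Setup.exists_unique_under (h : Setup p M φ ι) (χ : IrrCharacter G)
    (hχ : Inv φ (χ : G → ℂ)) :
    ∃ β : IrrCharacter C, (mult ι χ β : AlgInt ⧸ M) ≠ 0 ∧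
      ∀ β' : IrrCharacter C, β' ≠ β → (mult ι χ β' : AlgInt ⧸ M) = 0 := by
  classical
  haveI := res_isDomain h.hM
  have hex : ∃ β : IrrCharacter C, (mult ι χ β : AlgInt ⧸ M) ≠ 0 := by
    by_contra hh
    obtain ⟨d, hd0, hd⟩ := irr_degree_pos χ.2
    have hdvd : d ∣ Nat.card G := by
      obtain ⟨n, ρ, hρ, hρχ⟩ := χ.2
      haveI := hρ
      have e : (n : ℂ) = d := by
        rw [← hd, ← hρχ, ρ.char_one, Module.finrank_fintype_fun_eq_card, Fintype.card_fin]
      have := finrank_dvd_card ρ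
      rw [Module.finrank_fintype_fun_eq_card, Fintype.card_fin, Nat.cast_inj.1 e] at this
      exact this
    have e := apply_eq_sum_mult ι χ 1
    rw [map_one, hd] at e
    have e2 := congrArg (res h.hM) e
    rw [res_natCast, res_sum h.hM fun β _ => (loc h.hM).mul_mem (natCast_mem (loc h.hM) _)
      (memRing_irr h.hM β 1), Finset.sum_eq_zero fun β _ => by
        rw [res_mul h.hM (natCast_mem (loc h.hM) _) (memRing_irr h.hM β 1), res_natCast,
          not_not.1 fun hb => hh ⟨β, hb⟩, zero_mul]] at e2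
    exact natCast_ne_zero h.hM (fun hp => h.hG (hp.trans hdvd)) e2
  obtain ⟨β, hβ⟩ := hex
  refine ⟨β, hβ, fun β' hne => ?_⟩
  by_contra hβ'
  have h1 := h.mult_col β β'
  rw [if_neg (fun e => hne e.symm), Finset.sum_eq_single χ (fun χ' h' hn => ?_)
    (fun hh => absurd (mem_invSet.2 hχ) hh)] at h1
  · exact (mul_ne_zero hβ hβ') h1
  · rw [(mul_eq_zero.1 (h.mult_disjoint (mem_invSet.1 h') hχ hn β)).resolve_right hβ, zero_mul]

theorem Setup.mult_pm (h : Setup p M φ ι) (χ : IrrCharacter G) (hχ : Inv φ (χ : G → ℂ))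
    (β : IrrCharacter C) (hm : (mult ι χ β : AlgInt ⧸ M) ≠ 0) :
    (mult ι χ β : AlgInt ⧸ M) = 1 ∨ (mult ι χ β : AlgInt ⧸ M) = -1 := by
  haveI := res_isDomain h.hM
  obtain ⟨χ', hi, h1, hu⟩ := h.exists_unique_over β
  by_cases he : χ = χ'
  · subst he; exact mul_self_eq_one_iff.1 h1
  · exact absurd (hu χ hχ he) hm

end CfsgLib.Glauberman
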