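import Cfsg.Agent.Lib.Glauberman.Ambient
import Cfsg.Agent.Lib.CharTheory.AbelianInertia
import Cfsg.Agent.Lib.CharTheory.Gallagher
import Cfsg.Agent.Lib.Coprime

/-!
# Invariant constituents under coprime operators
-/

namespace CfsgLib.Glauberman.Invariant

open Cfsg CfsgLib.CharTheory CfsgLib.Glauberman
open scoped ComplexConjugate Pointwise

set_option linter.unusedVariables false
set_option linter.unusedSectionVars false

universe u v w

/-- Averaging: operators of order prime to the exponent fix a point of a torsor. -/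
theorem torsor_fixed_point {L : Type u} [CommGroup L] {X : Type v} [MulAction L X] {S : Type w}
    [Group S] [MulAction S X] (α : S → L →* L) (hα : ∀ (s : S) (l : L) (x : X), s • l • x = α s l • s • x)
    [Nonempty X] [MulAction.IsPretransitive L X] (K : Subgroup S) [Finite (S ⧸ K)]
    (hK : ∀ k ∈ K, ∀ x : X, k • x = x) {m : ℕ} (hm : ∀ l : L, l ^ m = 1)
    (hcop : K.index.Coprime m) : ∃ x : X, ∀ s : S, s • x = x := by
  classical
  haveI := Fintype.ofFinite (S ⧸ K)
  obtain ⟨x₀⟩ := ‹Nonempty X›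
  choose c hc using fun s : S => MulAction.exists_smul_eq L x₀ (s • x₀)
  let H := MulAction.stabilizer L x₀
  let π := QuotientGroup.mk' H
  have hπ : ∀ a a' : L, π a = π a' ↔ a • x₀ = a' • x₀ := fun a a' => by
    show (a : L ⧸ H) = a' ↔ _
    rw [QuotientGroup.eq, MulAction.mem_stabilizer_iff, mul_smul, inv_smul_eq_iff, eq_comm]
  let e : L := ∏ q : S ⧸ K, c q.out
  have hstep : ∀ (b : S) (q : S ⧸ K), π (α b (c q.out)) * π (c b) = π (c (b • q).out) := by
    intro b q
    rw [← map_mul, hπ, mul_smul, hc b, ← hα, hc, hc, ← mul_smul]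
    have h1 : (((b * q.out : S)) : S ⧸ K) = ((b • q).out : S ⧸ K) := by
      rw [QuotientGroup.out_eq', ← smul_eq_mul, ← MulAction.Quotient.smul_mk, QuotientGroup.out_eq']
    obtain ⟨k, hk, hk'⟩ : ∃ k ∈ K, b * q.out * k = (b • q).out :=
      ⟨(b * q.out)⁻¹ * (b • q).out, QuotientGroup.eq.1 h1, by group⟩
    rw [← hk', mul_smul (b * q.out) k, hK k hk]
  have he : ∀ b : S, π (α b e) * π (c b) ^ K.index = π e := fun b => by
    rw [map_prod, map_prod, map_prod, Subgroup.index_eq_card, Nat.card_eq_fintype_card,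
      ← Finset.card_univ, ← Finset.prod_const, ← Finset.prod_mul_distrib,
      Finset.prod_congr rfl fun q _ => hstep b q]
    exact Fintype.prod_equiv (MulAction.toPerm b) (fun q : S ⧸ K => π (c (b • q).out))
      (fun q => π (c q.out)) fun q => rfl
  obtain ⟨a, t, hat⟩ : ∃ a t : ℤ, (K.index : ℤ) * a + (m : ℤ) * t = 1 := by
    refine ⟨Nat.gcdA K.index m, Nat.gcdB K.index m, ?_⟩
    have := Nat.gcd_eq_gcd_ab K.index m
    rw [hcop.gcd_eq_one, Nat.cast_one] at this
    exact this.symm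
  refine ⟨(e ^ a) • x₀, fun b => ?_⟩
  rw [hα, ← hc b, ← mul_smul, ← hπ, map_mul, map_zpow, map_zpow, map_zpow]
  have h1 : π (c b) = (π (c b) ^ K.index) ^ a := by
    conv_lhs => rw [← zpow_one (π (c b)), ← hat]
    rw [zpow_add, zpow_mul, zpow_mul, zpow_natCast, zpow_natCast, ← map_pow π (c b) m, hm, map_one,
      one_zpow, mul_one]
  rw [h1, ← mul_zpow, he]

/-- Coprime operators fix a point of a transitive action: the group form. -/
theorem exists_conj_le {U : Type u} [Group U] [Finite U] (Q S H : Subgroup U) [Q.Normal]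
    (hcop : (Nat.card Q).Coprime (Nat.card S)) (hQS : Q ⊔ S = ⊤) (hQH : Q ⊔ H = ⊤)
    (hsolv : Group.IsSolvable Q ∨ Group.IsSolvable (U ⧸ Q)) :
    ∃ g : U, ∀ s ∈ S, g * s * g⁻¹ ∈ H := by
  have hS : Subgroup.IsComplement' Q S := by
    refine Subgroup.isComplement'_of_disjoint_and_mul_eq_univ
      (Subgroup.disjoint_def.2 fun {x} hxQ hxS => orderOf_eq_one_iff.1 ?_) ?_
    · exact Nat.eq_one_of_dvd_coprimes hcop
        (Subgroup.orderOf_mk x hxQ ▸ orderOf_dvd_natCard (⟨x, hxQ⟩ : Q))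
        (Subgroup.orderOf_mk x hxS ▸ orderOf_dvd_natCard (⟨x, hxS⟩ : S))
    · rw [← Subgroup.normal_mul, hQS, Subgroup.coe_top]
  have hcop' : (Nat.card Q).Coprime Q.index := by rwa [hS.symm.index_eq_card]
  have hidx : (Q.subgroupOf H).index = Q.index := by
    have h := Subgroup.relIndex_sup_right H Q
    rw [sup_comm, hQH, Subgroup.relIndex_top_right] at h
    exact h.symm
  obtain ⟨L, hL⟩ := Subgroup.exists_right_complement'_of_coprime (N := Q.subgroupOf H)
    (by
      rw [hidx]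
      exact hcop'.coprime_dvd_left
        (Subgroup.card_comap_dvd_of_injective Q H.subtype H.subtype_injective))
  have hL' : Subgroup.IsComplement' Q (L.map H.subtype) := isComplement'_of_card hcop' (by
    rw [Subgroup.card_map_of_injective H.subtype_injective, ← hL.symm.index_eq_card, hidx])
  obtain ⟨g, hg⟩ := complements_conj hcop' hsolv hL' hS
  refine ⟨g⁻¹, fun s hs => ?_⟩
  rw [← hg, mem_conj_smul_iff] at hs
  rw [inv_inv]
  exact Subgroup.map_subtype_le L hs

variable {G : Type u} [Group G]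

/-- Extensions of a character across an abelian factor, permuted transitively by linear
characters. -/
theorem exists_linear_mul [Fintype G] (N : Subgroup G) [N.Normal] [Fintype N]
    (hab : ∀ x y : G, x * y * x⁻¹ * y⁻¹ ∈ N) {θ : N → ℂ} (hθ : IsIrrCharacter N θ)
    {ψ ψ' : G → ℂ} (hψ : IsIrrCharacter G ψ) (hψ' : IsIrrCharacter G ψ')
    (h : classInner (fun n : N => ψ n) θ ≠ 0) (h' : classInner (fun n : N => ψ' n) θ ≠ 0) :
    ∃ l : G →* ℂˣ, (∀ n ∈ N, l n = 1) ∧ ψ' = ψ * fun g => (l g : ℂ) := by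
  classical
  have hcl := isClassFunction_irr hψ
  have hJ : IsCharacter G (indFun N (fun _ => (1 : ℂ))) :=
    isCharacter_indFun N (isCharacter_of_irr isIrrCharacter_one)
  have h1 : classInner (indFun N (fun _ => (1 : ℂ)) * ψ) ψ' ≠ 0 := by
    rw [← indFun_mul N _ hcl, frobenius_reciprocity N _ (isClassFunction_irr hψ')]
    rw [show ((fun _ => (1 : ℂ)) * fun n : N => ψ n) = fun n : N => ψ n from funext fun n => one_mul _]
    exact classInner_ne_zero_of_common (isCharacter_restrict (isCharacter_of_irr hψ) N)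
      (isCharacter_restrict (isCharacter_of_irr hψ') N) hθ h h'
  rw [eq_sum_irr (isClassFunction_char hJ), Finset.sum_mul, classInner_sum_left] at h1
  obtain ⟨β, -, hβ⟩ := Finset.exists_ne_zero_of_sum_ne_zero h1
  rw [smul_mul_assoc, classInner_smul_left, mul_ne_zero_iff] at hβ
  have hk := (classInner_indFun_one_ne_zero_iff N β.2).1 hβ.1
  have hd := irr_degree_one_of_kernel_commutator N hab β.2 hk
  obtain ⟨l, hl⟩ := exists_hom_of_degree_one (isCharacter_of_irr β.2) hd
  refine ⟨l, fun n hn => Units.ext ?_, ?_⟩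
  · have := hk n hn
    rw [hl] at this
    simpa using this
  · have hirr : IsIrrCharacter G ((β : G → ℂ) * ψ) := by
      rw [mul_comm]; exact isIrrCharacter_mul_linear hψ β.2 hd
    by_contra hne
    refine hβ.2 (classInner_irr_ne hirr hψ' fun e => hne ?_)
    rw [← e, mul_comm, hl]

/-- An invariant character over an invariant character of a normal subgroup with solvable factor
group. -/
theorem exists_inv_over_of_solvable : ∀ (n : ℕ) [Fintype G] {S : Type w} [Group S]
    (φ : S →* MulAut G) (K : Subgroup S) [Finite (S ⧸ K)] (N : Subgroup G) [N.Normal] [Fintype N],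
    N.index = n → (∀ s, ∀ x ∈ N, φ s x ∈ N) →
    (∀ k ∈ K, ∃ x ∈ N, ∀ g, φ k g = x * g * x⁻¹) → K.index.Coprime n →
    (∃ i, derivedSeries G i ≤ N) → ∀ θ : IrrCharacter N,
    (∀ s (x y : N), (y : G) = φ s x → (θ : N → ℂ) y = (θ : N → ℂ) x) →
    ∃ χ : IrrCharacter G, Inv φ (χ : G → ℂ) ∧ mult N.subtype χ θ ≠ 0 := by
  intro n
  induction n using Nat.strong_induction_on with
  | _ n ih =>
  intro _ S _ φ K _ N _ _ hn hNφ hK hcop hder θ hθ
  classical
  by_cases hN : N = ⊤
  · subst hN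
    let χ : IrrCharacter G := ⟨fun g => (θ : (⊤ : Subgroup G) → ℂ) ⟨g, trivial⟩,
      isIrrCharacter_comp_surjective θ.2 (Subgroup.topEquiv : (⊤ : Subgroup G) ≃* G).symm.toMonoidHom
        (Subgroup.topEquiv : (⊤ : Subgroup G) ≃* G).symm.surjective⟩
    refine ⟨χ, fun s g => hθ s ⟨g, trivial⟩ ⟨φ s g, trivial⟩ rfl, ?_⟩
    rw [mult_eq (⊤ : Subgroup G).subtype χ θ (n := 1) (by
      rw [show (fun h : (⊤ : Subgroup G) => (χ : G → ℂ) ((⊤ : Subgroup G).subtype h)) =
        (θ : (⊤ : Subgroup G) → ℂ) from rfl, classInner_irr_self θ.2, Nat.cast_one])]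
    exact one_ne_zero
  -- the last derived subgroup outside `N`
  obtain ⟨i, hi, hi'⟩ : ∃ i, ¬ derivedSeries G i ≤ N ∧ derivedSeries G (i + 1) ≤ N := by
    obtain ⟨i, hi⟩ := hder
    induction i with
    | zero => exact absurd (top_le_iff.1 (derivedSeries_zero G ▸ hi)) hN
    | succ i ih =>
      by_cases h : derivedSeries G i ≤ N
      · exact ih h
      · exact ⟨i, h, hi⟩
  set M := derivedSeries G i ⊔ N with hM
  haveI : (derivedSeries G i).Normal := derivedSeries_normal G i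
  haveI hMn : M.Normal := Subgroup.sup_normal _ _
  haveI := Fintype.ofFinite M
  have hNM : N ≤ M := le_sup_right
  have hMφ : ∀ s, ∀ x ∈ M, φ s x ∈ M := by
    intro s x hx
    have h : M.map (φ s).toMonoidHom ≤ M := by
      rw [hM, Subgroup.map_sup]
      refine sup_le_sup ?_ ?_
      · rw [map_derivedSeries_eq (φ s).surjective]
      · rintro _ ⟨y, hy, rfl⟩; exact hNφ s y hy
    exact h ⟨x, hx, rfl⟩
  have hMN : ∀ x ∈ M, ∀ y ∈ M, x * y * x⁻¹ * y⁻¹ ∈ N := by
    intro x hx y hy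
    rw [hM, Subgroup.mem_sup_of_normal_right] at hx hy
    obtain ⟨a, ha, a', ha', rfl⟩ := hx
    obtain ⟨b, hb, b', hb', rfl⟩ := hy
    rw [← QuotientGroup.eq_one_iff]
    simp only [QuotientGroup.mk_mul, QuotientGroup.mk_inv, (QuotientGroup.eq_one_iff _).2 ha',
      (QuotientGroup.eq_one_iff _).2 hb', mul_one]
    simp only [← QuotientGroup.mk_mul, ← QuotientGroup.mk_inv, QuotientGroup.eq_one_iff]
    apply hi'
    rw [derivedSeries_succ]
    exact Subgroup.commutator_mem_commutator ha hb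
  set N₁ := N.subgroupOf M with hN₁
  haveI := Fintype.ofFinite N₁
  have hab : ∀ x y : M, x * y * x⁻¹ * y⁻¹ ∈ N₁ := fun x y => hMN x x.2 y y.2
  let e : N₁ ≃* N := Subgroup.subgroupOfEquivOfLe hNM
  let θ₁ : IrrCharacter N₁ := ⟨fun x => (θ : N → ℂ) (e x),
    isIrrCharacter_comp_surjective θ.2 e.toMonoidHom e.surjective⟩
  -- the torsor
  let L : Subgroup (M →* ℂˣ) :=
    { carrier := {l | ∀ x ∈ N₁, l x = 1}
      one_mem' := fun _ _ => rfl
      mul_mem' := fun {a b} ha hb x hx => by rw [MonoidHom.mul_apply, ha x hx, hb x hx, one_mul]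
      inv_mem' := fun {a} ha x hx => by rw [MonoidHom.inv_apply, ha x hx, inv_one] }
  let X := {ψ : IrrCharacter M // classInner (fun x : N₁ => (ψ : M → ℂ) x) (θ₁ : N₁ → ℂ) ≠ 0}
  letI : SMul L X := ⟨fun l ψ => ⟨⟨(ψ.1 : M → ℂ) * fun x => ((l : M →* ℂˣ) x : ℂ),
      isIrrCharacter_mul_linear ψ.1.2 (isIrrCharacter_linear (l : M →* ℂˣ)) (by simp)⟩, by
    convert ψ.2 using 2
    funext x
    simp [l.2 x x.2]⟩⟩
  letI : MulAction L X :=
    { one_smul := fun ψ => Subtype.ext (Subtype.ext (funext fun x => by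
        show (ψ.1 : M → ℂ) x * _ = _; simp))
      mul_smul := fun l l' ψ => Subtype.ext (Subtype.ext (funext fun x => by
        show (ψ.1 : M → ℂ) x * _ = (ψ.1 : M → ℂ) x * _ * _
        simp only [Subgroup.coe_mul, MonoidHom.mul_apply, Units.val_mul]; ring)) }
  let ψM : S →* MulAut M := restrictHom φ M hMφ
  have hψMN : ∀ s, ∀ x ∈ N₁, ψM s x ∈ N₁ := fun s x hx => hNφ s x hx
  letI : SMul S X := ⟨fun s ψ => ⟨⟨fun x => (ψ.1 : M → ℂ) (ψM s⁻¹ x),
      isIrrCharacter_comp_surjective ψ.1.2 (ψM s⁻¹).toMonoidHom (ψM s⁻¹).surjective⟩, by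
    refine Eq.trans_ne ?_ ψ.2
    unfold classInner
    congr 1
    let f : N₁ ≃* N₁ := restrictHom ψM N₁ hψMN s⁻¹
    refine Fintype.sum_equiv f.toEquiv _ _ fun x => ?_
    show _ = (ψ.1 : M → ℂ) ((f x : N₁) : M) * conj ((θ : N → ℂ) (e (f x)))
    rw [hθ s⁻¹ (e x) (e (f x)) rfl]
    rfl⟩⟩
  letI : MulAction S X :=
    { one_smul := fun ψ => Subtype.ext (Subtype.ext (funext fun x => by
        show (ψ.1 : M → ℂ) (ψM (1 : S)⁻¹ x) = _
        rw [inv_one, map_one]; rfl))
      mul_smul := fun s s' ψ => Subtype.ext (Subtype.ext (funext fun x => by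
        show (ψ.1 : M → ℂ) (ψM (s * s')⁻¹ x) = (ψ.1 : M → ℂ) (ψM s'⁻¹ (ψM s⁻¹ x))
        rw [mul_inv_rev, map_mul]; rfl)) }
  haveI : Nonempty X := by
    have hne : indFun N₁ (θ₁ : N₁ → ℂ) ≠ 0 := by
      intro e0
      have h1 := congrFun e0 1
      rw [indFun_apply_one] at h1
      simp only [Pi.zero_apply, mul_eq_zero] at h1
      rcases h1 with h | h
      · exact Nat.cast_ne_zero.mpr Subgroup.index_ne_zero_of_finite h
      · exact irr_ne_zero θ₁.2 h
    obtain ⟨χ, hχ, hχne⟩ := exists_constituent (isCharacter_indFun N₁ (isCharacter_of_irr θ₁.2)) hne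
    refine ⟨⟨⟨χ, hχ⟩, fun h0 => hχne ?_⟩⟩
    rw [frobenius_reciprocity N₁ _ (isClassFunction_irr hχ), ← classInner_comm, h0, map_zero]
  haveI : MulAction.IsPretransitive L X := ⟨fun ψ ψ' => by
    obtain ⟨l, hl, e'⟩ := exists_linear_mul N₁ hab θ₁.2 ψ.1.2 ψ'.1.2 ψ.2 ψ'.2
    exact ⟨⟨l, hl⟩, Subtype.ext (Subtype.ext e'.symm)⟩⟩
  let α : S → L →* L := fun s =>
    { toFun := fun l => ⟨(l : M →* ℂˣ).comp (ψM s⁻¹).toMonoidHom, fun x hx => l.2 _ (hψMN s⁻¹ x hx)⟩
      map_one' := rfl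
      map_mul' := fun _ _ => rfl }
  have hMN' : N₁.index ∣ n := by
    rw [← hn, ← Subgroup.relIndex_mul_index hNM]; exact dvd_mul_right _ _
  obtain ⟨ψ, hψ⟩ := torsor_fixed_point (L := L) (X := X) α
    (fun s l x => Subtype.ext (Subtype.ext rfl)) K
    (fun k hk x => Subtype.ext (Subtype.ext (funext fun y => by
      obtain ⟨z, hz, hzk⟩ := hK k⁻¹ (K.inv_mem hk)
      show (x.1 : M → ℂ) (ψM k⁻¹ y) = (x.1 : M → ℂ) y
      rw [show ψM k⁻¹ y = ⟨z, hNM hz⟩ * y * (⟨z, hNM hz⟩ : M)⁻¹ from Subtype.ext (hzk y)]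
      exact isClassFunction_irr x.1.2 y _)))
    (m := N₁.index)
    (fun l => Subtype.ext (MonoidHom.ext fun x => by
      show ((l : M →* ℂˣ) ^ N₁.index) x = 1
      rw [MonoidHom.pow_apply, ← map_pow]
      exact l.2 _ (N₁.pow_index_mem x)))
    (hcop.coprime_dvd_right hMN')
  have hψinv : ∀ s (x y : M), (y : G) = φ s x → (ψ.1 : M → ℂ) y = (ψ.1 : M → ℂ) x := by
    intro s x y hxy
    have h := congrFun (congrArg (fun z : X => (z.1 : M → ℂ)) (hψ s⁻¹)) x
    show (ψ.1 : M → ℂ) y = _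
    rw [← h]
    show _ = (ψ.1 : M → ℂ) (ψM s⁻¹⁻¹ x)
    rw [inv_inv, show y = ψM s x from Subtype.ext hxy]
  have hlt : M.index < n := by
    rw [← hn, ← Subgroup.relIndex_mul_index hNM]
    refine lt_mul_of_one_lt_left (Nat.pos_of_ne_zero Subgroup.index_ne_zero_of_finite) ?_
    refine lt_of_le_of_ne (Nat.one_le_iff_ne_zero.2 Subgroup.index_ne_zero_of_finite) fun h1 => ?_
    exact hi (le_sup_left.trans (Subgroup.relIndex_eq_one.1 h1.symm))
  obtain ⟨χ, hχ, hm⟩ := ih M.index hlt φ K M rfl hMφ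
    (fun k hk => by obtain ⟨x, hx, h⟩ := hK k hk; exact ⟨x, hNM hx, h⟩)
    (hcop.coprime_dvd_right (hn ▸ Subgroup.index_dvd_of_le hNM))
    (by obtain ⟨j, hj⟩ := hder; exact ⟨j, hj.trans hNM⟩) ψ.1 hψinv
  refine ⟨χ, hχ, ?_⟩
  let κ : N →* M := Subgroup.inclusion hNM
  have hκ : mult κ ψ.1 θ ≠ 0 := by
    rw [← mult_congr κ N₁.subtype e (fun _ => rfl) ψ.1 θ θ₁ fun _ => rfl]
    intro h0
    refine ψ.2 ?_
    have := mult_spec N₁.subtype ψ.1 θ₁
    rw [h0, Nat.cast_zero] at this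
    exact this
  rw [show N.subtype = M.subtype.comp κ from rfl, mult_comp]
  intro h0
  exact Nat.mul_ne_zero hm hκ ((Finset.sum_eq_zero_iff.1 h0) ψ.1 (Finset.mem_univ _))

end CfsgLib.Glauberman.Invariant
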