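import Cfsg.Agent.Lib.Glauberman.CoprimeCount
import Cfsg.Agent.Lib.CharTheory.PowerMap

/-!
# The correspondence of Glauberman for a cyclic operator group
-/

namespace CfsgLib.Glauberman.Cyclic

open Cfsg CfsgLib.CharTheory CfsgLib.Glauberman
open scoped ComplexConjugate

set_option linter.unusedVariables false
set_option linter.unusedSectionVars false

universe u v

/-- The determinantal character of a pullback. -/
theorem detChar_comp {X : Type u} {Y : Type v} [Group X] [Group Y] [Finite X] [Finite Y]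
    {χ : Y → ℂ} (hχ : IsCharacter Y χ) (φ : X →* Y) (x : X) :
    detChar (fun x => χ (φ x)) x = detChar χ (φ x) := by
  obtain ⟨n, ρ, rfl⟩ := hχ
  have h : (fun x => ρ.character (φ x)) =
      Representation.character (ρ.comp φ : Representation ℂ X (Fin n → ℂ)) := rfl
  rw [h, detChar_eq, detChar_eq]
  simp only [coe_detHom]
  rfl

variable {Γ : Type u} [Group Γ]

/-- The hypotheses of the cyclic case. -/
structure Data (G S : Subgroup Γ) : Prop where
  normal : G.Normal
  inter : ∀ x, x ∈ G → x ∈ S → x = 1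
  cop : (Nat.card G).Coprime (Nat.card S)
  top : G ⊔ S = ⊤
  comm : ∀ x ∈ S, ∀ y ∈ S, x * y = y * x

theorem mk_data [Finite Γ] (G S : Subgroup Γ) (hnorm : ∀ s ∈ S, ∀ g ∈ G, s * g * s⁻¹ ∈ G)
    (hcop : (Nat.card G).Coprime (Nat.card S)) (htop : G ⊔ S = ⊤) (hcyc : IsCyclic S) :
    Data G S := by
  refine ⟨?_, fun x hG hS => ?_, hcop, htop, fun x hx y hy => ?_⟩
  · rw [← Subgroup.normalizer_eq_top_iff, eq_top_iff, ← htop]
    refine sup_le Subgroup.le_normalizer fun s hs => Subgroup.mem_normalizer_iff.2 fun g =>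
      ⟨fun hg => hnorm s hs g hg, fun hg => ?_⟩
    have := hnorm s⁻¹ (S.inv_mem hs) _ hg
    simpa [mul_assoc] using this
  · refine orderOf_eq_one_iff.1 (Nat.eq_one_of_dvd_coprimes hcop ?_ ?_)
    · exact Subgroup.orderOf_mk x hG ▸ orderOf_dvd_natCard (⟨x, hG⟩ : G)
    · exact Subgroup.orderOf_mk x hS ▸ orderOf_dvd_natCard (⟨x, hS⟩ : S)
  · obtain ⟨g, hg⟩ := hcyc.exists_generator
    obtain ⟨i, hi⟩ := Subgroup.mem_zpowers_iff.1 (hg ⟨x, hx⟩)
    obtain ⟨j, hj⟩ := Subgroup.mem_zpowers_iff.1 (hg ⟨y, hy⟩)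
    have := congrArg Subtype.val (zpow_mul_comm g i j)
    rw [hi, hj] at this
    exact this

variable {G S : Subgroup Γ}

theorem Data.exists_prod (D : Data G S) (x : Γ) : ∃ g ∈ G, ∃ t ∈ S, g * t = x := by
  haveI := D.normal
  have h : x ∈ ((G ⊔ S : Subgroup Γ) : Set Γ) := by rw [D.top]; trivial
  rw [Subgroup.normal_mul] at h
  exact h

theorem Data.card (D : Data G S) : Nat.card Γ = Nat.card G * Nat.card S := by
  rw [← Nat.card_prod]
  refine (Nat.card_eq_of_bijective (fun p : G × S => (p.1 : Γ) * p.2) ⟨?_, ?_⟩).symm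
  · rintro ⟨a, s⟩ ⟨b, t⟩ e
    have e' : (a : Γ) * s = b * t := e
    have h1 : ((b : Γ)⁻¹ * a) = t * (s : Γ)⁻¹ := by
      rw [eq_mul_inv_iff_mul_eq, mul_assoc, e', inv_mul_cancel_left]
    have h2 := D.inter _ (G.mul_mem (G.inv_mem b.2) a.2) (h1 ▸ S.mul_mem t.2 (S.inv_mem s.2))
    have ea : a = b := Subtype.ext (inv_mul_eq_one.1 h2).symm
    subst ea
    exact Prod.ext rfl (Subtype.ext (mul_left_cancel e'))
  · intro x
    obtain ⟨g, hg, t, ht, e⟩ := D.exists_prod x
    exact ⟨(⟨g, hg⟩, ⟨t, ht⟩), e⟩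

theorem Data.index [Finite Γ] (D : Data G S) : G.index = Nat.card S := by
  have := G.card_mul_index
  rw [D.card] at this
  exact Nat.eq_of_mul_eq_mul_left Nat.card_pos this

/-- Invariance under `S` gives invariance under the whole group. -/
theorem Data.invariant (D : Data G S) [hN : G.Normal] {χ : G → ℂ} (hc : IsClassFunction G χ)
    (hinv : ∀ s ∈ S, ∀ g g' : G, (g' : Γ) = s * g * s⁻¹ → χ g' = χ g) (x : Γ) (n : G) :
    χ ⟨x * n * x⁻¹, hN.conj_mem (n : Γ) n.2 x⟩ = χ n := by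
  obtain ⟨a, ha, t, ht, rfl⟩ := D.exists_prod x
  have h1 := hc ⟨t * n * t⁻¹, hN.conj_mem (n : Γ) n.2 t⟩ ⟨a, ha⟩
  rw [← hinv t ht n ⟨t * n * t⁻¹, hN.conj_mem (n : Γ) n.2 t⟩ rfl, ← h1]
  refine congrArg χ (Subtype.ext ?_)
  show a * t * n * (a * t)⁻¹ = a * (t * n * t⁻¹) * a⁻¹
  rw [mul_inv_rev]
  simp only [mul_assoc]

/-- The canonical extension. -/
def IsCanon (G S : Subgroup Γ) (χ : G → ℂ) (χh : Γ → ℂ) : Prop :=
  IsIrrCharacter Γ χh ∧ (∀ g : G, χh g = χ g) ∧ ∀ t : S, detChar χh t = 1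

theorem degree_dvd [Finite G] {χ : G → ℂ} (hχ : IsIrrCharacter G χ) :
    ∃ d : ℕ, χ 1 = d ∧ d ∣ Nat.card G := by
  obtain ⟨n, ρ, hρ, rfl⟩ := hχ
  exact ⟨_, ρ.char_one, finrank_dvd_card ρ⟩

theorem isCanon_of_coprime [Finite Γ] {χ : G → ℂ} (hχ : IsCharacter G χ) {χh : Γ → ℂ}
    (hχh : IsIrrCharacter Γ χh) (hext : ∀ g : G, χh g = χ g)
    (hdet : (detOrder χh).Coprime (Nat.card S)) : IsCanon G S χ χh := by
  obtain ⟨μ, hμ, -⟩ := exists_det_of_extension hχ (isCharacter_of_irr hχh) hext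
  rw [detOrder, hμ, orderOf_homFun] at hdet
  refine ⟨hχh, hext, fun t => ?_⟩
  rw [hμ]
  have h1 : μ t ^ Nat.card S = 1 := by
    rw [← map_pow, ← SubmonoidClass.coe_pow, pow_card_eq_one', OneMemClass.coe_one, map_one]
  have h2 : μ t ^ orderOf μ = 1 := by
    rw [← MonoidHom.pow_apply, pow_orderOf_eq_one]; rfl
  have := orderOf_eq_one_iff.1 (Nat.eq_one_of_dvd_coprimes hdet
    (orderOf_dvd_of_pow_eq_one h2) (orderOf_dvd_of_pow_eq_one h1))
  simp [this]

theorem isCanon_unique [Finite Γ] (D : Data G S) {χ : G → ℂ} (hχ : IsIrrCharacter G χ)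
    {a b : Γ → ℂ} (ha : IsCanon G S χ a) (hb : IsCanon G S χ b) : b = a := by
  haveI := D.normal
  obtain ⟨d, hd, hdvd⟩ := degree_dvd hχ
  have hcd : G.index.Coprime d := by rw [D.index]; exact D.cop.symm.coprime_dvd_right hdvd
  obtain ⟨μ, hμ, hμG⟩ := exists_det_of_extension (isCharacter_of_irr hχ)
    (isCharacter_of_irr ha.1) ha.2.1
  obtain ⟨ν, hν, hνG⟩ := exists_det_of_extension (isCharacter_of_irr hχ)
    (isCharacter_of_irr hb.1) hb.2.1
  refine extension_det_unique hχ hd hcd ha.1 ha.2.1 hb.1 hb.2.1 ?_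
  have e : ν = μ := by
    have hle : (⊤ : Subgroup Γ) ≤ MonoidHom.eqLocus ν μ := by
      rw [← D.top]
      refine sup_le (fun g hg => Units.ext ((hνG ⟨g, hg⟩).trans (hμG ⟨g, hg⟩).symm))
        fun t ht => Units.ext ?_
      have h1 := ha.2.2 ⟨t, ht⟩
      have h2 := hb.2.2 ⟨t, ht⟩
      rw [hμ] at h1
      rw [hν] at h2
      exact h2.trans h1.symm
    exact MonoidHom.ext fun x => hle (Subgroup.mem_top x)
  rw [hμ, hν, e]

theorem exists_canon [Finite Γ] (D : Data G S) {χ : G → ℂ} (hχ : IsIrrCharacter G χ)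
    (hinv : ∀ s ∈ S, ∀ g g' : G, (g' : Γ) = s * g * s⁻¹ → χ g' = χ g) :
    ∃ χh : Γ → ℂ, IsIrrCharacter Γ χh ∧ (∀ g : G, χh g = χ g) ∧
      (detOrder χh).Coprime (Nat.card S) := by
  haveI := D.normal
  have hinv' := fun x n => D.invariant (isClassFunction_irr hχ) hinv x n
  obtain ⟨d, hd, hdvd⟩ := degree_dvd hχ
  obtain ⟨φ, hφ⟩ : ∃ φ : G →* ℂˣ, detChar χ = fun g => (φ g : ℂ) := by
    obtain ⟨n, ρ, rfl⟩ := isCharacter_of_irr hχ
    exact ⟨detHom ρ, detChar_eq ρ⟩
  have hφi : ∀ (x : Γ) (n : G), φ (MulAut.conjNormal x n) = φ n := by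
    intro x n
    apply Units.ext
    have h := detChar_comp (isCharacter_of_irr hχ) (MulAut.conjNormal x : G ≃* G).toMonoidHom n
    have e : (fun n : G => χ ((MulAut.conjNormal x : G ≃* G).toMonoidHom n)) = χ := funext fun m => by
      rw [← hinv' x m]
      exact congrArg χ (Subtype.ext (MulAut.conjNormal_apply x m))
    rw [e, hφ] at h
    exact h.symm
  have hord : orderOf φ ∣ Nat.card G := orderOf_dvd_of_pow_eq_one (MonoidHom.ext fun g => by
    rw [MonoidHom.pow_apply, ← map_pow, pow_card_eq_one', map_one, MonoidHom.one_apply])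
  obtain ⟨μ, hμG, hμo, -⟩ := exists_hom_extending_coprime φ hφi
    (by rw [D.index]; exact D.cop.symm.coprime_dvd_right hord)
  obtain ⟨χh, h1, h2, h3⟩ := exists_extension_det hχ hinv' hd
    (by rw [D.index]; exact D.cop.symm.coprime_dvd_right hdvd) μ (fun n => by rw [hμG, hφ])
  refine ⟨χh, h1, h2, ?_⟩
  rw [detOrder, h3, orderOf_homFun, hμo]
  exact D.cop.coprime_dvd_left hord

/-- The canonical extension is fixed by a Galois automorphism acting on the operator group. -/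
theorem canon_pow [Fintype Γ] (D : Data G S) {χ : G → ℂ} (hχ : IsIrrCharacter G χ) {χh : Γ → ℂ}
    (hh : IsCanon G S χ χh) {m : ℕ} (hm : m.Coprime (Nat.card S)) {c : Γ} (hcG : c ∈ G) {t : Γ}
    (ht : t ∈ S) (hct : Commute c t) : χh (c * t ^ m) = χh (c * t) := by
  haveI := D.normal
  set j := Nat.chineseRemainder D.cop 1 m with hj
  have hj1 := j.2.1
  have hj2 := j.2.2
  have hG : ∀ x ∈ G, x ^ (j : ℕ) = x := fun x hx => by
    have h0 := (pow_eq_pow_iff_modEq (x := x) (n := (j : ℕ)) (m := 1)).2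
      (hj1.of_dvd (Subgroup.orderOf_mk x hx ▸ orderOf_dvd_natCard (⟨x, hx⟩ : G)))
    rwa [pow_one] at h0
  have hS : ∀ x ∈ S, x ^ (j : ℕ) = x ^ m := fun x hx =>
    (pow_eq_pow_iff_modEq).2
      (hj2.of_dvd (Subgroup.orderOf_mk x hx ▸ orderOf_dvd_natCard (⟨x, hx⟩ : S)))
  have hjc : (j : ℕ).Coprime (Nat.card Γ) := by
    rw [D.card]
    exact Nat.Coprime.mul_right (by
      rw [Nat.coprime_iff_gcd_eq_one, hj1.gcd_eq]; exact Nat.gcd_one_left _)
      (by rw [Nat.coprime_iff_gcd_eq_one, hj2.gcd_eq]; exact hm)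
  have hcanon : IsCanon G S χ (fun x => χh (x ^ (j : ℕ))) := by
    refine ⟨isIrrCharacter_pow hh.1 hjc, fun g => ?_, fun t => ?_⟩
    · show χh ((g : Γ) ^ (j : ℕ)) = χ g
      rw [hG g g.2, hh.2.1]
    · let φ : S →* S :=
        { toFun := fun x => x ^ m
          map_one' := one_pow m
          map_mul' := fun x y => (show Commute x y from
            Subtype.ext (D.comm x x.2 y y.2)).mul_pow m }
      have e : (fun x : S => (fun y => χh (y ^ (j : ℕ))) (S.subtype x)) =
          fun x : S => χh (S.subtype.comp φ x) := funext fun x => by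
        show χh ((x : Γ) ^ (j : ℕ)) = χh (((x ^ m : S) : Γ))
        rw [hS x x.2, SubmonoidClass.coe_pow]
      have h1 := detChar_comp (isCharacter_of_irr (isIrrCharacter_pow hh.1 hjc)) S.subtype t
      have h2 := detChar_comp (isCharacter_of_irr hh.1) (S.subtype.comp φ) t
      rw [e, h2] at h1
      exact h1.symm.trans (hh.2.2 (φ t))
  have := congrFun (isCanon_unique D hχ hh hcanon) (c * t)
  simp only [hct.mul_pow, hG c hcG, hS t ht] at this
  exact this

theorem coprime_of_generators [Finite Γ] {s t : Γ} {m : ℕ} (hs : Subgroup.zpowers s = S)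
    (ht : Subgroup.zpowers t = S) (e : s ^ m = t) : m.Coprime (Nat.card S) := by
  have h1 : orderOf t = orderOf s / (orderOf s).gcd m := by rw [← e]; exact orderOf_pow s
  have hos : orderOf s = Nat.card S := by rw [← Nat.card_zpowers, hs]
  have hot : orderOf t = Nat.card S := by rw [← Nat.card_zpowers, ht]
  rw [hos, hot] at h1
  rw [Nat.coprime_iff_gcd_eq_one, Nat.gcd_comm]
  rcases (Nat.div_eq_self.1 h1.symm) with h | h
  · exact absurd h Nat.card_pos.ne'
  · exact h

section Centralizer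

variable {C : Subgroup Γ}

theorem mem_C (hC : C = G ⊓ Subgroup.centralizer (S : Set Γ)) {x : Γ} (hx : x ∈ C) :
    x ∈ G ∧ x ∈ Subgroup.centralizer (S : Set Γ) := by
  rw [hC] at hx; exact hx

theorem centralizer_gen_le (hC : C = G ⊓ Subgroup.centralizer (S : Set Γ)) {s : Γ}
    (hs : Subgroup.zpowers s = S) : G ⊓ Subgroup.centralizer ({s} : Set Γ) ≤ C := by
  intro h hh
  rw [hC]
  refine ⟨hh.1, Subgroup.mem_centralizer_iff.2 fun t ht => ?_⟩
  obtain ⟨i, rfl⟩ := Subgroup.mem_zpowers_iff.1 (hs ▸ ht : t ∈ Subgroup.zpowers s)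
  exact ((show Commute h s from (Subgroup.mem_centralizer_singleton_iff.1 hh.2)).zpow_right i).symm

/-- Averages over the coset of an element of `S` with centralizer `C` in `G`. -/
theorem cosetAvg_eq [Fintype Γ] [Fintype G] [Fintype C] (D : Data G S)
    (hC : C = G ⊓ Subgroup.centralizer (S : Set Γ)) {s : Γ} (hsS : s ∈ S)
    (hcen : G ⊓ Subgroup.centralizer ({s} : Set Γ) ≤ C)
    {F : Γ → ℂ} (hF : IsClassFunction Γ F) :
    cosetAvg G F s = (Nat.card C : ℂ)⁻¹ * ∑ c : C, F ((c : Γ) * s) := by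
  classical
  haveI := D.normal
  have hCG : ∀ c : C, (c : Γ) ∈ G := fun c => by
    exact (mem_C hC c.2).1
  have hcs : ∀ c : C, Commute (c : Γ) s := fun c => by
    exact (Subgroup.mem_centralizer_iff.1 (mem_C hC c.2).2 s hsS).symm
  let Φ : G × C → G := fun p =>
    ⟨(p.1 : Γ) * p.2 * (s * (p.1 : Γ)⁻¹ * s⁻¹),
      G.mul_mem (G.mul_mem p.1.2 (hCG p.2)) (D.normal.conj_mem _ (G.inv_mem p.1.2) s)⟩
  have hΦ : ∀ p, ((Φ p : G) : Γ) * s = (p.1 : Γ) * ((p.2 : Γ) * s) * (p.1 : Γ)⁻¹ := fun p => by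
    show (p.1 : Γ) * p.2 * (s * (p.1 : Γ)⁻¹ * s⁻¹) * s = _
    simp only [mul_assoc, inv_mul_cancel, mul_one]
  -- each nonempty fibre is a coset of `C`
  have hle : ∀ x : G, (Finset.univ.filter fun p => Φ p = x).card ≤ Fintype.card C := by
    intro x
    rcases (Finset.univ.filter fun p => Φ p = x).eq_empty_or_nonempty with h | ⟨p, hp⟩
    · rw [h]; exact Nat.zero_le _
    refine le_trans (Finset.card_le_card (t := Finset.univ.image fun h : C =>
      ((⟨(p.1 : Γ) * h, G.mul_mem p.1.2 (hCG h)⟩ : G), (h⁻¹ * p.2 * h : C))) ?_)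
      (Finset.card_image_le.trans (le_of_eq Finset.card_univ))
    intro q hq
    have hpq : (p.1 : Γ) * ((p.2 : Γ) * s) * (p.1 : Γ)⁻¹ =
        (q.1 : Γ) * ((q.2 : Γ) * s) * (q.1 : Γ)⁻¹ := by
      rw [← hΦ, ← hΦ, (Finset.mem_filter.1 hp).2, (Finset.mem_filter.1 hq).2]
    set h : Γ := (p.1 : Γ)⁻¹ * q.1 with hh
    have hconj : h * ((q.2 : Γ) * s) * h⁻¹ = (p.2 : Γ) * s := by
      have : h * ((q.2 : Γ) * s) * h⁻¹ =
          (p.1 : Γ)⁻¹ * ((q.1 : Γ) * ((q.2 : Γ) * s) * (q.1 : Γ)⁻¹) * p.1 := by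
        rw [hh]; group
      rw [this, ← hpq]; group
    obtain ⟨j, hj0, hj1⟩ := Nat.chineseRemainder D.cop 0 1
    have hpow : ∀ c : C, ((c : Γ) * s) ^ j = s := fun c => by
      have h1 : (c : Γ) ^ j = 1 := by
        have := (pow_eq_pow_iff_modEq (x := (c : Γ))).2 (hj0.of_dvd
          (Subgroup.orderOf_mk _ (hCG c) ▸ orderOf_dvd_natCard (⟨(c : Γ), hCG c⟩ : G)))
        rwa [pow_zero] at this
      have h2 : s ^ j = s := by
        have := (pow_eq_pow_iff_modEq (x := s)).2 (hj1.of_dvd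
          (Subgroup.orderOf_mk _ hsS ▸ orderOf_dvd_natCard (⟨s, hsS⟩ : S)))
        rwa [pow_one] at this
      rw [(hcs c).mul_pow, h1, h2, one_mul]
    have hhs : h * s * h⁻¹ = s := by
      have := congrArg (· ^ j) hconj
      simpa only [conj_pow, hpow] using this
    have hhC : h ∈ C := hcen ⟨G.mul_mem (G.inv_mem p.1.2) q.1.2,
      Subgroup.mem_centralizer_singleton_iff.2 (mul_inv_eq_iff_eq_mul.1 hhs)⟩
    refine Finset.mem_image.2 ⟨⟨h, hhC⟩, Finset.mem_univ _, Prod.ext (Subtype.ext ?_) (Subtype.ext ?_)⟩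
    · show (p.1 : Γ) * h = q.1
      rw [hh, mul_inv_cancel_left]
    · show h⁻¹ * (p.2 : Γ) * h = q.2
      have hhs' : Commute h⁻¹ s := (show Commute h s from mul_inv_eq_iff_eq_mul.1 hhs).inv_left
      refine mul_right_cancel (b := s) ?_
      have h3 : h⁻¹ * ((p.2 : Γ) * s) * h = (q.2 : Γ) * s := by rw [← hconj]; group
      rw [← h3]
      simp only [mul_assoc]
      rw [show h * s = s * h from mul_inv_eq_iff_eq_mul.1 hhs]
  have hfib : ∀ x : G, (Finset.univ.filter fun p => Φ p = x).card = Fintype.card C := by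
    have hsum : ∑ x : G, (Finset.univ.filter fun p => Φ p = x).card =
        ∑ _x : G, Fintype.card C := by
      rw [← Finset.card_eq_sum_card_fiberwise (fun p _ => Finset.mem_univ (Φ p)), Finset.card_univ,
        Fintype.card_prod, Finset.sum_const, Finset.card_univ, smul_eq_mul]
    intro x
    exact (Finset.sum_eq_sum_iff_of_le fun x _ => hle x).1 hsum x (Finset.mem_univ _)
  have h1 : ∑ p : G × C, F (((Φ p : G) : Γ) * s) = (Nat.card C : ℂ) * ∑ x : G, F ((x : Γ) * s) := by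
    rw [← Finset.sum_fiberwise Finset.univ Φ, Finset.mul_sum]
    refine Finset.sum_congr rfl fun x _ => ?_
    rw [Finset.sum_congr rfl fun p hp => by rw [(Finset.mem_filter.1 hp).2], Finset.sum_const,
      hfib, nsmul_eq_mul, Nat.card_eq_fintype_card]
  have h2 : ∑ p : G × C, F (((Φ p : G) : Γ) * s) = (Nat.card G : ℂ) * ∑ c : C, F ((c : Γ) * s) := by
    rw [Fintype.sum_prod_type,
      Finset.sum_congr rfl fun g _ => Finset.sum_congr rfl fun c _ => by rw [hΦ, hF]]
    rw [show (fun g : G => ∑ c : C, F (((g, c).2 : Γ) * s)) = fun _ => ∑ c : C, F ((c : Γ) * s)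
      from rfl, Finset.sum_const, Finset.card_univ, nsmul_eq_mul, Nat.card_eq_fintype_card]
  rw [h1] at h2
  have hG0 : (Nat.card G : ℂ) ≠ 0 := Nat.cast_ne_zero.2 Nat.card_pos.ne'
  have hC0 : (Nat.card C : ℂ) ≠ 0 := Nat.cast_ne_zero.2 Nat.card_pos.ne'
  simp only [cosetAvg]
  field_simp
  linear_combination h2

variable [Fintype Γ] [Fintype G] [Fintype C]

/-- The function `c ↦ χ̂(cs)`. -/
def slice (C : Subgroup Γ) (s : Γ) (χh : Γ → ℂ) : C → ℂ := fun c => χh ((c : Γ) * s)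

theorem slice_class (hC : C = G ⊓ Subgroup.centralizer (S : Set Γ)) {s : Γ} (hs : s ∈ S)
    {χh : Γ → ℂ} (hh : IsClassFunction Γ χh) : IsClassFunction C (slice C s χh) := by
  intro c h
  show χh (((h * c * h⁻¹ : C) : Γ) * s) = χh ((c : Γ) * s)
  have hc : ((h : Γ)⁻¹) * s = s * (h : Γ)⁻¹ := by
    have h0 := mem_C hC (h⁻¹).2
    exact (Subgroup.mem_centralizer_iff.1 h0.2 s hs).symm
  rw [← hh ((c : Γ) * s) (h : Γ)]
  congr 1
  simp only [Subgroup.coe_mul, Subgroup.coe_inv, mul_assoc]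
  rw [hc]

theorem slice_orth_of_centralizer (D : Data G S)
    (hC : C = G ⊓ Subgroup.centralizer (S : Set Γ)) {s : Γ}
    (hsS : s ∈ S) (hcen : G ⊓ Subgroup.centralizer ({s} : Set Γ) ≤ C) {χ χ' : IrrCharacter G} {a b : Γ → ℂ}
    (ha : IsCanon G S (χ : G → ℂ) a) (hb : IsCanon G S (χ' : G → ℂ) b) [Decidable (χ = χ')] :
    classInner (slice C s a) (slice C s b) = if χ = χ' then 1 else 0 := by
  haveI := D.normal
  have hcl : IsClassFunction Γ (a * fun x => conj (b x)) := fun x y => by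
    simp only [Pi.mul_apply, isClassFunction_irr ha.1 x y, isClassFunction_irr hb.1 x y]
  have e : classInner (slice C s a) (slice C s b) = cosetAvg G (a * fun x => conj (b x)) s := by
    rw [cosetAvg_eq D hC hsS hcen hcl]; rfl
  rw [e]
  split_ifs with h
  · subst h
    have hab := isCanon_unique D χ.2 ha hb
    subst hab
    have hres : IsIrrCharacter G (fun g : G => b g) := (funext hb.2.1 : _ = (χ : G → ℂ)) ▸ χ.2
    rw [cosetAvg_mul_conj G hb.1 hres]
  · have hc := isCharacter_cosetAvg G (isCharacter_mul (isCharacter_of_irr ha.1)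
      (isCharacter_conj (isCharacter_of_irr hb.1)))
    have h1 : cosetAvg G (a * fun x => conj (b x)) 1 = 0 := by
      rw [← classInner_irr_ne χ.2 χ'.2 fun q => h (Subtype.ext q)]
      simp only [cosetAvg, classInner, Pi.mul_apply, mul_one, ha.2.1, hb.2.1]
    have := norm_char_le hc s
    rw [h1, norm_zero] at this
    exact norm_le_zero_iff.1 this

theorem slice_orth (D : Data G S) (hC : C = G ⊓ Subgroup.centralizer (S : Set Γ)) {s : Γ}
    (hs : Subgroup.zpowers s = S) {χ χ' : IrrCharacter G} {a b : Γ → ℂ}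
    (ha : IsCanon G S (χ : G → ℂ) a) (hb : IsCanon G S (χ' : G → ℂ) b) [Decidable (χ = χ')] :
    classInner (slice C s a) (slice C s b) = if χ = χ' then 1 else 0 :=
  slice_orth_of_centralizer D hC (hs ▸ Subgroup.mem_zpowers s) (centralizer_gen_le hC hs) ha hb

/-- The multiplicities are values of characters of the operator group. -/
theorem exists_operator_char (hC : C = G ⊓ Subgroup.centralizer (S : Set Γ)) {χh : Γ → ℂ}
    (hh : IsCharacter Γ χh) (β : IrrCharacter C) :
    IsCharacter S (fun t : S => classInner (slice C (t : Γ) χh) (β : C → ℂ)) := by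
  classical
  haveI := Fintype.ofFinite S
  let π : C × S →* Γ := MonoidHom.noncommCoprod C.subtype S.subtype fun c t => by
    have := mem_C hC c.2
    exact (Subgroup.mem_centralizer_iff.1 this.2 t t.2).symm
  let N : Subgroup (C × S) := (MonoidHom.inl C S).range
  haveI : N.Normal := ⟨by
    rintro _ ⟨c, rfl⟩ ⟨a, b⟩
    exact ⟨a * c * a⁻¹, by ext <;> simp⟩⟩
  haveI := Fintype.ofFinite N
  have h1 := isCharacter_cosetAvg N (isCharacter_mul (isCharacter_comp hh π)
    (isCharacter_conj (isCharacter_comp (isCharacter_of_irr β.2) (MonoidHom.fst C S))))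
  have h2 := isCharacter_comp h1 (MonoidHom.inr C S)
  convert h2 using 1
  funext t
  have hinj : Function.Injective (MonoidHom.inl C S) := fun a b h => congrArg Prod.fst h
  simp only [classInner, cosetAvg, MonoidHom.inr_apply]
  rw [Nat.card_congr (MonoidHom.ofInjective hinj).toEquiv]
  congr 1
  refine Fintype.sum_equiv (MonoidHom.ofInjective hinj).toEquiv _ _ fun c => ?_
  simp [slice, π, MonoidHom.ofInjective_apply]
  left
  rfl

/-- The value of the multiplicity at a generator is an integer. -/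
theorem slice_coeff_int (D : Data G S) (hC : C = G ⊓ Subgroup.centralizer (S : Set Γ)) {s : Γ}
    (hs : s ∈ S) {χ : G → ℂ} (hχ : IsIrrCharacter G χ) {χh : Γ → ℂ} (hh : IsCanon G S χ χh)
    (β : IrrCharacter C) : ∃ z : ℤ, classInner (slice C s χh) (β : C → ℂ) = z := by
  haveI := Fintype.ofFinite S
  have hF := exists_operator_char (S := S) hC (isCharacter_of_irr hh.1) β
  refine rational_int_of_invariant hF ⟨s, hs⟩ fun m hm => ?_
  show classInner (slice C ((⟨s, hs⟩ ^ m : S) : Γ) χh) (β : C → ℂ) = classInner (slice C s χh) β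
  congr 1
  funext c
  have hc := mem_C hC c.2
  show χh ((c : Γ) * ((⟨s, hs⟩ ^ m : S) : Γ)) = χh ((c : Γ) * s)
  rw [SubmonoidClass.coe_pow]
  exact canon_pow D hχ hh hm hc.1 hs (Subgroup.mem_centralizer_iff.1 hc.2 s hs).symm

/-- The cyclic Glauberman correspondent. -/
theorem exists_correspondent (D : Data G S) (hC : C = G ⊓ Subgroup.centralizer (S : Set Γ)) {s : Γ}
    (hs : Subgroup.zpowers s = S) (χ : IrrCharacter G) {χh : Γ → ℂ}
    (hh : IsCanon G S (χ : G → ℂ) χh) :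
    ∃ (β : IrrCharacter C) (ε : ℤ), (ε = 1 ∨ ε = -1) ∧
      ∀ t : Γ, Subgroup.zpowers t = S → ∀ c : C, χh ((c : Γ) * t) = (ε : ℂ) * (β : C → ℂ) c := by
  classical
  have hsS : s ∈ S := hs ▸ Subgroup.mem_zpowers s
  have hcf := slice_class hC hsS (isClassFunction_irr hh.1)
  choose z hz using slice_coeff_int D hC hsS χ.2 hh
  have hnorm : ∑ β : IrrCharacter C, z β * z β = 1 := by
    have h := slice_orth D hC hs (χ := χ) (χ' := χ) hh hh
    rw [if_pos rfl, classInner_eq_sum_irr hcf] at h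
    have h' : ∑ β : IrrCharacter C, ((z β : ℂ) * (z β : ℂ)) = 1 := by
      rw [← h]
      exact Finset.sum_congr rfl fun β _ => by
        rw [hz, ← classInner_comm, hz]; simp
    exact_mod_cast h'
  obtain ⟨β, hβ⟩ : ∃ β, z β ≠ 0 := by
    by_contra hno
    push Not at hno
    simp [hno] at hnorm
  have hsplit := Finset.add_sum_erase Finset.univ (fun γ => z γ * z γ) (Finset.mem_univ β)
  rw [hnorm] at hsplit
  have hnn : 0 ≤ ∑ γ ∈ Finset.univ.erase β, z γ * z γ :=
    Finset.sum_nonneg fun γ _ => mul_self_nonneg _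
  have hb1 : 1 ≤ z β * z β := by
    have := mul_self_pos.2 hβ
    omega
  have hzero : ∑ γ ∈ Finset.univ.erase β, z γ * z γ = 0 := by omega
  have hone : z β * z β = 1 := by omega
  have hε : z β = 1 ∨ z β = -1 := mul_self_eq_one_iff.1 hone
  refine ⟨β, z β, hε, fun t ht c => ?_⟩
  have e : slice C s χh = fun c => (z β : ℂ) * (β : C → ℂ) c := by
    rw [eq_sum_irr hcf, Finset.sum_eq_single β]
    · rw [hz]; rfl
    · intro γ _ hne
      have := (Finset.sum_eq_zero_iff_of_nonneg fun γ _ => mul_self_nonneg (z γ)).1 hzero γ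
        (Finset.mem_erase.2 ⟨hne, Finset.mem_univ _⟩)
      rw [hz, mul_self_eq_zero.1 this, Int.cast_zero, zero_smul]
    · exact fun hn => absurd (Finset.mem_univ _) hn
  refine Eq.trans ?_ (congrFun e c)
  obtain ⟨m, hm⟩ : ∃ m : ℕ, s ^ m = t := by
    have : t ∈ Subgroup.zpowers s := by rw [hs, ← ht]; exact Subgroup.mem_zpowers t
    exact mem_powers_iff_mem_zpowers.2 this
  have hc := mem_C hC c.2
  rw [← hm]
  exact canon_pow D χ.2 hh (coprime_of_generators hs ht hm) hc.1 hsS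
    (Subgroup.mem_centralizer_iff.1 hc.2 s hsS).symm

theorem constituent (hC : C = G ⊓ Subgroup.centralizer (S : Set Γ)) (hCG : C ≤ G) {s : Γ}
    (hs : s ∈ S) {χ : G → ℂ} {χh : Γ → ℂ} (hχh : IsCharacter Γ χh) (hext : ∀ g : G, χh g = χ g)
    (β : IrrCharacter C) {ε : ℤ} (hε : ε = 1 ∨ ε = -1)
    (h : ∀ c : C, χh ((c : Γ) * s) = (ε : ℂ) * (β : C → ℂ) c) :
    classInner (fun c : C => χ ⟨c, hCG c.2⟩) (β : C → ℂ) ≠ 0 := by
  haveI := Fintype.ofFinite S
  intro h0
  have hle := norm_char_le (exists_operator_char (S := S) hC hχh β) ⟨s, hs⟩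
  have e1 : slice C ((1 : S) : Γ) χh = fun c : C => χ ⟨c, hCG c.2⟩ := funext fun c => by
    show χh ((c : Γ) * ((1 : S) : Γ)) = _
    rw [OneMemClass.coe_one, mul_one]
    exact hext ⟨c, hCG c.2⟩
  have e2 : slice C s χh = (ε : ℂ) • (β : C → ℂ) := funext h
  simp only [e1, e2, h0, norm_zero, classInner_smul_left, classInner_irr_self β.2, mul_one] at hle
  rcases hε with rfl | rfl <;> simp at hle <;> linarith

theorem card_invariant (D : Data G S) (hnorm : ∀ s ∈ S, ∀ g ∈ G, s * g * s⁻¹ ∈ G)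
    (hC : C = G ⊓ Subgroup.centralizer (S : Set Γ)) :
    Nat.card {χ : IrrCharacter G // ∀ s ∈ S, ∀ g g' : G, (g' : Γ) = s * g * s⁻¹ →
      (χ : G → ℂ) g' = (χ : G → ℂ) g} = Nat.card (IrrCharacter C) := by
  classical
  set φ := conjHom G S hnorm with hφ
  haveI : Group.IsSolvable S := Group.isSolvable_of_comm fun a b => Subtype.ext (D.comm a a.2 b b.2)
  haveI : Group.IsSolvable φ.range := solvable_of_surjective φ.rangeRestrict_surjective
  have hcop : (Nat.card φ.range).Coprime (Nat.card G) :=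
    D.cop.symm.coprime_dvd_left (Subgroup.card_range_dvd φ)
  rw [Nat.card_congr (Equiv.subtypeEquivRight fun χ : IrrCharacter G =>
    (inv_iff G S hnorm (χ : G → ℂ)).trans (inv_range_iff φ (χ : G → ℂ))),
    card_inv_eq_card_fixed_classes _ G φ.range rfl hcop,
    card_fixed_classes_eq_fixedSub _ G φ.range rfl hcop, card_irr_eq_card_conjClasses]
  have hmem : ∀ g : G, g ∈ fixedSub φ.range ↔ (g : Γ) ∈ C := by
    intro g
    rw [mem_fixedSub, hC]
    constructor
    · intro h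
      refine ⟨g.2, Subgroup.mem_centralizer_iff.2 fun t ht => ?_⟩
      have h1 := congrArg Subtype.val (h _ ⟨⟨t, ht⟩, rfl⟩)
      exact mul_inv_eq_iff_eq_mul.1 h1
    · rintro h _ ⟨t, rfl⟩
      apply Subtype.ext
      show (t : Γ) * g * (t : Γ)⁻¹ = g
      rw [Subgroup.mem_centralizer_iff.1 h.2 t t.2, mul_inv_cancel_right]
  have hCG : C ≤ G := hC ▸ inf_le_left
  exact card_conjClasses_congr
    { toFun := fun g => ⟨((g : G) : Γ), (hmem g).1 g.2⟩
      invFun := fun c => ⟨⟨c, hCG c.2⟩, (hmem _).2 c.2⟩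
      left_inv := fun g => rfl
      right_inv := fun c => rfl
      map_mul' := fun a b => rfl }

end Centralizer

end CfsgLib.Glauberman.Cyclic
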