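import Cfsg.Agent.Lib.Glauberman.Ambient
import Cfsg.Agent.Lib.CharTheory.Gallagher
import Cfsg.Agent.Lib.CharTheory.ExtCriteria
import Cfsg.Agent.Lib.CharTheory.Linear
import Cfsg.Agent.Lib.CharTheory.Integral

/-!
# Characters of degree prime to the order of a complement
-/

namespace CfsgLib.Glauberman

open Cfsg CfsgLib.CharTheory CfsgLib.Blocks
open scoped ComplexConjugate

set_option linter.unusedVariables false
set_option linter.unusedSectionVars false
set_option linter.unusedSimpArgs false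

universe u v

/-- Conjugacy classes of isomorphic groups. -/
theorem card_conjClasses_congr {A : Type u} {B : Type v} [Group A] [Group B] (e : A ≃* B) :
    Nat.card (ConjClasses A) = Nat.card (ConjClasses B) := by
  refine Nat.card_eq_of_bijective (ConjClasses.map e.toMonoidHom) ⟨?_, ?_⟩
  · intro x y h
    obtain ⟨a, rfl⟩ := ConjClasses.mk_surjective x
    obtain ⟨b, rfl⟩ := ConjClasses.mk_surjective y
    have h1 := ConjClasses.mk_eq_mk_iff_isConj.1 h
    refine ConjClasses.mk_eq_mk_iff_isConj.2 ?_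
    have h2 := e.symm.toMonoidHom.map_isConj h1
    simpa using h2
  · intro y
    obtain ⟨b, rfl⟩ := ConjClasses.mk_surjective y
    refine ⟨ConjClasses.mk (e.symm b), ?_⟩
    show ConjClasses.mk (e (e.symm b)) = _
    rw [e.apply_symm_apply]

/-- Glauberman's lemma: the fixed classes correspond to the classes of the fixed points. -/
theorem card_fixed_classes_eq_fixedSub : ∀ (n : ℕ) (G : Type u) [Group G] [Finite G]
    (A : Subgroup (MulAut G)) [Group.IsSolvable A], Nat.card A = n →
    (Nat.card A).Coprime (Nat.card G) →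
    Nat.card {K : ConjClasses G // ∀ a ∈ A, classMap a K = K} =
      Nat.card (ConjClasses (fixedSub A)) := by
  intro n
  induction n using Nat.strong_induction_on with
  | _ n ih =>
  intro G _ _ A _ hn hcop
  classical
  haveI := Fintype.ofFinite G
  by_cases hA : A = ⊥
  · subst hA
    have e2 : ∀ K : ConjClasses G, ∀ a ∈ (⊥ : Subgroup (MulAut G)), classMap a K = K := by
      intro K a ha
      obtain rfl := Subgroup.mem_bot.1 ha
      induction K using Quotient.inductionOn with
      | _ g => rfl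
    have htop : fixedSub (⊥ : Subgroup (MulAut G)) = ⊤ := (Subgroup.eq_top_iff' _).2 fun g a ha => by
      obtain rfl := Subgroup.mem_bot.1 ha; rfl
    rw [Nat.card_congr (Equiv.subtypeUnivEquiv e2)]
    exact (card_conjClasses_congr ((MulEquiv.subgroupCongr htop).trans Subgroup.topEquiv)).symm
  obtain ⟨p, Q, hC, hp, hQp, hpG, hQn, hsol, hlt, hcop'⟩ := exists_step A hA hcop
  obtain ⟨M, hM⟩ := CfsgLib.ZStar.exists_isPModular hp
  set C := fixedSub (Q.map A.subtype) with hCdef
  set f := restrictHom A.subtype C hC with hf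
  haveI := Fintype.ofFinite C
  have hS : Setup p M (A.subtype.comp Q.subtype) C.subtype :=
    setup_subgroup hM hQp _ hpG C fun g => by
      rw [hCdef, mem_fixedSub]
      exact ⟨fun h s => h _ ⟨_, s.2, rfl⟩, by rintro h _ ⟨q, hq, rfl⟩; exact h ⟨q, hq⟩⟩
  have IH := ih (Nat.card f.range) (hn ▸ hlt) C f.range rfl hcop'
  have hcl : Nat.card {K : ConjClasses C // ∀ b ∈ f.range, classMap b K = K} =
      Nat.card {K : ConjClasses G // ∀ a ∈ A, classMap a K = K} := by
    have hm : ∀ K : {K : ConjClasses C // ∀ b ∈ f.range, classMap b K = K},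
        ∀ a ∈ A, classMap a (ConjClasses.map C.subtype K.1) = ConjClasses.map C.subtype K.1 := by
      rintro ⟨K, hK⟩ a ha
      induction K using Quotient.inductionOn with
      | _ c =>
        have h1 := congrArg (ConjClasses.map C.subtype) (hK _ ⟨⟨a, ha⟩, rfl⟩)
        exact h1
    refine Nat.card_eq_of_bijective (fun K => ⟨ConjClasses.map C.subtype K.1, hm K⟩) ⟨?_, ?_⟩
    · rintro ⟨K, hK⟩ ⟨K', hK'⟩ e
      have e' := congrArg Subtype.val e
      apply Subtype.ext
      induction K using Quotient.inductionOn with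
      | _ c =>
        induction K' using Quotient.inductionOn with
        | _ c' =>
          exact ConjClasses.mk_eq_mk_iff_isConj.2
            (hS.fusion (ConjClasses.mk_eq_mk_iff_isConj.1 e'))
    · rintro ⟨K, hK⟩
      haveI : Fact p.Prime := ⟨hp⟩
      obtain ⟨g, rfl⟩ := ConjClasses.mk_surjective K
      letI := grpAction (A.subtype.comp Q.subtype)
      let T : SubMulAction Q G :=
        { carrier := {x | ConjClasses.mk x = ConjClasses.mk g}
          smul_mem' := fun q x hx => by
            show ConjClasses.mk (((q : A) : MulAut G) x) = ConjClasses.mk g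
            have := hK _ (q : A).2
            rw [← hx] at this ⊢
            exact this }
      have hT : ¬ p ∣ Nat.card T := fun hd => hpG (hd.trans (by
        have e : Nat.card T = Nat.card {x : G // IsConj g x} :=
          Nat.card_congr (Equiv.subtypeEquivRight fun x => by
            show ConjClasses.mk x = ConjClasses.mk g ↔ IsConj g x
            rw [ConjClasses.mk_eq_mk_iff_isConj, isConj_comm])
        rw [e]
        exact ⟨_, (card_isConj_mul_card_centralizer g).symm⟩))
      obtain ⟨x, hx⟩ := hQp.nonempty_fixed_point_of_prime_not_dvd_card T hT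
      obtain ⟨c, hc⟩ := (hS.fix x.1).2 fun q => congrArg Subtype.val (hx q)
      refine ⟨⟨ConjClasses.mk c, ?_⟩, Subtype.ext ?_⟩
      · rintro _ ⟨a, rfl⟩
        refine ConjClasses.mk_eq_mk_iff_isConj.2 (hS.fusion ?_)
        show IsConj ((a : MulAut G) (c : G)) (c : G)
        rw [show (c : G) = x.1 from hc]
        have := hK _ a.2
        rw [← x.2] at this
        exact ConjClasses.mk_eq_mk_iff_isConj.1 this
      · show ConjClasses.mk (c : G) = ConjClasses.mk g
        rw [show (c : G) = x.1 from hc]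
        exact x.2
  rw [← hcl, IH]
  have hle : ∀ g ∈ fixedSub A, g ∈ C := by
    rintro g hg _ ⟨q, -, rfl⟩
    exact hg _ q.2
  exact card_conjClasses_congr
    { toFun := fun c => ⟨((c : C) : G), fun a ha => congrArg Subtype.val (c.2 _ ⟨⟨a, ha⟩, rfl⟩)⟩
      invFun := fun g => ⟨⟨g, hle g g.2⟩, by rintro _ ⟨a, rfl⟩; exact Subtype.ext (g.2 _ a.2)⟩
      left_inv := fun c => rfl
      right_inv := fun g => rfl
      map_mul' := fun _ _ => rfl }

variable {G : Type u} [Group G] [Fintype G]

/-- A character with an irreducible constituent of the same degree equals it. -/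
theorem eq_irr_of_constituent_degree {χ : G → ℂ} (hχ : IsCharacter G χ) (θ : IrrCharacter G)
    (h1 : χ 1 = (θ : G → ℂ) 1) (hc : classInner χ (θ : G → ℂ) ≠ 0) : χ = (θ : G → ℂ) := by
  classical
  choose m hm using fun φ : IrrCharacter G =>
    classInner_char_nat hχ (isCharacter_of_irr φ.2)
  choose d hd using fun φ : IrrCharacter G => char_one_eq_natCast (isCharacter_of_irr φ.2)
  have hd0 : ∀ φ, 0 < d φ := fun φ => Nat.pos_of_ne_zero fun h =>
    irr_ne_zero φ.2 (by rw [hd, h, Nat.cast_zero])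
  have hsum := eq_sum_irr (isClassFunction_char hχ)
  simp only [hm] at hsum
  have h := congrFun hsum 1
  rw [h1, hd] at h
  simp only [Finset.sum_apply, Pi.smul_apply, smul_eq_mul, hd] at h
  have h' : d θ = ∑ φ, m φ * d φ := by exact_mod_cast h
  rw [← Finset.add_sum_erase _ _ (Finset.mem_univ θ)] at h'
  have hmθ : 1 ≤ m θ := Nat.one_le_iff_ne_zero.2 fun e => hc (by rw [hm, e, Nat.cast_zero])
  have hge : d θ ≤ m θ * d θ := Nat.le_mul_of_pos_left _ hmθ
  have hθ1 : m θ = 1 := by
    have h2 : m θ * d θ = 1 * d θ := by omega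
    exact Nat.eq_of_mul_eq_mul_right (hd0 θ) h2
  have hrest : ∀ φ ∈ Finset.univ.erase θ, m φ = 0 := fun φ hφ => by
    have h0 : ∑ φ ∈ Finset.univ.erase θ, m φ * d φ = 0 := by omega
    exact (mul_eq_zero.1 (Finset.sum_eq_zero_iff.1 h0 φ hφ)).resolve_right (hd0 φ).ne'
  rw [hsum, Finset.sum_eq_single θ (fun φ _ hne => by
    rw [hrest φ (Finset.mem_erase.2 ⟨hne, Finset.mem_univ _⟩), Nat.cast_zero, zero_smul])
    (fun h => absurd (Finset.mem_univ _) h), hθ1, Nat.cast_one, one_smul]

/-- Characters of degree prime to the index of a normal subgroup of coprime order and index. -/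
theorem card_coprime_degree (K : Subgroup G) [hK : K.Normal] [Fintype K]
    (hcop : (Nat.card K).Coprime K.index) :
    Nat.card {χ : IrrCharacter G // (charDegree (χ : G → ℂ)).Coprime K.index} =
      Nat.card {θ : IrrCharacter K // ∀ g : G, conjNormFun K g (θ : K → ℂ) = (θ : K → ℂ)} *
        Nat.card (G ⧸ K →* ℂˣ) := by
  classical
  rw [← Nat.card_prod]
  have hext : ∀ θ : {θ : IrrCharacter K // ∀ g : G, conjNormFun K g (θ : K → ℂ) = (θ : K → ℂ)},
      ∃ χ : G → ℂ, IsIrrCharacter G χ ∧ ∀ n : K, χ n = (θ.1 : K → ℂ) n := by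
    rintro ⟨θ, hinv⟩
    obtain ⟨m, ρ, hρ, hρθ⟩ := id θ.2
    have hinv' : ∀ (g : G) (x : K), (θ : K → ℂ) ⟨g * x * g⁻¹, hK.conj_mem (x : G) x.2 g⟩ =
        (θ : K → ℂ) x := fun g x => congrFun (hinv g) x
    have hd : (θ : K → ℂ) 1 = (Module.finrank ℂ (Fin m → ℂ) : ℕ) := by
      rw [← hρθ, ρ.char_one]
    have hcopd : K.index.Coprime (Module.finrank ℂ (Fin m → ℂ)) :=
      hcop.symm.coprime_dvd_right (finrank_dvd_card ρ)
    have hcopo : K.index.Coprime (orderOf (detHom ρ)) := by
      refine hcop.symm.coprime_dvd_right (orderOf_dvd_of_pow_eq_one (MonoidHom.ext fun x => ?_))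
      rw [MonoidHom.pow_apply, MonoidHom.one_apply, ← map_pow, pow_card_eq_one', map_one]
    have hinvφ : ∀ (g : G) (x : K), detHom ρ (MulAut.conjNormal g x) = detHom ρ x := by
      intro g x
      apply Units.ext
      have h := detChar_eq (ρ.comp (MulAut.conjNormal g : K ≃* K).toMonoidHom :
        Representation ℂ K (Fin m → ℂ))
      have e : Representation.character
          (ρ.comp (MulAut.conjNormal g : K ≃* K).toMonoidHom : Representation ℂ K (Fin m → ℂ)) =
          ρ.character := funext fun y => invariant_of_rep hρθ hinv' g y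
      rw [e, detChar_eq ρ] at h
      exact (congrFun h x).symm
    obtain ⟨μ, hμ, -, -⟩ := exists_hom_extending_coprime (detHom ρ) hinvφ hcopo
    obtain ⟨χ, hχ, hχK, -⟩ := exists_extension_det θ.2 hinv' hd hcopd μ fun n => by
      rw [hμ, ← hρθ, detChar_eq]
    exact ⟨χ, hχ, hχK⟩
  choose ext hext hextK using hext
  have hres : ∀ θ, IsIrrCharacter K (fun n : K => ext θ n) := fun θ => by
    rw [show (fun n : K => ext θ n) = (θ.1 : K → ℂ) from funext (hextK θ)]; exact θ.1.2
  have hlam : ∀ lam : G ⧸ K →* ℂˣ, IsIrrCharacter G (fun g : G => ((lam (g : G ⧸ K)) : ℂ)) ∧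
      ∀ n ∈ K, ((lam (n : G ⧸ K)) : ℂ) = ((lam ((1 : G) : G ⧸ K)) : ℂ) := fun lam =>
    ⟨isIrrCharacter_linear (lam.comp (QuotientGroup.mk' K)), fun n hn => by
      rw [(QuotientGroup.eq_one_iff n).2 hn]; rfl⟩
  have hdeg : ∀ θ, ∀ lam : G ⧸ K →* ℂˣ,
      ((fun g : G => ((lam (g : G ⧸ K)) : ℂ)) * ext θ) 1 = (θ.1 : K → ℂ) 1 := fun θ lam => by
    have h1 := hextK θ 1
    rw [OneMemClass.coe_one] at h1
    simp [h1]
  refine (Nat.card_eq_of_bijective
    (fun q : {θ : IrrCharacter K // ∀ g : G, conjNormFun K g (θ : K → ℂ) = (θ : K → ℂ)} ×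
        (G ⧸ K →* ℂˣ) =>
      (⟨⟨(fun g : G => ((q.2 (g : G ⧸ K)) : ℂ)) * ext q.1,
        (gallagher K (isCharacter_of_irr (hext q.1)) (hres q.1)).1 _ (hlam q.2).1 (hlam q.2).2⟩, ?_⟩ :
        {χ : IrrCharacter G // (charDegree (χ : G → ℂ)).Coprime K.index})) ⟨?_, ?_⟩).symm
  · obtain ⟨m, ρ, hρ, hρθ⟩ := id q.1.1.2
    have h : (charDegree ((fun g : G => ((q.2 (g : G ⧸ K)) : ℂ)) * ext q.1) : ℂ) =
        (Module.finrank ℂ (Fin m → ℂ) : ℕ) := by
      rw [irr_charDegree_cast ⟨_, (gallagher K (isCharacter_of_irr (hext q.1)) (hres q.1)).1 _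
        (hlam q.2).1 (hlam q.2).2⟩]
      show ((fun g : G => ((q.2 (g : G ⧸ K)) : ℂ)) * ext q.1) 1 = _
      rw [hdeg, ← hρθ, ρ.char_one]
    show (charDegree ((fun g : G => ((q.2 (g : G ⧸ K)) : ℂ)) * ext q.1)).Coprime K.index
    rw [Nat.cast_injective h]
    exact hcop.coprime_dvd_left (finrank_dvd_card ρ)
  · rintro ⟨θ, lam⟩ ⟨θ', lam'⟩ e
    have e' : (fun g : G => ((lam (g : G ⧸ K)) : ℂ)) * ext θ =
        (fun g : G => ((lam' (g : G ⧸ K)) : ℂ)) * ext θ' :=
      congrArg (fun z : {χ : IrrCharacter G // (charDegree (χ : G → ℂ)).Coprime K.index} =>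
        (z.1 : G → ℂ)) e
    have hθ : θ = θ' := by
      refine Subtype.ext (Subtype.ext (funext fun n => ?_))
      have h := congrFun e' n
      simp only [Pi.mul_apply, hextK, (QuotientGroup.eq_one_iff (n : G)).2 n.2, map_one,
        Units.val_one, one_mul] at h
      exact h
    subst hθ
    have h := (gallagher K (isCharacter_of_irr (hext θ)) (hres θ)).2.1 _ _ (hlam lam).1
      (hlam lam).2 (hlam lam').1 (hlam lam').2 e'
    refine Prod.ext rfl (MonoidHom.ext fun q => ?_)
    obtain ⟨g, rfl⟩ := QuotientGroup.mk_surjective q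
    exact Units.ext (congrFun h g)
  · rintro ⟨χ, hχ⟩
    obtain ⟨θ', hθ', hθc⟩ := exists_constituent (isCharacter_restrict (isCharacter_of_irr χ.2) K)
      (fun h => irr_ne_zero χ.2 (by simpa using congrFun h 1))
    obtain ⟨θ, hθ⟩ : ∃ θ : IrrCharacter K,
        classInner (fun n : K => (χ : G → ℂ) n) (θ : K → ℂ) ≠ 0 := ⟨⟨θ', hθ'⟩, hθc⟩
    obtain ⟨e, he, hed⟩ := degree_ratio_dvd χ.2 θ.2 hθ
    obtain ⟨d, hd⟩ := char_one_eq_natCast (isCharacter_of_irr θ.2)
    have hχd : charDegree (χ : G → ℂ) = e * d := by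
      apply Nat.cast_injective (R := ℂ)
      rw [irr_charDegree_cast, he, hd, Nat.cast_mul]
    obtain rfl : e = 1 := Nat.eq_one_of_dvd_coprimes hχ (hχd ▸ dvd_mul_right e d) hed
    have hχK : (fun n : K => (χ : G → ℂ) n) = (θ : K → ℂ) := by
      refine eq_irr_of_constituent_degree (isCharacter_restrict (isCharacter_of_irr χ.2) K) θ ?_ hθ
      rw [Nat.cast_one, one_mul] at he
      rw [OneMemClass.coe_one, he]
    have hinv : ∀ g : G, conjNormFun K g (θ : K → ℂ) = (θ : K → ℂ) := by
      intro g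
      funext n
      rw [← hχK]
      exact isClassFunction_irr χ.2 (n : G) g
    obtain ⟨β, hβ, hk, hprod⟩ := (gallagher K (isCharacter_of_irr (hext ⟨θ, hinv⟩))
      (hres ⟨θ, hinv⟩)).2.2 _ χ.2 (by
        rw [hχK, show (fun n : K => ext ⟨θ, hinv⟩ n) = (θ : K → ℂ) from funext (hextK ⟨θ, hinv⟩),
          classInner_irr_self θ.2]
        exact one_ne_zero)
    have hβ1 : β 1 = 1 := by
      have h1 := congrFun hprod 1
      have h2 := hextK ⟨θ, hinv⟩ 1
      rw [OneMemClass.coe_one] at h2
      rw [Pi.mul_apply, h2, he, Nat.cast_one, one_mul] at h1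
      exact (mul_eq_right₀ (irr_ne_zero θ.2)).mp h1.symm
    obtain ⟨lam, hlam'⟩ := exists_hom_of_degree_one (isCharacter_of_irr hβ) hβ1
    have hker : K ≤ lam.ker := fun n hn => Units.ext (by
      have := hk n hn
      rw [hβ1, hlam'] at this
      simpa using this)
    refine ⟨(⟨θ, hinv⟩, QuotientGroup.lift K lam hker), Subtype.ext (Subtype.ext ?_)⟩
    rw [hprod, hlam']
    rfl

/-- The invariant characters of a normal subgroup with a coprime solvable supplement. -/
theorem card_inv_eq_card_classes (K H : Subgroup G) [K.Normal] [Fintype K] (hKH : K ⊔ H = ⊤)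
    (hcop : (Nat.card K).Coprime (Nat.card H)) (hsolv : Group.IsSolvable H) :
    Nat.card {θ : IrrCharacter K // ∀ g : G, conjNormFun K g (θ : K → ℂ) = (θ : K → ℂ)} =
      Nat.card (ConjClasses ↥(K ⊓ Subgroup.centralizer (H : Set G))) := by
  classical
  have hnorm : ∀ s ∈ H, ∀ g ∈ K, s * g * s⁻¹ ∈ K := fun s _ g hg =>
    (inferInstance : K.Normal).conj_mem g hg s
  obtain ⟨φ, hφ⟩ : ∃ φ, φ = conjHom K H hnorm := ⟨_, rfl⟩
  haveI : Group.IsSolvable φ.range := solvable_of_surjective φ.rangeRestrict_surjective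
  have hc : (Nat.card φ.range).Coprime (Nat.card K) :=
    Nat.Coprime.coprime_dvd_left (Subgroup.card_range_dvd φ) hcop.symm
  have hiff : ∀ θ : IrrCharacter K,
      (∀ g : G, conjNormFun K g (θ : K → ℂ) = (θ : K → ℂ)) ↔ Inv φ.range.subtype (θ : K → ℂ) := by
    intro θ
    rw [← inv_range_iff]
    constructor
    · intro h s n
      subst hφ
      exact congrFun (h s) n
    · intro h g
      rw [← mem_inertia]
      have hle : K ⊔ H ≤ inertia K (θ : K → ℂ) := by
        refine sup_le (le_inertia K (isClassFunction_irr θ.2)) fun s hs => ?_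
        rw [mem_inertia]
        funext n
        have := h ⟨s, hs⟩ n
        subst hφ
        exact this
      exact hle (hKH ▸ Subgroup.mem_top g)
  rw [Nat.card_congr (Equiv.subtypeEquivRight hiff),
    card_inv_eq_card_fixed_classes (Nat.card φ.range) K φ.range rfl hc,
    card_fixed_classes_eq_fixedSub (Nat.card φ.range) K φ.range rfl hc]
  exact card_conjClasses_congr
    { toFun := fun c => ⟨((c : K) : G), (c : K).2, fun s hs => by
        have h := congrArg Subtype.val (c.2 _ ⟨⟨s, hs⟩, rfl⟩)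
        subst hφ
        exact mul_inv_eq_iff_eq_mul.1 h⟩
      invFun := fun g => ⟨⟨g, g.2.1⟩, by
        rintro _ ⟨s, rfl⟩
        subst hφ
        exact Subtype.ext (mul_inv_eq_iff_eq_mul.2 (g.2.2 s s.2))⟩
      left_inv := fun c => rfl
      right_inv := fun g => rfl
      map_mul' := fun _ _ => rfl }

/-- The quotient by a normal subgroup with a coprime supplement. -/
theorem quotient_equiv_supplement (K H : Subgroup G) [K.Normal] (hKH : K ⊔ H = ⊤)
    (hcop : (Nat.card K).Coprime (Nat.card H)) :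
    Nonempty (H ≃* G ⧸ K) := by
  refine ⟨MulEquiv.ofBijective ((QuotientGroup.mk' K).comp H.subtype) ⟨?_, ?_⟩⟩
  · rw [← MonoidHom.ker_eq_bot_iff, Subgroup.eq_bot_iff_forall]
    intro h hh
    rw [MonoidHom.mem_ker] at hh
    have h1 : (h : G) ∈ K := (QuotientGroup.eq_one_iff _).1 hh
    have h2 := Subgroup.inf_eq_bot_of_coprime hcop
    have h3 : (h : G) ∈ K ⊓ H := ⟨h1, h.2⟩
    rw [h2, Subgroup.mem_bot] at h3
    exact Subtype.ext h3
  · intro q
    obtain ⟨g, rfl⟩ := QuotientGroup.mk_surjective q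
    obtain ⟨k, hk, h, hh, rfl⟩ : ∃ k ∈ K, ∃ h ∈ H, k * h = g := by
      have hg : g ∈ ((K ⊔ H : Subgroup G) : Set G) := hKH ▸ Subgroup.mem_top g
      rw [Subgroup.normal_mul] at hg
      exact hg
    refine ⟨⟨h, hh⟩, ?_⟩
    show (h : G ⧸ K) = ((k * h : G) : G ⧸ K)
    rw [QuotientGroup.mk_mul, (QuotientGroup.eq_one_iff k).2 hk, one_mul]

/-- S4452. -/
theorem coprime_degree_count (K H : Subgroup G) [K.Normal] (hKH : K ⊔ H = ⊤)
    (hcop : (Nat.card K).Coprime (Nat.card H)) (hsolv : Group.IsSolvable H)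
    [Fintype (Subgroup.normalizer (H : Set G))] :
    Nat.card {χ : IrrCharacter G // (charDegree (χ : G → ℂ)).Coprime (Nat.card H)} =
      Nat.card {η : IrrCharacter (Subgroup.normalizer (H : Set G)) //
        (charDegree (η : Subgroup.normalizer (H : Set G) → ℂ)).Coprime (Nat.card H)} := by
  classical
  haveI := Fintype.ofFinite K
  set T := Subgroup.normalizer (H : Set G) with hT
  have hHT : H ≤ T := Subgroup.le_normalizer
  set K' := K.subgroupOf T with hK'
  set H' := H.subgroupOf T with hH'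
  haveI : K'.Normal := Subgroup.normal_subgroupOf
  haveI := Fintype.ofFinite K'
  have hbot := Subgroup.inf_eq_bot_of_coprime hcop
  have hcH : Nat.card H' = Nat.card H := Nat.card_congr (Subgroup.subgroupOfEquivOfLe hHT).toEquiv
  have hcK : Nat.card K' ∣ Nat.card K := by
    rw [← Subgroup.card_map_of_injective (K := K') T.subtype_injective]
    exact Subgroup.card_dvd_of_le (by rintro _ ⟨x, hx, rfl⟩; exact hx)
  have hKH' : K' ⊔ H' = ⊤ := by
    rw [Subgroup.eq_top_iff']
    intro t
    have hg : (t : G) ∈ ((K ⊔ H : Subgroup G) : Set G) := hKH ▸ Subgroup.mem_top (t : G)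
    rw [Subgroup.normal_mul] at hg
    obtain ⟨k, hk, h, hh, hkh⟩ := hg
    have hkT : k ∈ T := by
      rw [show k = (t : G) * h⁻¹ by rw [← hkh]; simp]
      exact T.mul_mem t.2 (T.inv_mem (hHT hh))
    rw [show t = ⟨k, hkT⟩ * ⟨h, hHT hh⟩ from Subtype.ext hkh.symm]
    exact Subgroup.mul_mem_sup (Subgroup.mem_subgroupOf.2 hk) (Subgroup.mem_subgroupOf.2 hh)
  have hcop' : (Nat.card K').Coprime (Nat.card H') := hcH ▸ hcop.coprime_dvd_left hcK
  obtain ⟨e1⟩ := quotient_equiv_supplement K H hKH hcop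
  obtain ⟨e2⟩ := quotient_equiv_supplement K' H' hKH' hcop'
  have hi1 : K.index = Nat.card H := by
    rw [Subgroup.index_eq_card]; exact (Nat.card_congr e1.toEquiv).symm
  have hi2 : K'.index = Nat.card H := by
    rw [Subgroup.index_eq_card, ← hcH]; exact (Nat.card_congr e2.toEquiv).symm
  haveI : Group.IsSolvable H' := solvable_of_surjective
    (Subgroup.subgroupOfEquivOfLe hHT).symm.surjective
    (f := (Subgroup.subgroupOfEquivOfLe hHT).symm.toMonoidHom)
  rw [show Nat.card {χ : IrrCharacter G // (charDegree (χ : G → ℂ)).Coprime (Nat.card H)} = _ from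
      hi1 ▸ card_coprime_degree K (hi1.symm ▸ hcop),
    show Nat.card {η : IrrCharacter T // (charDegree (η : T → ℂ)).Coprime (Nat.card H)} = _ from
      hi2 ▸ card_coprime_degree K' (hi2.symm ▸ hcH ▸ hcop'),
    card_inv_eq_card_classes K H hKH hcop hsolv,
    card_inv_eq_card_classes K' H' hKH' hcop' inferInstance]
  have hcomm : ∀ k ∈ K, k ∈ T → ∀ h ∈ H, h * k = k * h := by
    intro k hk hkT h hh
    have h1 : k * h * k⁻¹ * h⁻¹ ∈ K ⊓ H := by
      constructor
      · rw [show k * h * k⁻¹ * h⁻¹ = k * (h * k⁻¹ * h⁻¹) by group]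
        exact K.mul_mem hk ((inferInstance : K.Normal).conj_mem _ (K.inv_mem hk) h)
      · exact H.mul_mem ((Subgroup.mem_normalizer_iff.1 hkT h).1 hh) (H.inv_mem hh)
    rw [hbot, Subgroup.mem_bot, mul_inv_eq_one, mul_inv_eq_iff_eq_mul] at h1
    exact h1.symm
  congr 1
  · refine card_conjClasses_congr
      { toFun := fun c => ⟨⟨c, fun x => ?_⟩, ?_, fun h hh => ?_⟩
        invFun := fun c => ⟨((c : T) : G), c.2.1, fun h hh => hcomm _ c.2.1 (c : T).2 h hh⟩
        left_inv := fun c => rfl
        right_inv := fun c => rfl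
        map_mul' := fun _ _ => rfl }
    · refine (Subgroup.centralizer_le_normalizer _ c.2.2) x
    · exact c.2.1
    · exact Subtype.ext (c.2.2 (h : G) hh)
  · exact Nat.card_congr
      (e1.symm.trans ((Subgroup.subgroupOfEquivOfLe hHT).symm.trans e2)).monoidHomCongrLeftEquiv

end CfsgLib.Glauberman
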