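import Cfsg.Agent.Lib.Glauberman.Invariant
import Cfsg.Agent.Lib.CharTheory.ExtCriteria

/-!
# Invariant characters over invariant characters: coprime factor groups
-/

namespace CfsgLib.Glauberman.Invariant

open Cfsg CfsgLib.CharTheory CfsgLib.Glauberman
open scoped ComplexConjugate IsMulCommutative

set_option linter.unusedVariables false
set_option linter.unusedSectionVars false
set_option maxHeartbeats 800000

universe u

/-- The case of a central subgroup. -/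
theorem exists_inv_central {Γ : Type u} [Group Γ] [Fintype Γ] (G Z : Subgroup Γ) [hG : G.Normal]
    [Fintype G] (hZG : Z ≤ G) (hZ : Z ≤ Subgroup.center Γ)
    (hcop : G.index.Coprime (Z.relIndex G)) (hsolv : Group.IsSolvable (Γ ⧸ G)) (l : Z →* ℂˣ) :
    ∃ χ : IrrCharacter G, (∀ (x : Γ) (g : G),
        (χ : G → ℂ) ⟨x * g * x⁻¹, hG.conj_mem (g : Γ) g.2 x⟩ = (χ : G → ℂ) g) ∧
      ∀ z : Z, (χ : G → ℂ) ⟨z, hZG z.2⟩ = (l z : ℂ) * (χ : G → ℂ) 1 := by
  classical
  set Z' := Z.subgroupOf G with hZ'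
  set m := Z'.index with hm
  have hm0 : m ≠ 0 := Subgroup.index_ne_zero_of_finite
  have hZc : ∀ z : G, z ∈ Z' → ∀ g : G, g * z = z * g := fun z hz g =>
    Subtype.ext (Subgroup.mem_center_iff.1 (hZ hz) g)
  haveI : Z'.Normal := ⟨fun z hz g => by rwa [hZc z hz g, mul_inv_cancel_right]⟩
  haveI : IsMulCommutative Z' := ⟨⟨fun a b => Subtype.ext (hZc b b.2 a)⟩⟩
  have key : ∀ (g : G) (k : ℕ) (g₀ : G), g₀⁻¹ * g ^ k * g₀ ∈ Z' →
      g₀⁻¹ * g ^ k * g₀ = g ^ k := by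
    intro g k g₀ h
    have e : g₀ * (g₀⁻¹ * g ^ k * g₀) = g ^ k * g₀ := by group
    rw [hZc _ h g₀] at e
    exact mul_right_cancel e
  let T : G →* Z' := MonoidHom.transfer (MonoidHom.id Z')
  have hT : ∀ g : G, ((T g : Z') : G) = g ^ m := fun g => by
    show (((MonoidHom.transfer (MonoidHom.id Z')) g : Z') : G) = _
    rw [MonoidHom.transfer_eq_pow (MonoidHom.id Z') g (key g)]
    rfl
  set K := Nat.card G with hK
  set e := m ^ (K + 1) with he
  let ψ : G →* Z' := (powMonoidHom (m ^ K)).comp T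
  have hψ : ∀ g : G, ((ψ g : Z') : G) = g ^ e := fun g => by
    show ((T g ^ (m ^ K) : Z') : G) = _
    rw [SubmonoidClass.coe_pow, hT, ← pow_mul, he, pow_succ, mul_comm]
  let G₀ : Subgroup G := ψ.ker
  have hG₀ : ∀ g : G, g ∈ G₀ ↔ g ^ e = 1 := fun g => by
    rw [MonoidHom.mem_ker, ← hψ, OneMemClass.coe_eq_one]
  haveI := Fintype.ofFinite G₀
  have hcopG₀ : G.index.Coprime (Nat.card G₀) := by
    refine Nat.coprime_of_dvd fun p hp hpn hpG => ?_
    haveI : Fact p.Prime := ⟨hp⟩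
    obtain ⟨x, hx⟩ := exists_prime_orderOf_dvd_card' p hpG
    have h1 : p ∣ e := by
      rw [← hx, ← Subgroup.orderOf_coe]
      exact orderOf_dvd_of_pow_eq_one ((hG₀ _).1 x.2)
    exact hp.not_dvd_one (hcop ▸ Nat.dvd_gcd hpn (hp.dvd_of_dvd_pow h1))
  have hdec : ∀ g : G, ∃ g₀ ∈ G₀, ∃ z ∈ Z', g₀ * z = g := by
    intro g
    have hco : (orderOf (g ^ e)).Coprime e := by
      refine Nat.Coprime.pow_right _ (Nat.coprime_of_dvd fun p hp hpo hpm => ?_)
      set r := orderOf g / p ^ (orderOf g).factorization p with hr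
      have hpr : ¬ p ∣ r := Nat.not_dvd_ordCompl hp (orderOf_pos g).ne'
      refine hpr (hpo.trans (orderOf_dvd_of_pow_eq_one ?_))
      rw [← pow_mul, ← orderOf_dvd_iff_pow_eq_one,
        ← Nat.ordProj_mul_ordCompl_eq_self (orderOf g) p]
      refine Nat.mul_dvd_mul ?_ dvd_rfl
      refine (pow_dvd_pow_of_dvd hpm _).trans (pow_dvd_pow m ?_)
      have h1 : p ^ (orderOf g).factorization p ≤ K :=
        (Nat.le_of_dvd (orderOf_pos g) (Nat.ordProj_dvd _ _)).trans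
          (Nat.le_of_dvd Nat.card_pos (orderOf_dvd_natCard g))
      exact ((Nat.lt_pow_self hp.one_lt).le.trans h1).trans (Nat.le_succ _)
    have h2 : IsCoprime (orderOf (g ^ e) : ℤ) (e : ℤ) := Nat.isCoprime_iff_coprime.2 hco
    obtain ⟨v, u, huv⟩ := h2
    refine ⟨g ^ (v * (orderOf (g ^ e) : ℤ)), (hG₀ _).2 ?_, g ^ (u * (e : ℤ)), ?_, ?_⟩
    · rw [← zpow_natCast, ← zpow_mul, show v * (orderOf (g ^ e) : ℤ) * e =
        (e : ℤ) * orderOf (g ^ e) * v by ring, zpow_mul, zpow_mul, zpow_natCast g, zpow_natCast,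
        pow_orderOf_eq_one, one_zpow]
    · rw [show u * (e : ℤ) = (e : ℤ) * u by ring, zpow_mul, zpow_natCast, ← hψ]
      exact Z'.zpow_mem (ψ g).2 u
    · rw [← zpow_add, huv, zpow_one]
  let φG : Γ →* MulAut G := MulAut.conjNormal
  have hG₀inv : ∀ x : Γ, ∀ g ∈ G₀, φG x g ∈ G₀ := fun x g hg => by
    rw [hG₀] at hg ⊢
    rw [← map_pow, hg, map_one]
  let φ : Γ →* MulAut G₀ := restrictHom φG G₀ hG₀inv
  have hφinner : ∀ g : G, ∃ a : G₀, ∀ y : G₀, φ (g : Γ) y = a * y * a⁻¹ := by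
    intro g
    obtain ⟨g₀, hg₀, z, hz, rfl⟩ := hdec g
    refine ⟨⟨g₀, hg₀⟩, fun y => Subtype.ext (Subtype.ext ?_)⟩
    have hzy := congrArg Subtype.val (hZc z hz (y : G))
    simp only [Subgroup.coe_mul] at hzy
    show (((g₀ * z : G) : Γ)) * ((y : G) : Γ) * ((g₀ * z : G) : Γ)⁻¹ =
      (g₀ : Γ) * ((y : G) : Γ) * (g₀ : Γ)⁻¹
    rw [Subgroup.coe_mul, mul_inv_rev]
    calc (g₀ : Γ) * z * ((y : G) : Γ) * ((z : Γ)⁻¹ * (g₀ : Γ)⁻¹)
        = (g₀ : Γ) * ((z : Γ) * ((y : G) : Γ) * (z : Γ)⁻¹) * (g₀ : Γ)⁻¹ := by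
          simp only [mul_assoc]
      _ = _ := by rw [← hzy, mul_inv_cancel_right]
  let f := φ.rangeRestrict
  have hf : Function.Surjective f := φ.rangeRestrict_surjective
  set I := G.map f with hI
  haveI : I.Normal := Subgroup.Normal.map inferInstance _ hf
  have hIcard : Nat.card I ∣ Nat.card G₀ := by
    have hle : I ≤ ((G₀.map G.subtype).map f) := by
      rintro _ ⟨g, hg, rfl⟩
      obtain ⟨a, ha⟩ := hφinner ⟨g, hg⟩
      refine ⟨((a : G) : Γ), ⟨(a : G), a.2, rfl⟩, Subtype.ext (MulEquiv.ext fun y => ?_)⟩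
      show φ ((a : G) : Γ) y = φ g y
      rw [show φ g y = a * y * a⁻¹ from ha y]
      exact Subtype.ext (Subtype.ext rfl)
    refine (Subgroup.card_dvd_of_le hle).trans ((Subgroup.card_map_dvd _ _).trans ?_)
    rw [Subgroup.card_map_of_injective G.subtype_injective]
  have hIidx : I.index ∣ G.index := Subgroup.index_map_dvd _ hf
  obtain ⟨B, hB⟩ := Subgroup.exists_right_complement'_of_coprime (N := I)
    ((hcopG₀.symm.coprime_dvd_left hIcard).coprime_dvd_right hIidx)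
  haveI : Group.IsSolvable (φ.range ⧸ I) :=
    Group.isSolvable_of_surjective (f := QuotientGroup.map G I f (Subgroup.le_comap_map _ _))
      fun y => by
        obtain ⟨y, rfl⟩ := QuotientGroup.mk'_surjective _ y
        obtain ⟨x, rfl⟩ := hf y
        exact ⟨QuotientGroup.mk x, rfl⟩
  haveI : Group.IsSolvable B :=
    Group.isSolvable_of_isSolvable_injective (f := (QuotientGroup.mk' I).comp B.subtype) (by
      rw [injective_iff_map_eq_one]
      intro x hx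
      exact Subtype.ext (Subgroup.disjoint_def.1 hB.disjoint ((QuotientGroup.eq_one_iff _).1 hx) x.2))
  let B' : Subgroup (MulAut G₀) := B.map φ.range.subtype
  haveI : Group.IsSolvable B' :=
    Group.isSolvable_of_surjective (f := φ.range.subtype.subgroupMap B)
      (φ.range.subtype.subgroupMap_surjective B)
  set N₀ := Z'.subgroupOf G₀ with hN₀
  haveI := Fintype.ofFinite N₀
  haveI : N₀.Normal := ⟨fun z hz g => by
    show ((g * z * g⁻¹ : G₀) : G) ∈ Z'
    exact Subgroup.Normal.conj_mem inferInstance _ hz _⟩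
  let j : N₀ →* Z :=
    { toFun := fun x => ⟨((x : G₀) : G), x.2⟩, map_one' := rfl, map_mul' := fun _ _ => rfl }
  let θ : IrrCharacter N₀ := ⟨_, isIrrCharacter_linear (l.comp j)⟩
  have hfix : ∀ a ∈ φ.range, ∀ x : G₀, (x : G) ∈ Z' → a x = x := by
    rintro _ ⟨y, rfl⟩ x hx
    apply Subtype.ext; apply Subtype.ext
    show y * ((x : G) : Γ) * y⁻¹ = ((x : G) : Γ)
    rw [show y * ((x : G) : Γ) = ((x : G) : Γ) * y from Subgroup.mem_center_iff.1 (hZ hx) y,
      mul_inv_cancel_right]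
  obtain ⟨χ₀, hχ₀B, hχ₀m⟩ := exists_inv_over (Nat.card B') G₀ B' rfl (by
      rw [Subgroup.card_map_of_injective φ.range.subtype_injective, ← hB.symm.index_eq_card]
      exact hcopG₀.coprime_dvd_left hIidx)
    N₀ (fun a ha x hx => by
      obtain ⟨b, hb, rfl⟩ := ha
      show ((φ.range.subtype b : MulAut G₀) x : G) ∈ Z'
      rw [show (φ.range.subtype b : MulAut G₀) x = x from hfix _ b.2 x hx]
      exact hx) θ (fun a ha x y hxy => by
      obtain ⟨b, hb, rfl⟩ := ha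
      rw [show y = x from Subtype.ext (hxy.trans (hfix _ b.2 x x.2))])
  -- invariance under all of `Γ`
  have hχ₀ : ∀ (x : Γ) (y : G₀), (χ₀ : G₀ → ℂ) (φ x y) = (χ₀ : G₀ → ℂ) y := by
    intro x y
    have hx : f x ∈ I ⊔ B := hB.sup_eq_top ▸ Subgroup.mem_top _
    rw [Subgroup.mem_sup_of_normal_left] at hx
    obtain ⟨_, ⟨g, hg, rfl⟩, b, hb, hgb⟩ := hx
    have e : φ x y = φ g ((b : MulAut G₀) y) := by
      have := congrArg (fun z : φ.range => (z : MulAut G₀) y) hgb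
      exact this.symm
    obtain ⟨a, ha⟩ := hφinner ⟨g, hg⟩
    rw [e, show φ g ((b : MulAut G₀) y) = a * (b : MulAut G₀) y * a⁻¹ from ha _,
      isClassFunction_irr χ₀.2 _ a]
    exact hχ₀B ⟨_, ⟨b, hb, rfl⟩⟩ y
  have hscal : ∀ x : N₀, (χ₀ : G₀ → ℂ) (x : G₀) = (l (j x) : ℂ) * (χ₀ : G₀ → ℂ) 1 := by
    have hc : classInner (fun x : N₀ => (χ₀ : G₀ → ℂ) x) (θ : N₀ → ℂ) ≠ 0 := by
      intro h0
      exact hχ₀m (mult_eq _ _ _ (by rw [Nat.cast_zero]; exact h0))
    have hinv : ∀ g : G₀, conjNormFun N₀ g (θ : N₀ → ℂ) = (θ : N₀ → ℂ) := fun g =>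
      funext fun x => congrArg (θ : N₀ → ℂ) (Subtype.ext (by
        show g * (x : G₀) * g⁻¹ = x
        apply Subtype.ext
        show (g : G) * ((x : G₀) : G) * (g : G)⁻¹ = ((x : G₀) : G)
        rw [show (g : G) * ((x : G₀) : G) = ((x : G₀) : G) * (g : G) from hZc _ x.2 g,
          mul_inv_cancel_right]))
    intro x
    have h2 := clifford_invariant N₀ χ₀.2 θ.2 hc hinv
    have e1 := congrFun h2 x
    have e2 := congrFun h2 1
    simp only [Pi.smul_apply, smul_eq_mul] at e1 e2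
    rw [e1, show (χ₀ : G₀ → ℂ) 1 = (χ₀ : G₀ → ℂ) ((1 : N₀) : G₀) from rfl, e2]
    show _ * ((l.comp j x : ℂˣ) : ℂ) = (l (j x) : ℂ) * (_ * ((l.comp j 1 : ℂˣ) : ℂ))
    rw [MonoidHom.comp_apply, map_one, Units.val_one, mul_one]
    exact mul_comm _ _
  -- the character of `G`
  let π : G₀ × Z' →* G := MonoidHom.noncommCoprod G₀.subtype Z'.subtype fun a b =>
    hZc b b.2 a
  have hπ : Function.Surjective π := fun g => by
    obtain ⟨g₀, hg₀, z, hz, rfl⟩ := hdec g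
    exact ⟨(⟨g₀, hg₀⟩, ⟨z, hz⟩), rfl⟩
  let jZ : Z' →* Z :=
    { toFun := fun x => ⟨((x : G) : Γ), x.2⟩, map_one' := rfl, map_mul' := fun _ _ => rfl }
  have hF : IsIrrCharacter (G₀ × Z') ((fun p : G₀ × Z' => (χ₀ : G₀ → ℂ) p.1) *
      fun p => (l (jZ p.2) : ℂ)) :=
    isIrrCharacter_mul_linear
      (isIrrCharacter_comp_surjective χ₀.2 (MonoidHom.fst G₀ Z') Prod.fst_surjective)
      (isIrrCharacter_linear ((l.comp jZ).comp (MonoidHom.snd G₀ Z'))) (by simp)
  obtain ⟨ψ', hψ', eψ⟩ := exists_quotient_irr π.ker hF (by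
    rintro ⟨a, b⟩ hab
    have hab' : (a : G) * b = 1 := hab
    have haZ : (a : G) ∈ Z' := by
      rw [eq_inv_of_mul_eq_one_left hab']; exact Z'.inv_mem b.2
    have h1 := hscal ⟨a, haZ⟩
    show (χ₀ : G₀ → ℂ) a * (l (jZ b) : ℂ) = (χ₀ : G₀ → ℂ) 1 * (l (jZ 1) : ℂ)
    rw [show (χ₀ : G₀ → ℂ) a = _ from h1, map_one, map_one, Units.val_one, mul_one,
      mul_right_comm, ← Units.val_mul, ← map_mul,
      show j ⟨a, haZ⟩ * jZ b = 1 from Subtype.ext (congrArg (fun u : G => (u : Γ)) hab'), map_one,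
      Units.val_one, one_mul])
  let eq : (G₀ × Z') ⧸ π.ker ≃* G := QuotientGroup.quotientKerEquivOfSurjective π hπ
  let χ : IrrCharacter G := ⟨fun g => ψ' (eq.symm g),
    isIrrCharacter_comp_surjective hψ' eq.symm.toMonoidHom eq.symm.surjective⟩
  have hval : ∀ p : G₀ × Z', (χ : G → ℂ) (π p) = (χ₀ : G₀ → ℂ) p.1 * (l (jZ p.2) : ℂ) := by
    intro p
    show ψ' (eq.symm (π p)) = _
    rw [show eq.symm (π p) = (p : (G₀ × Z') ⧸ π.ker) from (MulEquiv.symm_apply_eq eq).2 rfl]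
    exact (congrFun eψ p).symm
  refine ⟨χ, fun x g => ?_, fun z => ?_⟩
  · obtain ⟨⟨a, b⟩, rfl⟩ := hπ g
    rw [show (⟨x * ((π (a, b) : G) : Γ) * x⁻¹, hG.conj_mem _ (π (a, b)).2 x⟩ : G) = π (φ x a, b) from
      Subtype.ext (by
        show x * (((a : G) * b : G) : Γ) * x⁻¹ = (x * ((a : G) : Γ) * x⁻¹) * ((b : G) : Γ)
        have hb : x⁻¹ * ((b : G) : Γ) = ((b : G) : Γ) * x⁻¹ :=
          Subgroup.mem_center_iff.1 (hZ b.2) x⁻¹
        rw [Subgroup.coe_mul]
        simp only [mul_assoc]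
        rw [hb])]
    rw [hval, hval, hχ₀]
  · have h := hval (1, ⟨⟨z, hZG z.2⟩, z.2⟩)
    have h1 := hval 1
    rw [map_one] at h1
    rw [show π ((1 : G₀), (⟨⟨z, hZG z.2⟩, z.2⟩ : Z')) = ⟨z, hZG z.2⟩ from one_mul _] at h
    rw [h, h1, show jZ (1 : G₀ × Z').2 = 1 from Subtype.ext rfl, map_one, Units.val_one, mul_one,
      show jZ (((1 : G₀), (⟨⟨z, hZG z.2⟩, z.2⟩ : Z'))).2 = z from Subtype.ext rfl]
    exact mul_comm _ _

/-- Invariant characters over invariant characters, solvable top. -/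
theorem exists_inv_of_solvable_top {Γ : Type u} [Group Γ] [Fintype Γ] (G N : Subgroup Γ)
    [hG : G.Normal] [hN : N.Normal] [Fintype G] [Fintype N] (hNG : N ≤ G)
    (hcop : G.index.Coprime (N.relIndex G)) (hsolv : Group.IsSolvable (Γ ⧸ G)) (θ : IrrCharacter N)
    (hinv : ∀ (x : Γ) (n : N),
      (θ : N → ℂ) ⟨x * n * x⁻¹, hN.conj_mem (n : Γ) n.2 x⟩ = (θ : N → ℂ) n) :
    ∃ χ : IrrCharacter G, classInner (fun n : N => (χ : G → ℂ) ⟨n, hNG n.2⟩) (θ : N → ℂ) ≠ 0 ∧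
      ∀ (x : Γ) (g : G),
        (χ : G → ℂ) ⟨x * g * x⁻¹, hG.conj_mem (g : Γ) g.2 x⟩ = (χ : G → ℂ) g := by
  classical
  obtain ⟨θf, hθ⟩ := θ
  obtain ⟨d, ρ, hρ, rfl⟩ := hθ
  haveI : Nontrivial (Fin d → ℂ) := nontrivial_of_irr ρ
  have hinv' : ∀ (g : Γ) (x : N), ρ.character (MulAut.conjNormal g x) = ρ.character x :=
    invariant_of_rep rfl hinv
  have hμ : ∀ n : N, detHom ρ n ^ Nat.card Γ = (1 : Γ →* ℂˣ) n := fun n => by
    rw [MonoidHom.one_apply, ← map_pow]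
    have : n ^ Nat.card Γ = 1 := Subtype.ext (by simp)
    rw [this, map_one]
  have hk : Nat.card Γ ≠ 0 := Nat.card_pos.ne'
  let E := extGroup ρ (1 : Γ →* ℂˣ) (Nat.card Γ)
  haveI := finite_extGroup (ρ := ρ) (μ := (1 : Γ →* ℂˣ)) hk
  haveI := Fintype.ofFinite E
  let π : E →* Γ := extProj ρ 1 (Nat.card Γ)
  let ι : N →* E := extIncl ρ 1 (Nat.card Γ) hμ
  have hsurj : Function.Surjective π := extProj_surjective hinv' hk
  haveI := range_extIncl_normal hμ
  let M : Subgroup E := ι.range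
  let q := QuotientGroup.mk' M
  have hq := QuotientGroup.mk'_surjective M
  let P := extRep ρ (1 : Γ →* ℂˣ) (Nat.card Γ)
  have hπι : ∀ n : N, π (ι n) = n := fun n => rfl
  have hM1 : ∀ γ ∈ M, π γ = 1 → γ = 1 := by
    rintro _ ⟨n, rfl⟩ h
    rw [hπι, OneMemClass.coe_eq_one] at h
    rw [h, map_one]
  let Gh := G.comap π
  haveI : Gh.Normal := Subgroup.Normal.comap inferInstance _
  haveI := Fintype.ofFinite Gh
  have hMG : M ≤ Gh := by rintro _ ⟨n, rfl⟩; exact hNG (hπι n ▸ n.2)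
  let G₁ := Gh.map q
  haveI : G₁.Normal := Subgroup.Normal.map inferInstance _ hq
  haveI := Fintype.ofFinite G₁
  haveI := Fintype.ofFinite (E ⧸ M)
  let Z₁ := π.ker.map q
  have hZ₁G : Z₁ ≤ G₁ := Subgroup.map_mono fun γ hγ => by
    show π γ ∈ G
    rw [MonoidHom.mem_ker.1 hγ]; exact G.one_mem
  choose c hc1 hc using fun γ : π.ker =>
    exists_scalar_of_proj_one (MonoidHom.mem_ker.1 γ.2)
  have hZc : Z₁ ≤ Subgroup.center (E ⧸ M) := by
    rintro _ ⟨γ, hγ, rfl⟩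
    rw [Subgroup.mem_center_iff]
    intro y
    obtain ⟨y, rfl⟩ := hq y
    rw [← map_mul, ← map_mul]
    congr 1
    refine Subtype.ext (Prod.ext ?_ ?_)
    · show y.1.1 * π γ = π γ * y.1.1
      rw [MonoidHom.mem_ker.1 hγ, one_mul, mul_one]
    · show y.1.2 * γ.1.2 = γ.1.2 * y.1.2
      rw [hc ⟨γ, hγ⟩, scalarUnit_comm]
  have hidx : G₁.index = G.index := by
    rw [Subgroup.index_map_eq Gh hq (by rw [QuotientGroup.ker_mk']; exact hMG),
      Subgroup.index_comap_of_surjective G hsurj]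
  have hrel : Z₁.relIndex G₁ = N.relIndex G := by
    have hsup : π.ker ⊔ M = N.comap π := by
      refine le_antisymm (sup_le ?_ ?_) fun γ hγ => ?_
      · intro γ hγ
        show π γ ∈ N
        rw [MonoidHom.mem_ker.1 hγ]; exact N.one_mem
      · rintro _ ⟨n, rfl⟩; exact n.2
      · have h1 : γ * (ι ⟨π γ, hγ⟩)⁻¹ ∈ π.ker := by
          rw [MonoidHom.mem_ker, map_mul, map_inv, hπι, mul_inv_cancel]
        have h2 : ι ⟨π γ, hγ⟩ ∈ M := ⟨⟨π γ, hγ⟩, rfl⟩
        simpa using Subgroup.mul_mem_sup h1 h2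
    rw [show Z₁.relIndex G₁ = (Z₁.comap q).relIndex Gh from (Subgroup.relIndex_comap Z₁ q Gh).symm,
      Subgroup.comap_map_eq, QuotientGroup.ker_mk', hsup, Subgroup.relIndex_comap,
      Subgroup.map_comap_eq_self_of_surjective hsurj]
  haveI hs1 : Group.IsSolvable ((E ⧸ M) ⧸ G₁) := by
    let g : E →* (E ⧸ M) ⧸ G₁ := (QuotientGroup.mk' G₁).comp q
    have hgk : Gh ≤ g.ker := fun γ hγ =>
      (QuotientGroup.eq_one_iff _).2 (Subgroup.mem_map_of_mem q hγ)
    let g' : Γ →* (E ⧸ M) ⧸ G₁ := MonoidHom.liftOfSurjective π hsurj ⟨g, fun γ hγ => hgk (by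
      show π γ ∈ G
      rw [MonoidHom.mem_ker.1 hγ]; exact G.one_mem)⟩
    have hg' : ∀ γ, g' (π γ) = g γ := fun γ =>
      MonoidHom.liftOfRightInverse_comp_apply _ _ _ ⟨g, _⟩ γ
    refine Group.isSolvable_of_surjective (f := QuotientGroup.lift G g' fun x hx => ?_) fun y => ?_
    · obtain ⟨γ, rfl⟩ := hsurj x
      rw [MonoidHom.mem_ker, hg']
      exact hgk hx
    · obtain ⟨y, rfl⟩ := QuotientGroup.mk'_surjective _ y
      obtain ⟨γ, rfl⟩ := hq y
      exact ⟨QuotientGroup.mk (π γ), hg' γ⟩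
  -- the scalars
  let qK : π.ker →* E ⧸ M := q.comp π.ker.subtype
  have hqK : Function.Injective qK := by
    rw [injective_iff_map_eq_one]
    intro γ h
    exact Subtype.ext (hM1 _ ((QuotientGroup.eq_one_iff _).1 h) γ.2)
  have hrange : qK.range = Z₁ := by
    rw [MonoidHom.range_comp, Subgroup.range_subtype]
  let eK : π.ker ≃* Z₁ := (MonoidHom.ofInjective hqK).trans (MulEquiv.subgroupCongr hrange)
  let ch : π.ker →* ℂˣ :=
    { toFun := c
      map_one' := scalarUnit_injective (V := Fin d → ℂ) (by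
        rw [← hc, map_one]; rfl)
      map_mul' := fun a b => scalarUnit_injective (V := Fin d → ℂ) (by
        rw [← hc, map_mul, ← hc, ← hc]; rfl) }
  obtain ⟨χ₁, hχ₁i, hχ₁z⟩ := exists_inv_central G₁ Z₁ hZ₁G hZc
    (by rw [hidx, hrel]; exact hcop) hs1 ((ch.comp eK.symm.toMonoidHom)⁻¹)
  let qG : Gh →* G₁ := q.subgroupMap Gh
  have hqG : Function.Surjective qG := q.subgroupMap_surjective Gh
  let M' := M.subgroupOf Gh
  haveI : M'.Normal := Subgroup.Normal.comap inferInstance _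
  haveI := Fintype.ofFinite M'
  have hinj : Function.Injective ι := fun a b h =>
    Subtype.ext (congrArg (fun z : E => z.1.1) h)
  let eN : N ≃* M' :=
    (MonoidHom.ofInjective hinj).trans (Subgroup.subgroupOfEquivOfLe hMG).symm
  have heN : ∀ n : N, (((eN n : M') : Gh) : E) = ι n := fun n => rfl
  have hres : IsIrrCharacter M' (fun x : M' => P.character ((x : Gh) : E)) := by
    have he : (fun x : M' => P.character ((x : Gh) : E)) = ρ.character ∘ eN.symm.toMonoidHom :=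
      funext fun x => by
        obtain ⟨n, rfl⟩ := eN.surjective x
        show P.character (ι n) = ρ.character (eN.symm (eN n))
        rw [MulEquiv.symm_apply_apply]
        rfl
    rw [he]
    exact isIrrCharacter_comp_surjective ⟨d, ρ, hρ, rfl⟩ eN.symm.toMonoidHom eN.symm.surjective
  let β : Gh → ℂ := fun g => (χ₁ : G₁ → ℂ) (qG g)
  have hβM : ∀ n ∈ M', β n = β 1 := fun n hn => by
    show (χ₁ : G₁ → ℂ) (qG n) = (χ₁ : G₁ → ℂ) (qG 1)
    rw [map_one, show qG n = 1 from Subtype.ext ((QuotientGroup.eq_one_iff _).2 hn)]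
  have hirr := (gallagher M' (χ := fun g : Gh => P.character (g : E))
    (isCharacter_restrict (isCharacter_character P) Gh) hres).1 β
    (isIrrCharacter_comp_surjective χ₁.2 qG hqG) hβM
  let πG : Gh →* G := π.subgroupComap G
  have hπG : Function.Surjective πG := π.subgroupComap_surjective_of_surjective G hsurj
  have hker : ∀ z ∈ πG.ker, (β * fun g : Gh => P.character (g : E)) z =
      (β * fun g : Gh => P.character (g : E)) 1 := by
    intro z hz
    have hzk : (z : E) ∈ π.ker := congrArg Subtype.val (MonoidHom.mem_ker.1 hz)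
    have h1 := hχ₁z (eK ⟨z, hzk⟩)
    rw [show (⟨((eK ⟨z, hzk⟩ : Z₁) : E ⧸ M), hZ₁G (eK ⟨z, hzk⟩).2⟩ : G₁) = qG z from Subtype.ext rfl,
      MonoidHom.inv_apply, MonoidHom.comp_apply, MulEquiv.coe_toMonoidHom,
      MulEquiv.symm_apply_apply] at h1
    have hP : P.character (z : E) = (c ⟨z, hzk⟩ : ℂ) * P.character ((1 : Gh) : E) := by
      rw [show ((1 : Gh) : E) = 1 from rfl, Representation.char_one]
      show LinearMap.trace ℂ _ (((z : E)).1.2 : Module.End ℂ (Fin d → ℂ)) = _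
      rw [hc ⟨z, hzk⟩, coe_scalarUnit, map_smul, LinearMap.trace_one, smul_eq_mul]
    show (χ₁ : G₁ → ℂ) (qG z) * _ = (χ₁ : G₁ → ℂ) (qG 1) * _
    beta_reduce
    rw [h1, hP, map_one]
    show ((c ⟨z, hzk⟩)⁻¹ : ℂˣ).val * _ * _ = _
    rw [Units.val_inv_eq_inv_val, mul_assoc, mul_left_comm (_ : ℂ) (c ⟨z, hzk⟩ : ℂ),
      inv_mul_cancel_left₀ (Units.ne_zero _)]
  obtain ⟨ψ', hψ', eψ⟩ := exists_quotient_irr πG.ker hirr hker
  let eq : Gh ⧸ πG.ker ≃* G := QuotientGroup.quotientKerEquivOfSurjective πG hπG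
  let χ : IrrCharacter G := ⟨fun g => ψ' (eq.symm g),
    isIrrCharacter_comp_surjective hψ' eq.symm.toMonoidHom eq.symm.surjective⟩
  have hval : ∀ g : Gh, (χ : G → ℂ) (πG g) = (χ₁ : G₁ → ℂ) (qG g) * P.character (g : E) := by
    intro g
    show ψ' (eq.symm (πG g)) = _
    rw [show eq.symm (πG g) = (g : Gh ⧸ πG.ker) from (MulEquiv.symm_apply_eq eq).2 rfl]
    exact (congrFun eψ g).symm
  refine ⟨χ, ?_, fun x g => ?_⟩
  · have e : (fun n : N => (χ : G → ℂ) ⟨n, hNG n.2⟩) =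
        (χ₁ : G₁ → ℂ) 1 • ρ.character := funext fun n => by
      rw [show (⟨(n : Γ), hNG n.2⟩ : G) = πG (eN n : Gh) from Subtype.ext (hπι n).symm, hval]
      show β (eN n : Gh) * P.character (ι n) = (χ₁ : G₁ → ℂ) 1 * ρ.character n
      rw [hβM _ (eN n).2]
      show (χ₁ : G₁ → ℂ) (qG 1) * _ = _
      rw [map_one]
      rfl
    show classInner _ ρ.character ≠ 0
    rw [e, classInner_smul_left, classInner_irr_self ⟨d, ρ, hρ, rfl⟩, mul_one]
    exact irr_ne_zero χ₁.2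
  · obtain ⟨γ, rfl⟩ := hsurj x
    obtain ⟨g, rfl⟩ := hπG g
    rw [show (⟨π γ * ((πG g : G) : Γ) * (π γ)⁻¹, hG.conj_mem _ (πG g).2 _⟩ : G) =
        πG ⟨γ * g * γ⁻¹, Subgroup.Normal.conj_mem inferInstance _ g.2 γ⟩ from Subtype.ext (by
      show _ = π (γ * g * γ⁻¹)
      rw [map_mul, map_mul, map_inv]; rfl)]
    rw [hval, hval]
    congr 1
    · rw [← hχ₁i (q γ) (qG g)]
      refine congrArg _ (Subtype.ext ?_)
      show q (γ * g * γ⁻¹) = q γ * q g * (q γ)⁻¹
      rw [map_mul, map_mul, map_inv]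
    · exact isClassFunction_char (isCharacter_character P) _ γ

end CfsgLib.Glauberman.Invariant
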