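import Cfsg.Agent.Lib.CharTheory
import Cfsg.Agent.Lib.CharTheory.Clifford

/-!
# Multiplicities in restrictions along a homomorphism
-/

namespace CfsgLib.Glauberman

open Cfsg CfsgLib.CharTheory
open scoped ComplexConjugate

universe u v w

variable {G : Type u} [Group G] {H : Type v} [Group H]

theorem exists_mult [Fintype H] (ι : H →* G) (χ : IrrCharacter G) (β : IrrCharacter H) :
    ∃ n : ℕ, classInner (fun h => (χ : G → ℂ) (ι h)) (β : H → ℂ) = n :=
  classInner_char_nat (isCharacter_comp (isCharacter_of_irr χ.2) ι) (isCharacter_of_irr β.2)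

/-- The multiplicity of `β` in the restriction of `χ` along `ι`. -/
noncomputable def mult [Fintype H] (ι : H →* G) (χ : IrrCharacter G) (β : IrrCharacter H) : ℕ :=
  (exists_mult ι χ β).choose

theorem mult_spec [Fintype H] (ι : H →* G) (χ : IrrCharacter G) (β : IrrCharacter H) :
    classInner (fun h => (χ : G → ℂ) (ι h)) (β : H → ℂ) = mult ι χ β :=
  (exists_mult ι χ β).choose_spec

theorem mult_eq [Fintype H] (ι : H →* G) (χ : IrrCharacter G) (β : IrrCharacter H) {n : ℕ}
    (h : classInner (fun x => (χ : G → ℂ) (ι x)) (β : H → ℂ) = n) : mult ι χ β = n := by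
  rw [mult_spec] at h
  exact_mod_cast h

theorem apply_eq_sum_mult [Fintype H] (ι : H →* G) (χ : IrrCharacter G) (h : H) :
    (χ : G → ℂ) (ι h) = ∑ β : IrrCharacter H, (mult ι χ β : ℂ) * (β : H → ℂ) h := by
  have := congrFun (eq_sum_irr (isClassFunction_char
    (isCharacter_comp (isCharacter_of_irr χ.2) ι))) h
  simp only [Finset.sum_apply, Pi.smul_apply, smul_eq_mul, mult_spec] at this
  exact this

theorem mult_comp {K : Type w} [Group K] [Fintype H] [Fintype K] (ι : H →* G) (κ : K →* H)
    (χ : IrrCharacter G) (γ : IrrCharacter K) :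
    mult (ι.comp κ) χ γ = ∑ β : IrrCharacter H, mult ι χ β * mult κ β γ := by
  apply mult_eq
  have e : (fun x => (χ : G → ℂ) ((ι.comp κ) x)) =
      ∑ β : IrrCharacter H, (mult ι χ β : ℂ) • fun x => (β : H → ℂ) (κ x) := by
    funext x
    rw [MonoidHom.comp_apply, apply_eq_sum_mult ι χ (κ x), Finset.sum_apply]
    rfl
  rw [e, classInner_sum_left]
  push_cast
  exact Finset.sum_congr rfl fun β _ => by rw [classInner_smul_left, mult_spec]

theorem mult_congr {H' : Type w} [Group H'] [Fintype H] [Fintype H'] (ι : H →* G) (ι' : H' →* G)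
    (e : H' ≃* H) (he : ∀ x, ι' x = ι (e x)) (χ : IrrCharacter G) (β : IrrCharacter H)
    (β' : IrrCharacter H') (hβ : ∀ x, (β' : H' → ℂ) x = (β : H → ℂ) (e x)) :
    mult ι' χ β' = mult ι χ β := by
  apply mult_eq
  rw [← mult_spec ι χ β]
  unfold classInner
  rw [Nat.card_congr e.toEquiv]
  congr 1
  exact Fintype.sum_equiv e.toEquiv _ _ fun x => by simp [he, hβ]

/-- A restriction to a normal subgroup has multiplicities dividing the degree. -/
theorem mult_dvd_degree [Fintype G] (N : Subgroup G) [N.Normal] [Fintype N]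
    (χ : IrrCharacter G) (θ : IrrCharacter N) (h : mult N.subtype χ θ ≠ 0) {d : ℕ}
    (hd : (χ : G → ℂ) 1 = d) : mult N.subtype χ θ ∣ d := by
  have hm : classInner (fun n : N => (χ : G → ℂ) n) (θ : N → ℂ) = (mult N.subtype χ θ : ℂ) :=
    mult_spec N.subtype χ θ
  have hne : classInner (fun n : N => (χ : G → ℂ) n) (θ : N → ℂ) ≠ 0 := by
    rw [hm]; exact_mod_cast h
  have hc := clifford_degree N χ.2 θ.2 hne
  obtain ⟨t, ht⟩ := char_one_eq_natCast (isCharacter_of_irr θ.2)
  rw [hm, hd, ht] at hc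
  exact ⟨(inertia N (θ : N → ℂ)).index * t, by rw [← mul_assoc]; exact_mod_cast hc⟩

end CfsgLib.Glauberman
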