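import Cfsg.Agent.Lib.Glauberman.NormalSylowStep

/-!
# The correspondence for a `p`-group acting on a group with a normal Sylow `p`-subgroup
-/

namespace CfsgLib.Glauberman.NormalSylow

open Cfsg CfsgLib.CharTheory CfsgLib.Glauberman

set_option linter.unusedVariables false
set_option linter.style.haveILetI false
set_option linter.unusedSectionVars false

universe u

variable {p : ℕ} {G : Type u} [Group G] [Finite G]

/-- `θ'` is the conjugate of `θ` by `s`. -/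
def Rel (s : G) (H : Subgroup G) (θ θ' : H → ℂ) : Prop :=
  ∀ k k' : H, (k' : G) = s * (k : G) * s⁻¹ → θ' k' = θ k

/-- Invariance under a set of operators. -/
def InvS (P : Subgroup G) (H : Subgroup G) (θ : H → ℂ) : Prop :=
  ∀ s ∈ P, ∀ k k' : H, (k' : G) = s * (k : G) * s⁻¹ → θ k' = θ k

theorem Rel.eq {s : G} {H : Subgroup G} (hs : s ∈ Subgroup.normalizer (H : Set G))
    {θ θ' : H → ℂ} (h : Rel s H θ θ') (h' : Rel s H θ θ) : θ' = θ := by
  funext k'
  have hk : s⁻¹ * (k' : G) * s ∈ H := by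
    have := (Subgroup.mem_normalizer_iff.1 ((Subgroup.normalizer (H : Set G)).inv_mem hs) k').1 k'.2
    simpa using this
  rw [h ⟨_, hk⟩ k' (by simp [mul_assoc]), h' ⟨_, hk⟩ k' (by simp [mul_assoc])]

/-- Conjugation by a normalising element. -/
noncomputable def act (S H : Subgroup G) (hn : S ≤ Subgroup.normalizer (H : Set G)) : S →* MulAut H :=
  H.normalizerMonoidHom.comp (Subgroup.inclusion hn)

theorem act_apply (S H : Subgroup G) (hn : S ≤ Subgroup.normalizer (H : Set G)) (s : S) (h : H) :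
    ((act S H hn s h : H) : G) = (s : G) * h * (s : G)⁻¹ := rfl

theorem exists_rel {s : G} {H : Subgroup G} (hs : s ∈ Subgroup.normalizer (H : Set G))
    (θ : IrrCharacter H) : ∃ θ' : IrrCharacter H, Rel s H (θ : H → ℂ) (θ' : H → ℂ) := by
  let e := act (Subgroup.normalizer (H : Set G)) H le_rfl ⟨s, hs⟩
  refine ⟨⟨fun h => (θ : H → ℂ) (e.symm h),
    isIrrCharacter_comp_surjective θ.2 e.symm.toMonoidHom e.symm.surjective⟩, fun k k' hk => ?_⟩
  show (θ : H → ℂ) (e.symm k') = _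
  rw [show k' = e k from Subtype.ext (by rw [hk, act_apply]), MulEquiv.symm_apply_apply]

theorem rel_zpow {x : G} {H : Subgroup G} (hx : Subgroup.zpowers x ≤ Subgroup.normalizer (H : Set G))
    (θ : IrrCharacter H) (h : Rel x H (θ : H → ℂ) (θ : H → ℂ)) (i : ℤ) :
    Rel (x ^ i) H (θ : H → ℂ) (θ : H → ℂ) := by
  let e := act (Subgroup.zpowers x) H hx
  let S : Subgroup (Subgroup.zpowers x) :=
    { carrier := {s | ∀ k : H, (θ : H → ℂ) (e s k) = (θ : H → ℂ) k}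
      one_mem' := fun k => by rw [map_one]; rfl
      mul_mem' := fun {a b} ha hb k => by rw [map_mul, MulAut.mul_apply, ha, hb]
      inv_mem' := fun {a} ha k => by
        rw [← ha (e a⁻¹ k), ← MulAut.mul_apply, ← map_mul, mul_inv_cancel, map_one]; rfl }
  have hx1 : (⟨x, Subgroup.mem_zpowers x⟩ : Subgroup.zpowers x) ∈ S := fun k => h k _ (act_apply _ _ hx _ k)
  intro k k' hk
  have := (S.zpow_mem hx1 i) k
  rw [← this]
  exact congrArg _ (Subtype.ext (by rw [hk, act_apply, SubgroupClass.coe_zpow]))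

/-- Fixed points of a `p`-group on irreducible characters. -/
theorem sum_inv [Fact p.Prime] (S H : Subgroup G) [Fintype H] (hS : IsPGroup p S)
    (hn : S ≤ Subgroup.normalizer (H : Set G))
    [DecidablePred fun θ : IrrCharacter H => InvS S H (θ : H → ℂ)] (f : IrrCharacter H → ZMod p)
    (hf : ∀ s ∈ S, ∀ θ θ' : IrrCharacter H, Rel s H (θ : H → ℂ) (θ' : H → ℂ) → f θ' = f θ) :
    ∑ θ, f θ = ∑ θ ∈ Finset.univ.filter (fun θ : IrrCharacter H => InvS S H (θ : H → ℂ)), f θ := by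
  classical
  letI : MulAction S (IrrCharacter H) :=
    { smul := fun s θ => ⟨fun h => (θ : H → ℂ) ((act S H hn s).symm h),
        isIrrCharacter_comp_surjective θ.2 (act S H hn s).symm.toMonoidHom
          (act S H hn s).symm.surjective⟩
      one_smul := fun θ => Subtype.ext (funext fun h => by
        show (θ : H → ℂ) ((act S H hn 1).symm h) = _
        rw [map_one]; rfl)
      mul_smul := fun s t θ => Subtype.ext (funext fun h => by
        show (θ : H → ℂ) ((act S H hn (s * t)).symm h) =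
          (θ : H → ℂ) ((act S H hn t).symm ((act S H hn s).symm h))
        rw [map_mul]; rfl) }
  have hrel : ∀ (s : S) (θ : IrrCharacter H),
      Rel (s : G) H (θ : H → ℂ) ((s • θ : IrrCharacter H) : H → ℂ) := fun s θ k k' hk => by
    show (θ : H → ℂ) ((act S H hn s).symm k') = _
    rw [show k' = act S H hn s k from Subtype.ext (by rw [hk, act_apply]), MulEquiv.symm_apply_apply]
  have hfix : ∀ θ : IrrCharacter H,
      θ ∈ MulAction.fixedPoints S (IrrCharacter H) ↔ InvS S H (θ : H → ℂ) := fun θ =>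
    ⟨fun h s hs k k' hk => by
      have := hrel ⟨s, hs⟩ θ k k' hk
      rwa [h ⟨s, hs⟩] at this,
    fun h s => Subtype.ext ((hrel s θ).eq (hn s.2) (h s s.2))⟩
  rw [← Finset.sum_fiberwise_of_maps_to (s := Finset.univ) (t := Finset.univ.image f)
      (g := f) (fun i hi => Finset.mem_image_of_mem f hi) f,
    ← Finset.sum_fiberwise_of_maps_to
      (s := Finset.univ.filter (fun θ : IrrCharacter H => InvS S H (θ : H → ℂ)))
      (t := Finset.univ.image f) (g := f)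
      (fun i hi => Finset.mem_image_of_mem f (Finset.mem_univ i)) f]
  refine Finset.sum_congr rfl fun a _ => ?_
  let O : SubMulAction S (IrrCharacter H) :=
    { carrier := {i | f i = a}
      smul_mem' := fun g i hi => (hf (g : G) g.2 i (g • i) (hrel g i)).trans hi }
  rw [Finset.sum_congr rfl fun i hi => (Finset.mem_filter.1 hi).2,
    Finset.sum_congr rfl fun i hi => (Finset.mem_filter.1 hi).2,
    Finset.sum_const, Finset.sum_const, nsmul_eq_mul, nsmul_eq_mul]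
  congr 1
  rw [ZMod.natCast_eq_natCast_iff]
  have h := hS.card_modEq_card_fixedPoints O
  have e1 : Nat.card O = (Finset.univ.filter fun i => f i = a).card := by
    rw [show Nat.card O = Nat.card {i // f i = a} from rfl, Nat.card_eq_fintype_card,
      Fintype.card_subtype]
  have e2 : Nat.card (MulAction.fixedPoints S O) =
      ((Finset.univ.filter (fun θ : IrrCharacter H => InvS S H (θ : H → ℂ))).filter
        fun i => f i = a).card := by
    rw [Finset.filter_filter, ← Fintype.card_subtype, ← Nat.card_eq_fintype_card]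
    exact Nat.card_congr
      { toFun := fun i => ⟨i.1.1, (hfix _).1 fun g => congrArg Subtype.val (i.2 g), i.1.2⟩
        invFun := fun i => ⟨⟨i.1, i.2.2⟩, fun g => Subtype.ext ((hfix _).2 i.2.1 g)⟩
        left_inv := fun i => rfl
        right_inv := fun i => rfl }
  rwa [e1, e2] at h

/-- Multiplicities are unchanged by conjugation. -/
theorem mult_rel {s : G} {K C : Subgroup G} [Fintype C] (hCK : C ≤ K)
    (hs : s ∈ Subgroup.normalizer (C : Set G)) {χ χ' : IrrCharacter K} {η η' : IrrCharacter C}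
    (hχ : Rel s K (χ : K → ℂ) (χ' : K → ℂ)) (hη : Rel s C (η : C → ℂ) (η' : C → ℂ)) :
    mult (Subgroup.inclusion hCK) χ' η' = mult (Subgroup.inclusion hCK) χ η := by
  apply mult_eq
  rw [← mult_spec (Subgroup.inclusion hCK) χ η]
  unfold classInner
  congr 1
  refine (Fintype.sum_equiv (act (Subgroup.normalizer (C : Set G)) C le_rfl ⟨s, hs⟩).toEquiv _ _
    fun c => ?_).symm
  have hc := act_apply (Subgroup.normalizer (C : Set G)) C le_rfl ⟨s, hs⟩ c
  dsimp only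
  rw [MulEquiv.toEquiv_eq_coe, EquivLike.coe_coe, hη c _ hc,
    hχ (Subgroup.inclusion hCK c) (Subgroup.inclusion hCK _) hc]

/-- Transport of multiplicities along an equivalence of the group. -/
theorem mult_transport {K₁ K₂ C₁ C₂ : Type u} [Group K₁] [Group K₂] [Group C₁] [Group C₂]
    [Fintype C₁] [Fintype C₂] (eK : K₁ ≃* K₂) (eC : C₁ ≃* C₂) (ι₁ : C₁ →* K₁) (ι₂ : C₂ →* K₂)
    (hι : ∀ c, eK (ι₁ c) = ι₂ (eC c)) (χ₁ : IrrCharacter K₁) (χ₂ : IrrCharacter K₂)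
    (η₁ : IrrCharacter C₁) (η₂ : IrrCharacter C₂)
    (hχ : ∀ k, (χ₁ : K₁ → ℂ) k = (χ₂ : K₂ → ℂ) (eK k))
    (hη : ∀ c, (η₁ : C₁ → ℂ) c = (η₂ : C₂ → ℂ) (eC c)) :
    mult ι₁ χ₁ η₁ = mult ι₂ χ₂ η₂ := by
  apply mult_eq
  rw [← mult_spec ι₂ χ₂ η₂]
  unfold classInner
  rw [Nat.card_congr eC.toEquiv]
  congr 1
  exact Fintype.sum_equiv eC.toEquiv _ _ fun c => by simp [hχ, hη, hι]

/-- The conclusion of the correspondence. -/
def Corr (p : ℕ) (P K C : Subgroup G) [Fintype C] (hCK : C ≤ K) : Prop :=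
  (∀ χ : IrrCharacter K, InvS P K (χ : K → ℂ) → ∃ ξ : IrrCharacter C, InvS P C (ξ : C → ℂ) ∧
      (mult (Subgroup.inclusion hCK) χ ξ : ZMod p) ^ 2 = 1 ∧
      ∀ η : IrrCharacter C, InvS P C (η : C → ℂ) → η ≠ ξ → p ∣ mult (Subgroup.inclusion hCK) χ η) ∧
    (∀ ξ : IrrCharacter C, InvS P C (ξ : C → ℂ) → ∃ χ : IrrCharacter K, InvS P K (χ : K → ℂ) ∧
      ¬ p ∣ mult (Subgroup.inclusion hCK) χ ξ) ∧
    ∀ (χ χ' : IrrCharacter K) (ξ : IrrCharacter C), InvS P K (χ : K → ℂ) → InvS P K (χ' : K → ℂ) →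
      InvS P C (ξ : C → ℂ) → ¬ p ∣ mult (Subgroup.inclusion hCK) χ ξ →
      ¬ p ∣ mult (Subgroup.inclusion hCK) χ' ξ → χ = χ'

theorem not_dvd_of_sq [Fact p.Prime] {m : ℕ} (h : (m : ZMod p) ^ 2 = 1) : ¬ p ∣ m := fun hd => by
  rw [(ZMod.natCast_eq_zero_iff _ _).2 hd, zero_pow two_ne_zero] at h
  exact zero_ne_one h

/-- `p`-elements of `K` lie in a normal Sylow subgroup. -/
theorem mem_of_pow {K Q : Subgroup G} (hQn : ∀ k ∈ K, ∀ q ∈ Q, k * q * k⁻¹ ∈ Q) (hp : p.Prime)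
    (hsyl : ¬ p ∣ Q.relIndex K) {k : G} (hk : k ∈ K) {a : ℕ} (ha : k ^ (p ^ a) = 1) : k ∈ Q := by
  haveI : (Q.subgroupOf K).Normal :=
    ⟨fun q hq g => Subgroup.mem_subgroupOf.2 (hQn g g.2 q (Subgroup.mem_subgroupOf.1 hq))⟩
  have h1 : k ^ Q.relIndex K ∈ Q :=
    Subgroup.mem_subgroupOf.1 (Subgroup.pow_index_mem (Q.subgroupOf K) ⟨k, hk⟩)
  have h2 : k ^ (p ^ a) ∈ Q := by rw [ha]; exact Q.one_mem
  have hc : (Q.relIndex K).gcd (p ^ a) = 1 :=
    (((hp.coprime_iff_not_dvd.2 hsyl).symm).pow_right a)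
  have := Nat.gcd_eq_gcd_ab (Q.relIndex K) (p ^ a)
  rw [hc, Nat.cast_one] at this
  rw [← zpow_one k, this, zpow_add, zpow_mul, zpow_mul, zpow_natCast, zpow_natCast]
  exact Q.mul_mem (Q.zpow_mem h1 _) (Q.zpow_mem h2 _)

/-- A normal Sylow subgroup is invariant. -/
theorem conj_mem_sylow {K Q : Subgroup G} (hQK : Q ≤ K) (hQn : ∀ k ∈ K, ∀ q ∈ Q, k * q * k⁻¹ ∈ Q)
    (hp : p.Prime) (hQ : IsPGroup p Q) (hsyl : ¬ p ∣ Q.relIndex K) {x : G}
    (hx : x ∈ Subgroup.normalizer (K : Set G)) {q : G} (hq : q ∈ Q) : x * q * x⁻¹ ∈ Q := by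
  obtain ⟨a, ha⟩ := hQ ⟨q, hq⟩
  refine mem_of_pow hQn hp hsyl ((Subgroup.mem_normalizer_iff.1 hx q).1 (hQK hq)) (a := a) ?_
  have := congrArg Subtype.val ha
  rw [SubmonoidClass.coe_pow, Subgroup.coe_one] at this
  rw [conj_pow, this]
  simp

/-- The correspondence for one operator, inside `G`. -/
theorem step [Fact p.Prime] (K Q C : Subgroup G) [Fintype K] [Fintype C] (x : G) {e : ℕ}
    (hx : orderOf x = p ^ e) (hxK : x ∈ Subgroup.normalizer (K : Set G)) (hQK : Q ≤ K)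
    (hQn : ∀ k ∈ K, ∀ q ∈ Q, k * q * k⁻¹ ∈ Q) (hQ : IsPGroup p Q) (hsyl : ¬ p ∣ Q.relIndex K)
    (hCK : C ≤ K) (hC : ∀ k : G, k ∈ C ↔ k ∈ K ∧ x * k * x⁻¹ * k⁻¹ ∈ Q) :
    (∀ χ : IrrCharacter K, Rel x K (χ : K → ℂ) (χ : K → ℂ) → ∃ ξ : IrrCharacter C,
      Rel x C (ξ : C → ℂ) (ξ : C → ℂ) ∧ (mult (Subgroup.inclusion hCK) χ ξ : ZMod p) ^ 2 = 1 ∧
      ∀ η : IrrCharacter C, Rel x C (η : C → ℂ) (η : C → ℂ) → η ≠ ξ →
        p ∣ mult (Subgroup.inclusion hCK) χ η) ∧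
    (∀ ξ : IrrCharacter C, Rel x C (ξ : C → ℂ) (ξ : C → ℂ) → ∃ χ : IrrCharacter K,
      Rel x K (χ : K → ℂ) (χ : K → ℂ) ∧ ¬ p ∣ mult (Subgroup.inclusion hCK) χ ξ) ∧
    ∀ (χ χ' : IrrCharacter K) (ξ : IrrCharacter C), Rel x K (χ : K → ℂ) (χ : K → ℂ) →
      Rel x K (χ' : K → ℂ) (χ' : K → ℂ) → Rel x C (ξ : C → ℂ) (ξ : C → ℂ) →
      ¬ p ∣ mult (Subgroup.inclusion hCK) χ ξ → ¬ p ∣ mult (Subgroup.inclusion hCK) χ' ξ →
      χ = χ' := by
  classical
  have hp : p.Prime := Fact.out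
  let Γ : Subgroup G := K ⊔ Subgroup.zpowers x
  haveI := Fintype.ofFinite Γ
  let KΓ : Subgroup Γ := K.subgroupOf Γ
  let CΓ : Subgroup Γ := C.subgroupOf Γ
  haveI := Fintype.ofFinite KΓ
  haveI := Fintype.ofFinite CΓ
  let xΓ : Γ := ⟨x, Subgroup.mem_sup_right (Subgroup.mem_zpowers x)⟩
  have hQinv : ∀ g ∈ Subgroup.normalizer (K : Set G), ∀ q ∈ Q, g * q * g⁻¹ ∈ Q :=
    fun g hg q hq => conj_mem_sylow hQK hQn hp hQ hsyl hg hq
  have hΓn : Γ ≤ Subgroup.normalizer (K : Set G) :=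
    sup_le Subgroup.le_normalizer (Subgroup.zpowers_le.2 hxK)
  have h : StepData p KΓ (Q.subgroupOf Γ) CΓ xΓ :=
    { prime := hp
      normal := (Subgroup.normal_subgroupOf_iff_le_normalizer le_sup_left).2 hΓn
      qnormal := ⟨fun q hq g => Subgroup.mem_subgroupOf.2
        (hQinv g (hΓn g.2) q (Subgroup.mem_subgroupOf.1 hq))⟩
      qle := fun q hq => Subgroup.mem_subgroupOf.2 (hQK (Subgroup.mem_subgroupOf.1 hq))
      qgroup := hQ.of_equiv (Subgroup.subgroupOfEquivOfLe (hQK.trans le_sup_left)).symm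
      sylow := by
        rwa [Subgroup.relIndex_subgroupOf le_sup_left]
      elt := ⟨e, by rw [← Subgroup.orderOf_coe]; exact hx⟩
      gen := by
        apply Subgroup.map_injective Γ.subtype_injective
        rw [Subgroup.map_sup, MonoidHom.map_zpowers, ← MonoidHom.range_eq_map,
          Subgroup.range_subtype, Subgroup.map_subgroupOf_eq_of_le le_sup_left]
        rfl
      fix := fun k => hC k }
  have hCKΓ : CΓ ≤ KΓ := fun k hk => hCK hk
  obtain ⟨ha, hb, hc⟩ := h.corr hCKΓ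
  let eK : KΓ ≃* K := Subgroup.subgroupOfEquivOfLe le_sup_left
  let eC : CΓ ≃* C := Subgroup.subgroupOfEquivOfLe (hCK.trans le_sup_left)
  let upK : IrrCharacter K → IrrCharacter KΓ := fun χ =>
    ⟨fun k => (χ : K → ℂ) (eK k), isIrrCharacter_comp_surjective χ.2 eK.toMonoidHom eK.surjective⟩
  let upC : IrrCharacter C → IrrCharacter CΓ := fun χ =>
    ⟨fun k => (χ : C → ℂ) (eC k), isIrrCharacter_comp_surjective χ.2 eC.toMonoidHom eC.surjective⟩
  let downK : IrrCharacter KΓ → IrrCharacter K := fun χ =>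
    ⟨fun k => (χ : KΓ → ℂ) (eK.symm k),
      isIrrCharacter_comp_surjective χ.2 eK.symm.toMonoidHom eK.symm.surjective⟩
  let downC : IrrCharacter CΓ → IrrCharacter C := fun χ =>
    ⟨fun k => (χ : CΓ → ℂ) (eC.symm k),
      isIrrCharacter_comp_surjective χ.2 eC.symm.toMonoidHom eC.symm.surjective⟩
  have hudK : ∀ χ, upK (downK χ) = χ := fun χ => Subtype.ext (funext fun k => by
    show (χ : KΓ → ℂ) (eK.symm (eK k)) = _
    rw [MulEquiv.symm_apply_apply])
  have hudC : ∀ χ, upC (downC χ) = χ := fun χ => Subtype.ext (funext fun k => by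
    show (χ : CΓ → ℂ) (eC.symm (eC k)) = _
    rw [MulEquiv.symm_apply_apply])
  have hduK : ∀ χ, downK (upK χ) = χ := fun χ => Subtype.ext (funext fun k => by
    show (χ : K → ℂ) (eK (eK.symm k)) = _
    rw [MulEquiv.apply_symm_apply])
  have hinvK : ∀ χ : IrrCharacter K,
      Rel x K (χ : K → ℂ) (χ : K → ℂ) ↔ InvX xΓ KΓ (upK χ : KΓ → ℂ) := fun χ =>
    ⟨fun hh k k' hk => hh (eK k) (eK k') (congrArg Subtype.val hk),
      fun hh k k' hk => by
        have := hh (eK.symm k) (eK.symm k') (Subtype.ext hk)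
        simpa [upK] using this⟩
  have hinvC : ∀ χ : IrrCharacter C,
      Rel x C (χ : C → ℂ) (χ : C → ℂ) ↔ InvX xΓ CΓ (upC χ : CΓ → ℂ) := fun χ =>
    ⟨fun hh k k' hk => hh (eC k) (eC k') (congrArg Subtype.val hk),
      fun hh k k' hk => by
        have := hh (eC.symm k) (eC.symm k') (Subtype.ext hk)
        simpa [upC] using this⟩
  have hm : ∀ (χ : IrrCharacter K) (η : IrrCharacter C),
      mult (Subgroup.inclusion hCKΓ) (upK χ) (upC η) = mult (Subgroup.inclusion hCK) χ η :=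
    fun χ η => mult_transport eK eC _ _ (fun c => rfl) _ _ _ _ (fun k => rfl) (fun c => rfl)
  refine ⟨fun χ hχ => ?_, fun ξ hξ => ?_, fun χ χ' ξ hχ hχ' hξ h1 h2 => ?_⟩
  · obtain ⟨ξ, hξ, h1, h2⟩ := ha _ ((hinvK χ).1 hχ)
    rw [← hudC ξ] at hξ h1
    rw [hm] at h1
    exact ⟨downC ξ, (hinvC _).2 hξ, h1, fun η hη hne => by
      rw [← hm]
      exact h2 _ ((hinvC η).1 hη) fun e => hne (by
        rw [← e]
        exact (Subtype.ext (funext fun k => by
          show (η : C → ℂ) k = (η : C → ℂ) (eC (eC.symm k))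
          rw [MulEquiv.apply_symm_apply])))⟩
  · obtain ⟨χ, hχ, h1⟩ := hb _ ((hinvC ξ).1 hξ)
    rw [← hudK χ] at hχ h1
    exact ⟨downK χ, (hinvK _).2 hχ, by rwa [hm] at h1⟩
  · have := hc _ _ _ ((hinvK χ).1 hχ) ((hinvK χ').1 hχ') ((hinvC ξ).1 hξ)
      (by rwa [hm]) (by rwa [hm])
    rw [← hduK χ, ← hduK χ', this]

/-- Elements of `K` fixed by `P` modulo `Q`. -/
def fixMod (P K Q : Subgroup G) (hQn : ∀ k ∈ K, ∀ q ∈ Q, k * q * k⁻¹ ∈ Q) : Subgroup G where
  carrier := {k | k ∈ K ∧ ∀ x ∈ P, x * k * x⁻¹ * k⁻¹ ∈ Q}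
  one_mem' := ⟨K.one_mem, fun x _ => by simp⟩
  mul_mem' := fun {a b} ha hb => ⟨K.mul_mem ha.1 hb.1, fun x hx => by
    rw [show x * (a * b) * x⁻¹ * (a * b)⁻¹ =
      (x * a * x⁻¹ * a⁻¹) * (a * (x * b * x⁻¹ * b⁻¹) * a⁻¹) by group]
    exact Q.mul_mem (ha.2 x hx) (hQn a ha.1 _ (hb.2 x hx))⟩
  inv_mem' := fun {a} ha => ⟨K.inv_mem ha.1, fun x hx => by
    rw [show x * a⁻¹ * x⁻¹ * a⁻¹⁻¹ = a⁻¹ * (x * a * x⁻¹ * a⁻¹)⁻¹ * a⁻¹⁻¹ by group]
    exact hQn _ (K.inv_mem ha.1) _ (Q.inv_mem (ha.2 x hx))⟩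

/-- A subgroup of index `p` in a non-trivial `p`-group. -/
theorem exists_index_p [Fact p.Prime] {P : Subgroup G} (hP : IsPGroup p P) (hne : P ≠ ⊥) :
    ∃ (P' : Subgroup G) (x : G), P' ≤ P ∧ x ∈ P ∧ Nat.card P' < Nat.card P ∧
      P' ⊔ Subgroup.zpowers x = P ∧ ∀ y ∈ P, ∀ z ∈ P', y * z * y⁻¹ ∈ P' := by
  have hp : p.Prime := Fact.out
  obtain ⟨n, hn⟩ := IsPGroup.iff_card.1 hP
  have hn0 : n ≠ 0 := fun h0 => hne (Subgroup.card_eq_one.1 (by rw [hn, h0, pow_zero]))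
  obtain ⟨m, rfl⟩ := Nat.exists_eq_succ_of_ne_zero hn0
  obtain ⟨H, hH⟩ := Sylow.exists_subgroup_card_pow_prime (G := P) p (n := m)
    (by rw [hn]; exact pow_dvd_pow _ (Nat.le_succ m))
  have hidx : H.index = p := by
    have := H.index_mul_card
    rw [hH, hn, pow_succ'] at this
    exact Nat.eq_of_mul_eq_mul_right (pow_pos hp.pos m) this
  haveI : H.Normal := Subgroup.normal_of_index_eq_minFac_card (by
    rw [hidx, hn, Nat.pow_minFac hn0, hp.minFac_eq])
  have hcard : Nat.card (H.map P.subtype) = p ^ m := by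
    rw [Subgroup.card_map_of_injective P.subtype_injective, hH]
  obtain ⟨x, hx, hxH⟩ : ∃ x ∈ P, x ∉ H.map P.subtype := by
    by_contra hno
    push Not at hno
    have := Subgroup.card_le_of_le (show P ≤ H.map P.subtype from hno)
    rw [hcard, hn] at this
    exact absurd this (not_le.2 (Nat.pow_lt_pow_right hp.one_lt (Nat.lt_succ_self m)))
  refine ⟨H.map P.subtype, x, Subgroup.map_subtype_le H, hx, ?_, ?_, ?_⟩
  · rw [hcard, hn]
    exact Nat.pow_lt_pow_right hp.one_lt (Nat.lt_succ_self m)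
  · have hle : H.map P.subtype ⊔ Subgroup.zpowers x ≤ P :=
      sup_le (Subgroup.map_subtype_le H) (Subgroup.zpowers_le.2 hx)
    refine Subgroup.eq_of_le_of_card_ge hle ?_
    obtain ⟨j, hj, hj'⟩ := (Nat.dvd_prime_pow hp).1 (hn ▸ Subgroup.card_dvd_of_le hle)
    rw [hn, hj']
    refine Nat.pow_le_pow_right hp.pos ?_
    by_contra hlt
    apply hxH
    have := Subgroup.eq_of_le_of_card_ge (le_sup_left (a := H.map P.subtype)
      (b := Subgroup.zpowers x)) (by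
        rw [hcard, hj']; exact Nat.pow_le_pow_right hp.pos (by omega))
    rw [this]
    exact Subgroup.mem_sup_right (Subgroup.mem_zpowers x)
  · rintro y hy - ⟨z, hz, rfl⟩
    exact ⟨⟨y, hy⟩ * z * ⟨y, hy⟩⁻¹, Subgroup.Normal.conj_mem ‹_› z hz _, rfl⟩

/-- The correspondence. -/
theorem main [Fact p.Prime] : ∀ (n : ℕ) (P K Q C : Subgroup G) [Fintype K] [Fintype C],
    Nat.card P = n → IsPGroup p P → P ≤ Subgroup.normalizer (K : Set G) → Q ≤ K →
    (∀ k ∈ K, ∀ q ∈ Q, k * q * k⁻¹ ∈ Q) → IsPGroup p Q → ¬ p ∣ Q.relIndex K →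
    (∀ k : G, k ∈ C ↔ k ∈ K ∧ ∀ x ∈ P, x * k * x⁻¹ * k⁻¹ ∈ Q) →
    ∀ hCK : C ≤ K, Corr p P K C hCK := by
  intro n
  induction n using Nat.strong_induction_on with
  | _ n ih =>
    intro P K Q C iK iC hn hP hPK hQK hQn hQ hsyl hC hCK
    classical
    have hp : p.Prime := Fact.out
    by_cases hbot : P = ⊥
    · obtain rfl : C = K := le_antisymm hCK fun k hk => (hC k).2 ⟨hk, fun x hx => by
        rw [hbot, Subgroup.mem_bot] at hx; simp [hx]⟩
      cases Subsingleton.elim iK iC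
      have hinv : ∀ θ : C → ℂ, InvS P C θ := fun θ s hs k k' hk => by
        rw [hbot, Subgroup.mem_bot] at hs
        exact congrArg θ (Subtype.ext (by simpa [hs] using hk))
      have hm : ∀ a b : IrrCharacter C,
          mult (Subgroup.inclusion hCK) a b = if a = b then 1 else 0 := fun a b => mult_eq _ _ _ (by
        split_ifs with hab
        · subst hab; rw [Nat.cast_one]; exact classInner_irr_self a.2
        · rw [Nat.cast_zero]; exact classInner_irr_ne a.2 b.2 fun q => hab (Subtype.ext q))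
      refine ⟨fun χ _ => ⟨χ, hinv _, by simp [hm], fun η _ hne => by simp [hm, Ne.symm hne]⟩,
        fun ξ _ => ⟨ξ, hinv _, by simp [hm, hp.ne_one]⟩, fun χ χ' ξ _ _ _ h1 h2 => ?_⟩
      by_contra hne
      rcases eq_or_ne χ ξ with rfl | h
      · exact h2 (by simp [hm, Ne.symm hne])
      · exact h1 (by simp [hm, h])
    obtain ⟨P', x, hP'P, hxP, hlt, hsup, hP'n⟩ := exists_index_p hP hbot
    let C' := fixMod P' K Q hQn
    haveI := Fintype.ofFinite C'
    have hCC' : C ≤ C' := fun k hk =>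
      ⟨((hC k).1 hk).1, fun z hz => ((hC k).1 hk).2 z (hP'P hz)⟩
    have hC'K : C' ≤ K := fun k hk => hk.1
    have hQC' : Q ≤ C' := fun q hq => ⟨hQK hq, fun z hz =>
      Q.mul_mem (conj_mem_sylow hQK hQn hp hQ hsyl (hPK (hP'P hz)) hq) (Q.inv_mem hq)⟩
    have hQconj : ∀ g ∈ P, ∀ q ∈ Q, g * q * g⁻¹ ∈ Q :=
      fun g hg q hq => conj_mem_sylow hQK hQn hp hQ hsyl (hPK hg) hq
    -- normalisers
    have hKc : ∀ g ∈ P, ∀ k ∈ K, g * k * g⁻¹ ∈ K :=
      fun g hg k hk => (Subgroup.mem_normalizer_iff.1 (hPK hg) k).1 hk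
    have hfix : ∀ (R : Subgroup G), R ≤ P → (∀ y ∈ P, ∀ z ∈ R, y * z * y⁻¹ ∈ R) →
        ∀ y ∈ P, ∀ k : G, (k ∈ K ∧ ∀ z ∈ R, z * k * z⁻¹ * k⁻¹ ∈ Q) →
        (y * k * y⁻¹ ∈ K ∧ ∀ z ∈ R, z * (y * k * y⁻¹) * z⁻¹ * (y * k * y⁻¹)⁻¹ ∈ Q) := by
      intro R _ hRn y hy k hk
      refine ⟨hKc y hy k hk.1, fun z hz => ?_⟩
      rw [show z * (y * k * y⁻¹) * z⁻¹ * (y * k * y⁻¹)⁻¹ =
        y * ((y⁻¹ * z * y⁻¹⁻¹) * k * (y⁻¹ * z * y⁻¹⁻¹)⁻¹ * k⁻¹) * y⁻¹ by group]
      exact hQconj y hy _ (hk.2 _ (hRn _ (P.inv_mem hy) z hz))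
    have hnorm : ∀ (H : Subgroup G), (∀ y ∈ P, ∀ k ∈ H, y * k * y⁻¹ ∈ H) →
        P ≤ Subgroup.normalizer (H : Set G) := fun H hH y hy => by
      rw [Subgroup.mem_normalizer_iff]
      refine fun k => ⟨hH y hy k, fun hk => ?_⟩
      have := hH y⁻¹ (P.inv_mem hy) _ hk
      simpa [mul_assoc] using this
    have hPC' : P ≤ Subgroup.normalizer (C' : Set G) :=
      hnorm C' fun y hy k hk => hfix P' hP'P hP'n y hy k hk
    have hPC : P ≤ Subgroup.normalizer (C : Set G) := hnorm C fun y hy k hk =>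
      (hC _).2 (hfix P le_rfl (fun a ha b hb => P.mul_mem (P.mul_mem ha hb) (P.inv_mem ha)) y hy k
        ((hC k).1 hk))
    -- the smaller group
    obtain ⟨ha', hb', hc'⟩ := ih (Nat.card P') (hn ▸ hlt) P' K Q C' rfl (hP.to_le hP'P)
      (hP'P.trans hPK) hQK hQn hQ hsyl (fun k => Iff.rfl) hC'K
    -- the last operator
    obtain ⟨e, he⟩ : ∃ e, orderOf x = p ^ e := by
      obtain ⟨e, he⟩ := hP ⟨x, hxP⟩
      obtain ⟨j, -, hj⟩ := (Nat.dvd_prime_pow hp).1
        (orderOf_dvd_of_pow_eq_one (by simpa using congrArg Subtype.val he : x ^ p ^ e = 1))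
      exact ⟨j, hj⟩
    obtain ⟨ha2, hb2, hc2⟩ := step C' Q C x he (hPC' hxP) hQC'
      (fun k hk => hQn k (hC'K hk)) hQ
      (fun hd => hsyl (hd.trans (Dvd.intro _ (Subgroup.relIndex_mul_relIndex Q C' K hQC' hC'K))))
      hCC' (fun k => by
        refine ⟨fun hk => ⟨hCC' hk, ((hC k).1 hk).2 x hxP⟩, fun ⟨hk, hxk⟩ => (hC k).2
          ⟨hk.1, fun y hy => ?_⟩⟩
        let S : Subgroup G :=
          { carrier := {g | g ∈ P ∧ g * k * g⁻¹ * k⁻¹ ∈ Q}
            one_mem' := ⟨P.one_mem, by simp⟩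
            mul_mem' := fun {a b} ha hb => ⟨P.mul_mem ha.1 hb.1, by
              rw [show a * b * k * (a * b)⁻¹ * k⁻¹ =
                (a * (b * k * b⁻¹ * k⁻¹) * a⁻¹) * (a * k * a⁻¹ * k⁻¹) by group]
              exact Q.mul_mem (hQconj a ha.1 _ hb.2) ha.2⟩
            inv_mem' := fun {a} ha => ⟨P.inv_mem ha.1, by
              rw [show a⁻¹ * k * a⁻¹⁻¹ * k⁻¹ = a⁻¹ * (a * k * a⁻¹ * k⁻¹)⁻¹ * a⁻¹⁻¹ by group]
              exact hQconj _ (P.inv_mem ha.1) _ (Q.inv_mem ha.2)⟩ }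
        have hS : P ≤ S := by
          rw [← hsup]
          exact sup_le (fun z hz => ⟨hP'P hz, hk.2 z hz⟩) (Subgroup.zpowers_le.2 ⟨hxP, hxk⟩)
        exact (hS hy).2)
    let m1 : IrrCharacter K → IrrCharacter C' → ℕ := mult (Subgroup.inclusion hC'K)
    let m2 : IrrCharacter C' → IrrCharacter C → ℕ := mult (Subgroup.inclusion hCC')
    have res : ∀ (H : Subgroup G) (θ : H → ℂ), InvS P H θ → InvS P' H θ :=
      fun H θ h s hs => h s (hP'P hs)
    -- the middle character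
    have hmid : ∀ χ : IrrCharacter K, InvS P K (χ : K → ℂ) → ∃ η₀ : IrrCharacter C',
        InvS P C' (η₀ : C' → ℂ) ∧ (m1 χ η₀ : ZMod p) ^ 2 = 1 ∧
        (∀ η : IrrCharacter C', InvS P' C' (η : C' → ℂ) → η ≠ η₀ → p ∣ m1 χ η) := by
      intro χ hχ
      obtain ⟨η₀, hη₀, h1, h2⟩ := ha' χ (res K _ hχ)
      refine ⟨η₀, fun y hy => ?_, h1, h2⟩
      obtain ⟨η', hη'⟩ := exists_rel (hPC' hy) η₀
      have hinv : InvS P' C' (η' : C' → ℂ) := fun z hz k k' hk => by
        have hw : y⁻¹ * z * y ∈ P' := by simpa using hP'n y⁻¹ (P.inv_mem hy) z hz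
        have hyk : ∀ l : C', y⁻¹ * (l : G) * y ∈ C' := fun l => by
          have := (Subgroup.mem_normalizer_iff.1 (hPC' (P.inv_mem hy)) (l : G)).1 l.2
          simpa using this
        rw [hη' ⟨_, hyk k'⟩ k' (by simp [mul_assoc]), hη' ⟨_, hyk k⟩ k (by simp [mul_assoc])]
        refine hη₀ _ hw _ _ ?_
        show y⁻¹ * (k' : G) * y = (y⁻¹ * z * y) * (y⁻¹ * (k : G) * y) * (y⁻¹ * z * y)⁻¹
        rw [hk]; group
      have heq : η' = η₀ := by
        by_contra hne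
        have := h2 η' hinv hne
        rw [mult_rel hC'K (hPC' hy) (hχ y hy) hη'] at this
        exact not_dvd_of_sq h1 this
      rw [heq] at hη'
      exact hη'
    -- composition
    have hcomp : ∀ (χ : IrrCharacter K) (η₀ : IrrCharacter C') (ξ : IrrCharacter C),
        InvS P K (χ : K → ℂ) → InvS P C' (η₀ : C' → ℂ) → InvS P C (ξ : C → ℂ) →
        (∀ η : IrrCharacter C', InvS P' C' (η : C' → ℂ) → η ≠ η₀ → p ∣ m1 χ η) →
        (mult (Subgroup.inclusion hCK) χ ξ : ZMod p) = (m1 χ η₀ : ZMod p) * (m2 η₀ ξ : ZMod p) := by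
      intro χ η₀ ξ hχ hη₀ hξ h2
      rw [show Subgroup.inclusion hCK = (Subgroup.inclusion hC'K).comp (Subgroup.inclusion hCC')
        from rfl, mult_comp, Nat.cast_sum]
      rw [sum_inv P C' hP hPC' _ (fun s hs θ θ' hr => by
        rw [mult_rel hC'K (hPC' hs) (hχ s hs) hr, mult_rel hCC' (hPC hs) hr (hξ s hs)])]
      rw [Finset.sum_eq_single η₀]
      · rw [Nat.cast_mul]
      · intro η hη hne
        rw [Nat.cast_mul, (ZMod.natCast_eq_zero_iff _ _).2
          (h2 η (res C' _ (Finset.mem_filter.1 hη).2) hne), zero_mul]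
      · exact fun h => absurd (Finset.mem_filter.2 ⟨Finset.mem_univ η₀, hη₀⟩) h
    refine ⟨fun χ hχ => ?_, fun ξ hξ => ?_, fun χ χ' ξ hχ hχ' hξ hm hm' => ?_⟩
    · obtain ⟨η₀, hη₀, h1, h2⟩ := hmid χ hχ
      obtain ⟨ξ, hξ, g1, g2⟩ := ha2 η₀ (hη₀ x hxP)
      have hξP : InvS P C (ξ : C → ℂ) := by
        have hxC : Subgroup.zpowers x ≤ Subgroup.normalizer (C : Set G) :=
          Subgroup.zpowers_le.2 (hPC hxP)
        have hxp : IsPGroup p (Subgroup.zpowers x) := hP.to_le (Subgroup.zpowers_le.2 hxP)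
        have hfinv : ∀ s ∈ P, ∀ θ θ' : IrrCharacter C, Rel s C (θ : C → ℂ) (θ' : C → ℂ) →
            ((m2 η₀ θ' : ZMod p)) ^ 2 = ((m2 η₀ θ : ZMod p)) ^ 2 := fun s hs θ θ' hr => by
          simp only [m2, mult_rel hCC' (hPC hs) (hη₀ s hs) hr]
        have hone : ∑ θ : IrrCharacter C, (m2 η₀ θ : ZMod p) ^ 2 = 1 := by
          rw [sum_inv (Subgroup.zpowers x) C hxp hxC _
            (fun s hs => hfinv s (Subgroup.zpowers_le.2 hxP hs)), Finset.sum_eq_single ξ]
          · exact g1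
          · intro η hη hne
            rw [(ZMod.natCast_eq_zero_iff _ _).2
              (g2 η ((Finset.mem_filter.1 hη).2 x (Subgroup.mem_zpowers x)) hne),
              zero_pow two_ne_zero]
          · intro h
            refine absurd (Finset.mem_filter.2 ⟨Finset.mem_univ ξ, ?_⟩) h
            intro s hs
            obtain ⟨i, rfl⟩ := Subgroup.mem_zpowers_iff.1 hs
            exact rel_zpow hxC ξ hξ i
        rw [sum_inv P C hP hPC _ hfinv] at hone
        obtain ⟨θ, hθ, hne⟩ := Finset.exists_ne_zero_of_sum_ne_zero (by rw [hone]; exact one_ne_zero)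
        have hθP := (Finset.mem_filter.1 hθ).2
        obtain rfl : θ = ξ := by
          by_contra hne'
          exact hne (by rw [(ZMod.natCast_eq_zero_iff _ _).2 (g2 θ (hθP x hxP) hne'),
            zero_pow two_ne_zero])
        exact hθP
      refine ⟨ξ, hξP, ?_, fun η hη hne => ?_⟩
      · rw [hcomp χ η₀ ξ hχ hη₀ hξP h2, mul_pow, h1, g1, one_mul]
      · rw [← ZMod.natCast_eq_zero_iff, hcomp χ η₀ η hχ hη₀ hη h2,
          (ZMod.natCast_eq_zero_iff _ _).2 (g2 η (hη x hxP) hne), mul_zero]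
    · obtain ⟨η, hη, h1⟩ := hb2 ξ (hξ x hxP)
      have hsq : (m2 η ξ : ZMod p) ^ 2 = 1 := by
        obtain ⟨ξ₁, hξ₁, g1, g2⟩ := ha2 η hη
        obtain rfl : ξ = ξ₁ := by_contra fun hne => h1 (g2 ξ (hξ x hxP) hne)
        exact g1
      have hηP : InvS P C' (η : C' → ℂ) := by
        have hxC : Subgroup.zpowers x ≤ Subgroup.normalizer (C' : Set G) :=
          Subgroup.zpowers_le.2 (hPC' hxP)
        have hfinv : ∀ s ∈ P, ∀ θ θ' : IrrCharacter C', Rel s C' (θ : C' → ℂ) (θ' : C' → ℂ) →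
            ((m2 θ' ξ : ZMod p)) ^ 2 = ((m2 θ ξ : ZMod p)) ^ 2 := fun s hs θ θ' hr => by
          simp only [m2, mult_rel hCC' (hPC hs) hr (hξ s hs)]
        have hzero : ∀ θ : IrrCharacter C', Rel x C' (θ : C' → ℂ) (θ : C' → ℂ) → θ ≠ η →
            (m2 θ ξ : ZMod p) ^ 2 = 0 := fun θ hθ hne => by
          rw [(ZMod.natCast_eq_zero_iff _ _).2 (by_contra fun hd =>
            hne (hc2 θ η ξ hθ hη (hξ x hxP) hd h1)), zero_pow two_ne_zero]
        have hone : ∑ θ : IrrCharacter C', (m2 θ ξ : ZMod p) ^ 2 = 1 := by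
          rw [sum_inv (Subgroup.zpowers x) C' (hP.to_le (Subgroup.zpowers_le.2 hxP)) hxC _
            (fun s hs => hfinv s (Subgroup.zpowers_le.2 hxP hs)), Finset.sum_eq_single η]
          · exact hsq
          · exact fun θ hθ hne =>
              hzero θ ((Finset.mem_filter.1 hθ).2 x (Subgroup.mem_zpowers x)) hne
          · intro h
            refine absurd (Finset.mem_filter.2 ⟨Finset.mem_univ η, ?_⟩) h
            intro s hs
            obtain ⟨i, rfl⟩ := Subgroup.mem_zpowers_iff.1 hs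
            exact rel_zpow hxC η hη i
        rw [sum_inv P C' hP hPC' _ hfinv] at hone
        obtain ⟨θ, hθ, hne⟩ := Finset.exists_ne_zero_of_sum_ne_zero (by rw [hone]; exact one_ne_zero)
        have hθP := (Finset.mem_filter.1 hθ).2
        obtain rfl : θ = η := by
          by_contra hne'
          exact hne (hzero θ (hθP x hxP) hne')
        exact hθP
      obtain ⟨χ, hχ, g1⟩ := hb' η (res C' _ hηP)
      have hχP : InvS P K (χ : K → ℂ) := fun y hy => by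
        obtain ⟨χ', hχ'⟩ := exists_rel (hPK hy) χ
        have hinv : InvS P' K (χ' : K → ℂ) := fun z hz k k' hk => by
          have hw : y⁻¹ * z * y ∈ P' := by simpa using hP'n y⁻¹ (P.inv_mem hy) z hz
          have hyk : ∀ l : K, y⁻¹ * (l : G) * y ∈ K := fun l => by
            simpa using hKc y⁻¹ (P.inv_mem hy) l l.2
          rw [hχ' ⟨_, hyk k'⟩ k' (by simp [mul_assoc]), hχ' ⟨_, hyk k⟩ k (by simp [mul_assoc])]
          refine hχ _ hw _ _ ?_
          show y⁻¹ * (k' : G) * y = (y⁻¹ * z * y) * (y⁻¹ * (k : G) * y) * (y⁻¹ * z * y)⁻¹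
          rw [hk]; group
        have heq : χ' = χ := hc' χ' χ η hinv hχ (res C' _ hηP)
          (by rw [mult_rel hC'K (hPC' hy) hχ' (hηP y hy)]; exact g1) g1
        rw [heq] at hχ'
        exact hχ'
      obtain ⟨η₀, hη₀, k1, k2⟩ := hmid χ hχP
      obtain rfl : η = η₀ := by_contra fun hne => g1 (k2 η (res C' _ hηP) hne)
      refine ⟨χ, hχP, fun hd => ?_⟩
      rw [← ZMod.natCast_eq_zero_iff, hcomp χ η ξ hχP hη₀ hξ k2, mul_eq_zero,
        ZMod.natCast_eq_zero_iff, ZMod.natCast_eq_zero_iff] at hd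
      exact hd.elim g1 h1
    · obtain ⟨η₀, hη₀, h1, h2⟩ := hmid χ hχ
      obtain ⟨η₁, hη₁, k1, k2⟩ := hmid χ' hχ'
      have d1 : ¬ p ∣ m2 η₀ ξ := fun hd => hm (by
        rw [← ZMod.natCast_eq_zero_iff, hcomp χ η₀ ξ hχ hη₀ hξ h2,
          (ZMod.natCast_eq_zero_iff _ _).2 hd, mul_zero])
      have d2 : ¬ p ∣ m2 η₁ ξ := fun hd => hm' (by
        rw [← ZMod.natCast_eq_zero_iff, hcomp χ' η₁ ξ hχ' hη₁ hξ k2,
          (ZMod.natCast_eq_zero_iff _ _).2 hd, mul_zero])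
      obtain rfl := hc2 η₀ η₁ ξ (hη₀ x hxP) (hη₁ x hxP) (hξ x hxP) d1 d2
      exact hc' χ χ' η₀ (res K _ hχ) (res K _ hχ') (res C' _ hη₀)
        (not_dvd_of_sq h1) (not_dvd_of_sq k1)

end CfsgLib.Glauberman.NormalSylow
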