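import Cfsg.Agent.Lib.Glauberman.Mult
import Cfsg.Agent.Lib.CharTheory.ExtCriteria
import Cfsg.Agent.Lib.CharTheory.Gallagher
import Cfsg.Agent.Lib.CharTheory.AbelianInertia
import Cfsg.Agent.Lib.CharTheory.GaloisBound
import Cfsg.Agent.Lib.Blocks.SecondMain
import Cfsg.Agent.Lib.Blocks.Vanishing

/-!
# Characters on a coset of a normal subgroup with cyclic factor group, and the correspondence for a
cyclic operator group over a normal Sylow subgroup
-/

namespace CfsgLib.Glauberman.NormalSylow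

open Cfsg CfsgLib.CharTheory CfsgLib.Glauberman CfsgLib.Blocks
open scoped ComplexConjugate

set_option linter.unusedVariables false
set_option linter.style.haveILetI false
set_option linter.unusedSectionVars false

universe u v

section Coset

variable {D : Type u} [Group D] [Fintype D] (N : Subgroup D) [hN : N.Normal] [Fintype N] {s : D}

/-- Invariance under a generator modulo `N`. -/
def InvAt (s : D) (f : N → ℂ) : Prop := conjNormFun N s f = f

theorem inertia_top (hgen : N ⊔ Subgroup.zpowers s = ⊤) {f : N → ℂ} (hf : IsClassFunction N f)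
    (h : InvAt N s f) : inertia N f = ⊤ := by
  rw [eq_top_iff, ← hgen]
  exact sup_le (le_inertia N hf) (Subgroup.zpowers_le.2 ((mem_inertia N).2 h))

theorem mem_prod (hgen : N ⊔ Subgroup.zpowers s = ⊤) (g : D) :
    ∃ n ∈ N, ∃ i : ℤ, n * s ^ i = g := by
  obtain ⟨n, hn, t, ⟨i, rfl⟩, h⟩ := Subgroup.mem_sup_of_normal_left.1
    (show g ∈ N ⊔ Subgroup.zpowers s by rw [hgen]; trivial)
  exact ⟨n, hn, i, h⟩

theorem cyclic_quotient (hgen : N ⊔ Subgroup.zpowers s = ⊤) : IsCyclic (D ⧸ N) := by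
  refine ⟨⟨(s : D ⧸ N), fun q => ?_⟩⟩
  induction q using QuotientGroup.induction_on with
  | H g =>
    obtain ⟨n, hn, i, rfl⟩ := mem_prod N hgen g
    exact ⟨i, by
      show (s : D ⧸ N) ^ i = _
      rw [QuotientGroup.mk_mul, (QuotientGroup.eq_one_iff n).2 hn, one_mul, QuotientGroup.mk_zpow]⟩

theorem comm_mem (hgen : N ⊔ Subgroup.zpowers s = ⊤) (a b : D) : a * b * a⁻¹ * b⁻¹ ∈ N := by
  obtain ⟨n, hn, i, rfl⟩ := mem_prod N hgen a
  obtain ⟨m, hm, j, rfl⟩ := mem_prod N hgen b
  rw [← QuotientGroup.eq_one_iff]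
  simp only [QuotientGroup.mk_mul, QuotientGroup.mk_inv, (QuotientGroup.eq_one_iff _).2 hn,
    (QuotientGroup.eq_one_iff _).2 hm, one_mul, QuotientGroup.mk_zpow]
  group

/-- A chosen extension of an invariant character. -/
theorem exists_ext (hgen : N ⊔ Subgroup.zpowers s = ⊤) (θ : IrrCharacter N)
    (h : InvAt N s (θ : N → ℂ)) :
    ∃ χ : D → ℂ, IsIrrCharacter D χ ∧ ∀ n : N, χ n = (θ : N → ℂ) n :=
  exists_extension_of_cyclic θ.2 (fun g x => congrFun ((mem_inertia N).1
    (show g ∈ inertia N (θ : N → ℂ) by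
      rw [inertia_top N hgen (isClassFunction_irr θ.2) h]; trivial)) x) (cyclic_quotient N hgen)

/-- Orthogonality of extensions on a coset. -/
theorem ext_orth {a b : D → ℂ} (ha : IsIrrCharacter D a) (hb : IsIrrCharacter D b)
    (α β : IrrCharacter N) (haα : ∀ n : N, a n = (α : N → ℂ) n)
    (hbβ : ∀ n : N, b n = (β : N → ℂ) n) (hab : α = β → a = b) [Decidable (α = β)] :
    cosetAvg N (a * fun x => conj (b x)) s = if α = β then 1 else 0 := by
  split_ifs with h
  · obtain rfl := hab h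
    have hres : IsIrrCharacter N (fun g : N => a g) := (funext haα : _ = (α : N → ℂ)) ▸ α.2
    rw [cosetAvg_mul_conj N ha hres]
  · have hc := isCharacter_cosetAvg N (isCharacter_mul (isCharacter_of_irr ha)
      (isCharacter_conj (isCharacter_of_irr hb)))
    have h1 : cosetAvg N (a * fun x => conj (b x)) 1 = 0 := by
      rw [← classInner_irr_ne α.2 β.2 fun q => h (Subtype.ext q)]
      simp only [cosetAvg, classInner, Pi.mul_apply, mul_one, haα, hbβ]
    have := norm_char_le hc s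
    rw [h1, norm_zero] at this
    exact norm_le_zero_iff.1 this

/-- An irreducible character over a non-invariant character vanishes on the generating coset. -/
theorem vanish_of_not_inv (hgen : N ⊔ Subgroup.zpowers s = ⊤) (ψ : IrrCharacter D) (θ : IrrCharacter N)
    (hne : classInner (fun n : N => (ψ : D → ℂ) n) (θ : N → ℂ) ≠ 0)
    (hinv : ¬ InvAt N s (θ : N → ℂ)) (n : N) : (ψ : D → ℂ) ((n : D) * s) = 0 := by
  classical
  set T := inertia N (θ : N → ℂ) with hT
  haveI := Fintype.ofFinite T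
  have hNT : N ≤ T := le_inertia N (isClassFunction_irr θ.2)
  haveI : T.Normal := ⟨fun t ht g => by
    rw [show g * t * g⁻¹ = (g * t * g⁻¹ * t⁻¹) * t by group]
    exact T.mul_mem (hNT (comm_mem N hgen g t)) ht⟩
  have h1 : mult N.subtype ψ θ ≠ 0 := fun h0 => hne (by
    have := mult_spec N.subtype ψ θ
    rw [h0, Nat.cast_zero] at this
    exact this)
  rw [show N.subtype = T.subtype.comp (Subgroup.inclusion hNT) from rfl, mult_comp] at h1
  obtain ⟨φ, -, hφ⟩ := Finset.exists_ne_zero_of_sum_ne_zero h1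
  obtain ⟨hφ1, hφ2⟩ := mul_ne_zero_iff.1 hφ
  have hc : classInner (fun k : N => (φ : T → ℂ) ⟨(k : D), hNT k.2⟩) (θ : N → ℂ) ≠ 0 := by
    intro h0
    exact hφ2 (mult_eq _ _ _ (by rw [Nat.cast_zero]; exact h0))
  have hirr := (clifford_correspondence N θ.2 hNT hT φ.2 hc).1
  have heq : (ψ : D → ℂ) = indFun T (φ : T → ℂ) := by
    by_contra hne'
    refine hφ1 (mult_eq _ _ _ ?_)
    show classInner (fun t : T => (ψ : D → ℂ) t) (φ : T → ℂ) = ((0 : ℕ) : ℂ)
    rw [← frobenius_reciprocity' T (φ : T → ℂ) (isClassFunction_irr ψ.2), Nat.cast_zero]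
    exact classInner_irr_ne ψ.2 hirr hne'
  rw [heq]
  refine indFun_normal_apply_not_mem T _ fun hns => hinv ?_
  have hs : s ∈ T := (T.mul_mem_cancel_left (hNT n.2)).1 hns
  exact (mem_inertia N).1 hs

variable [DecidablePred fun θ : IrrCharacter N => InvAt N s (θ : N → ℂ)]

/-- Class functions on the generating coset are combinations of extensions. -/
theorem coset_expand (hgen : N ⊔ Subgroup.zpowers s = ⊤)
    (E : IrrCharacter N → D → ℂ) (hE : ∀ θ : IrrCharacter N, InvAt N s (θ : N → ℂ) →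
      IsIrrCharacter D (E θ) ∧ ∀ n : N, E θ n = (θ : N → ℂ) n)
    {f : D → ℂ} (hf : IsClassFunction D f) (n : N) :
    f ((n : D) * s) = ∑ θ ∈ Finset.univ.filter (fun θ : IrrCharacter N => InvAt N s (θ : N → ℂ)),
      cosetAvg N (f * fun x => conj (E θ x)) s * E θ ((n : D) * s) := by
  classical
  -- both sides are linear
  have key : ∀ ψ : IrrCharacter D, (ψ : D → ℂ) ((n : D) * s) =
      ∑ θ ∈ Finset.univ.filter (fun θ : IrrCharacter N => InvAt N s (θ : N → ℂ)),
        cosetAvg N ((ψ : D → ℂ) * fun x => conj (E θ x)) s * E θ ((n : D) * s) := by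
    intro ψ
    obtain ⟨θ₀, hθ₀, hne⟩ := exists_constituent (isCharacter_restrict (isCharacter_of_irr ψ.2) N)
      (fun e => irr_ne_zero ψ.2 (congrFun e 1))
    let θ : IrrCharacter N := ⟨θ₀, hθ₀⟩
    by_cases hinv : InvAt N s (θ : N → ℂ)
    · obtain ⟨hEi, hEr⟩ := hE θ hinv
      have hres : IsIrrCharacter N (fun k : N => E θ k) := (funext hEr : _ = (θ : N → ℂ)) ▸ θ.2
      obtain ⟨β, hβ, hk, hψ⟩ := (gallagher N (isCharacter_of_irr hEi) hres).2.2 _ ψ.2 (by
        rw [show (fun k : N => E θ k) = (θ : N → ℂ) from funext hEr]; exact hne)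
      have hd := irr_degree_one_of_kernel_commutator N (comm_mem N hgen) hβ hk
      have hcoset : ∀ k : N, (ψ : D → ℂ) ((k : D) * s) = β s * E θ ((k : D) * s) := fun k => by
        rw [hψ, Pi.mul_apply, apply_mul_of_kernel N (isCharacter_of_irr hβ) hk]
      have havg : ∀ η : IrrCharacter N, cosetAvg N ((ψ : D → ℂ) * fun x => conj (E η x)) s =
          β s * cosetAvg N (E θ * fun x => conj (E η x)) s := by
        intro η
        simp only [cosetAvg, Pi.mul_apply, Finset.mul_sum]
        exact Finset.sum_congr rfl fun k _ => by rw [hcoset]; ring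
      rw [Finset.sum_eq_single θ, havg, ext_orth N hEi hEi θ θ hEr hEr (fun _ => rfl), if_pos rfl,
        mul_one, hcoset]
      · intro η hη hne'
        obtain ⟨hηi, hηr⟩ := hE η (Finset.mem_filter.1 hη).2
        rw [havg, ext_orth N hEi hηi θ η hEr hηr (fun h => absurd h.symm hne'),
          if_neg (Ne.symm hne'), mul_zero, zero_mul]
      · intro h
        exact absurd (show θ ∈ Finset.univ.filter (fun θ : IrrCharacter N => InvAt N s (θ : N → ℂ)) from
          Finset.mem_filter.2 ⟨Finset.mem_univ θ, hinv⟩) h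
    · have hz := vanish_of_not_inv N hgen ψ θ hne hinv
      rw [hz, Finset.sum_eq_zero]
      intro η _
      simp only [cosetAvg, Pi.mul_apply, hz, zero_mul, Finset.sum_const_zero, mul_zero]
  have he := eq_sum_irr hf
  conv_lhs => rw [he, Finset.sum_apply]
  simp only [Pi.smul_apply, smul_eq_mul]
  rw [Finset.sum_congr rfl fun ψ _ => by rw [key ψ, Finset.mul_sum], Finset.sum_comm]
  refine Finset.sum_congr rfl fun θ _ => ?_
  conv_rhs => rw [show cosetAvg N (f * fun x => conj (E θ x)) s =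
      ∑ ψ : IrrCharacter D, classInner f (ψ : D → ℂ) *
        cosetAvg N ((ψ : D → ℂ) * fun x => conj (E θ x)) s by
    conv_lhs => rw [he]
    simp only [cosetAvg, Pi.mul_apply, Finset.sum_apply, Pi.smul_apply, smul_eq_mul,
      Finset.mul_sum, Finset.sum_mul]
    rw [Finset.sum_comm]
    exact Finset.sum_congr rfl fun ψ _ => Finset.sum_congr rfl fun k _ => by ring, Finset.sum_mul]
  exact Finset.sum_congr rfl fun ψ _ => (mul_assoc _ _ _).symm

end Coset

variable {p : ℕ} {M : Ideal AlgInt}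

/-- Characters at `p`-elements are congruent to their degrees. -/
theorem res_char_pElt (hM : IsPModular p M) {D : Type u} [Group D] [Fintype D] {A : D → ℂ}
    (hA : IsCharacter D A) {z : D} {k : ℕ} (hz : orderOf z = p ^ k) :
    res hM (A z) = res hM (A 1) := by
  classical
  choose n hn using fun ψ : IrrCharacter D => classInner_char_nat hA (isCharacter_of_irr ψ.2)
  have hval : ∀ g, A g = ∑ ψ : IrrCharacter D, (n ψ : ℂ) * (ψ : D → ℂ) g := fun g => by
    have := congrFun (eq_sum_irr (isClassFunction_char hA)) g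
    simpa [hn] using this
  rw [hval, hval, res_sum hM fun ψ _ => (loc hM).mul_mem (memRing_natCast hM _) (memRing_irr hM ψ _),
    res_sum hM fun ψ _ => (loc hM).mul_mem (memRing_natCast hM _) (memRing_irr hM ψ _)]
  refine Finset.sum_congr rfl fun ψ _ => ?_
  rw [res_mul hM (memRing_natCast hM _) (memRing_irr hM ψ _),
    res_mul hM (memRing_natCast hM _) (memRing_irr hM ψ _)]
  have := irr_res_pPart hM ψ (Commute.one_right z) hz
  rw [mul_one] at this
  rw [this]

/-- Values of characters are integral. -/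
theorem isIntegral_char {D : Type u} [Group D] [Fintype D] {A : D → ℂ} (hA : IsCharacter D A)
    (z : D) : IsIntegral ℤ (A z) := by
  obtain ⟨s, hs, hpow⟩ := exists_roots_pow hA z
  have h := hpow 1
  simp only [pow_one, Multiset.map_id'] at h
  rw [h]
  refine Multiset.sum_induction (IsIntegral ℤ) s (fun a b ha hb => ha.add hb) isIntegral_zero ?_
  exact fun x hx => IsIntegral.of_pow Nat.card_pos (by rw [hs x hx]; exact isIntegral_one)

variable {Γ : Type u} [Group Γ] [Fintype Γ] {K Q C : Subgroup Γ} {x : Γ}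

/-- The hypotheses for a cyclic operator group. -/
structure StepData (p : ℕ) (K Q C : Subgroup Γ) (x : Γ) : Prop where
  prime : p.Prime
  normal : K.Normal
  qnormal : Q.Normal
  qle : Q ≤ K
  qgroup : IsPGroup p Q
  sylow : ¬ p ∣ Q.relIndex K
  elt : ∃ k : ℕ, orderOf x = p ^ k
  gen : K ⊔ Subgroup.zpowers x = ⊤
  fix : ∀ k : Γ, k ∈ C ↔ k ∈ K ∧ x * k * x⁻¹ * k⁻¹ ∈ Q

theorem StepData.cle (h : StepData p K Q C x) : C ≤ K := fun k hk => ((h.fix k).1 hk).1

theorem StepData.qc (h : StepData p K Q C x) : Q ≤ C := fun q hq => (h.fix q).2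
  ⟨h.qle hq, Q.mul_mem (h.qnormal.conj_mem q hq x) (Q.inv_mem hq)⟩

theorem StepData.x_mem_normalizer (h : StepData p K Q C x) :
    x ∈ Subgroup.normalizer (C : Set Γ) := by
  haveI := h.qnormal
  rw [Subgroup.mem_normalizer_iff]
  intro k
  simp only [SetLike.mem_coe, h.fix]
  refine and_congr ⟨fun hk => h.normal.conj_mem k hk x, fun hk => ?_⟩ ?_
  · have := h.normal.conj_mem' _ hk x
    simpa [mul_assoc] using this
  · rw [show x * (x * k * x⁻¹) * x⁻¹ * (x * k * x⁻¹)⁻¹ = x * (x * k * x⁻¹ * k⁻¹) * x⁻¹ by group]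
    exact ⟨fun hk => h.qnormal.conj_mem _ hk x, fun hk => by
      have := h.qnormal.conj_mem' _ hk x
      simpa [mul_assoc] using this⟩

/-- Powers of `x` inside `K` lie in `C`. -/
theorem StepData.pow_mem (h : StepData p K Q C x) {i : ℤ} (hi : x ^ i ∈ K) : x ^ i ∈ C :=
  (h.fix _).2 ⟨hi, by
    rw [show x * x ^ i * x⁻¹ * (x ^ i)⁻¹ = 1 by
      rw [← zpow_one_add, add_comm, zpow_add_one, mul_inv_cancel_right, mul_inv_cancel]]
    exact Q.one_mem⟩

/-- The average over the coset `Kx` is the average over `Cx`. -/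
theorem StepData.avg (h : StepData p K Q C x) [Fintype K] [Fintype C] {F : Γ → ℂ}
    (hF : IsClassFunction Γ F) :
    (Nat.card C : ℂ) * ∑ k : K, F ((k : Γ) * x) = (Nat.card K : ℂ) * ∑ c : C, F ((c : Γ) * x) := by
  classical
  haveI := h.normal
  haveI := h.qnormal
  let Φ : K × C → K := fun q =>
    ⟨(q.1 : Γ) * q.2 * (x * (q.1 : Γ)⁻¹ * x⁻¹),
      K.mul_mem (K.mul_mem q.1.2 (h.cle q.2.2)) (h.normal.conj_mem _ (K.inv_mem q.1.2) x)⟩
  have hΦ : ∀ q, ((Φ q : K) : Γ) * x = (q.1 : Γ) * ((q.2 : Γ) * x) * (q.1 : Γ)⁻¹ := fun q => by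
    show (q.1 : Γ) * q.2 * (x * (q.1 : Γ)⁻¹ * x⁻¹) * x = _
    group
  obtain ⟨e, he⟩ := h.elt
  obtain ⟨j, hj0, hj1⟩ := Nat.chineseRemainder
    (show (Q.relIndex K).Coprime (p ^ e) from
      ((h.prime.coprime_iff_not_dvd.2 h.sylow).symm).pow_right e) 0 1
  let π := QuotientGroup.mk' Q
  have hpow : ∀ c : C, π (((c : Γ) * x) ^ j) = π x := by
    intro c
    have hcx : Commute (π (c : Γ)) (π x) := by
      have h1 := ((h.fix _).1 c.2).2
      have h2 : π (x * (c : Γ) * x⁻¹ * (c : Γ)⁻¹) = 1 := (QuotientGroup.eq_one_iff _).2 h1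
      simp only [map_mul, map_inv] at h2
      exact (mul_inv_eq_iff_eq_mul.1 (mul_inv_eq_one.1 h2)).symm
    have h1 : π (c : Γ) ^ j = 1 := by
      refine orderOf_dvd_iff_pow_eq_one.1 (dvd_trans ?_ (Nat.modEq_zero_iff_dvd.1 hj0))
      rw [show Q.relIndex K = Nat.card (K.map π) by
        rw [← Subgroup.relIndex_ker, QuotientGroup.ker_mk']]
      rw [← Subgroup.orderOf_mk (H := K.map π) (π (c : Γ)) ⟨c, h.cle c.2, rfl⟩]
      exact orderOf_dvd_natCard _
    rw [map_pow, map_mul, hcx.mul_pow, h1, one_mul]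
    have h2 : x ^ j = x := by
      conv_rhs => rw [← pow_one x]
      exact pow_eq_pow_iff_modEq.2 (by rw [he]; exact hj1)
    rw [← map_pow, h2]
  have hle : ∀ k : K, (Finset.univ.filter fun q => Φ q = k).card ≤ Fintype.card C := by
    intro k
    rcases (Finset.univ.filter fun q => Φ q = k).eq_empty_or_nonempty with h0 | ⟨q₀, hq₀⟩
    · rw [h0]; exact Nat.zero_le _
    have hH : ∀ q ∈ Finset.univ.filter (fun q => Φ q = k), (q₀.1 : Γ)⁻¹ * q.1 ∈ C ∧
        (q₀.1 : Γ) * ((q₀.2 : Γ) * x) * (q₀.1 : Γ)⁻¹ = (q.1 : Γ) * ((q.2 : Γ) * x) * (q.1 : Γ)⁻¹ := by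
      intro q hq
      have hpq : (q₀.1 : Γ) * ((q₀.2 : Γ) * x) * (q₀.1 : Γ)⁻¹ =
          (q.1 : Γ) * ((q.2 : Γ) * x) * (q.1 : Γ)⁻¹ := by
        rw [← hΦ, ← hΦ, (Finset.mem_filter.1 hq₀).2, (Finset.mem_filter.1 hq).2]
      refine ⟨(h.fix _).2 ⟨K.mul_mem (K.inv_mem q₀.1.2) q.1.2, ?_⟩, hpq⟩
      set t : Γ := (q₀.1 : Γ)⁻¹ * q.1 with ht
      have hconj : t * ((q.2 : Γ) * x) * t⁻¹ = (q₀.2 : Γ) * x := by
        rw [show t * ((q.2 : Γ) * x) * t⁻¹ =
          (q₀.1 : Γ)⁻¹ * ((q.1 : Γ) * ((q.2 : Γ) * x) * (q.1 : Γ)⁻¹) * q₀.1 by rw [ht]; group,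
          ← hpq]
        group
      have h2 : π t * π x * (π t)⁻¹ = π x := by
        have := congrArg (fun g => π (g ^ j)) hconj
        simp only [hpow] at this
        rw [conj_pow, map_mul, map_mul, map_inv, hpow] at this
        exact this
      show x * t * x⁻¹ * t⁻¹ ∈ Q
      refine (QuotientGroup.eq_one_iff _).1 ?_
      show π (x * t * x⁻¹ * t⁻¹) = 1
      simp only [map_mul, map_inv]
      rw [← mul_inv_eq_iff_eq_mul.1 h2]
      group
    refine le_trans (Finset.card_le_card_of_injOn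
      (f := fun q => if hq : q ∈ Finset.univ.filter (fun q => Φ q = k)
        then (⟨_, (hH q hq).1⟩ : C) else 1) (t := (Finset.univ : Finset C))
      (fun _ _ => Finset.mem_univ _) ?_) (le_of_eq Finset.card_univ)
    intro q hq q' hq' e
    simp only [dif_pos (Finset.mem_coe.1 hq), dif_pos (Finset.mem_coe.1 hq')] at e
    have e1 : q.1 = q'.1 := Subtype.ext (mul_left_cancel (congrArg Subtype.val e))
    have e2 := (hH q hq).2.symm.trans (hH q' hq').2
    rw [e1] at e2
    exact Prod.ext e1 (Subtype.ext (mul_right_cancel (mul_left_cancel (mul_right_cancel e2))))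
  have hfib : ∀ k : K, (Finset.univ.filter fun q => Φ q = k).card = Fintype.card C := by
    have hsum : ∑ k : K, (Finset.univ.filter fun q => Φ q = k).card = ∑ _k : K, Fintype.card C := by
      rw [← Finset.card_eq_sum_card_fiberwise (fun q _ => Finset.mem_univ (Φ q)), Finset.card_univ,
        Fintype.card_prod, Finset.sum_const, Finset.card_univ, smul_eq_mul]
    intro k
    exact (Finset.sum_eq_sum_iff_of_le fun k _ => hle k).1 hsum k (Finset.mem_univ _)
  have h1 : ∑ q : K × C, F (((Φ q : K) : Γ) * x) = (Nat.card C : ℂ) * ∑ k : K, F ((k : Γ) * x) := by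
    rw [← Finset.sum_fiberwise Finset.univ Φ, Finset.mul_sum]
    refine Finset.sum_congr rfl fun k _ => ?_
    rw [Finset.sum_congr rfl fun q hq => by rw [(Finset.mem_filter.1 hq).2], Finset.sum_const,
      hfib, nsmul_eq_mul, Nat.card_eq_fintype_card]
  rw [← h1, Fintype.sum_prod_type,
    Finset.sum_congr rfl fun g _ => Finset.sum_congr rfl fun c _ => by rw [hΦ, hF]]
  rw [show (fun g : K => ∑ c : C, F (((g, c).2 : Γ) * x)) = fun _ => ∑ c : C, F ((c : Γ) * x)
    from rfl, Finset.sum_const, Finset.card_univ, nsmul_eq_mul, Nat.card_eq_fintype_card]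

/-- Invariance of a character of a subgroup under `x`. -/
def InvX (x : Γ) (H : Subgroup Γ) (f : H → ℂ) : Prop :=
  ∀ k k' : H, (k' : Γ) = x * k * x⁻¹ → f k' = f k

/-- The correspondence for a cyclic operator group. -/
theorem StepData.corr (h : StepData p K Q C x) [Fintype K] [Fintype C] (hCK : C ≤ K) :
    (∀ χ : IrrCharacter K, InvX x K (χ : K → ℂ) → ∃ ξ : IrrCharacter C, InvX x C (ξ : C → ℂ) ∧
      ((mult (Subgroup.inclusion hCK) χ ξ : ZMod p)) ^ 2 = 1 ∧
      ∀ η : IrrCharacter C, InvX x C (η : C → ℂ) → η ≠ ξ → p ∣ mult (Subgroup.inclusion hCK) χ η) ∧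
    (∀ ξ : IrrCharacter C, InvX x C (ξ : C → ℂ) → ∃ χ : IrrCharacter K, InvX x K (χ : K → ℂ) ∧
      ¬ p ∣ mult (Subgroup.inclusion hCK) χ ξ) ∧
    ∀ (χ χ' : IrrCharacter K) (ξ : IrrCharacter C), InvX x K (χ : K → ℂ) → InvX x K (χ' : K → ℂ) →
      InvX x C (ξ : C → ℂ) → ¬ p ∣ mult (Subgroup.inclusion hCK) χ ξ →
      ¬ p ∣ mult (Subgroup.inclusion hCK) χ' ξ → χ = χ' := by
  classical
  haveI := h.normal
  haveI : Fact p.Prime := ⟨h.prime⟩
  obtain ⟨M, hM⟩ := CfsgLib.Blocks.exists_isPModular h.prime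
  haveI := res_isDomain hM
  haveI := res_charP hM
  -- the group over `C`
  set D := C ⊔ Subgroup.zpowers x with hD
  haveI := Fintype.ofFinite D
  have hDn : D ≤ Subgroup.normalizer (C : Set Γ) :=
    sup_le Subgroup.le_normalizer (Subgroup.zpowers_le.2 h.x_mem_normalizer)
  let C' := C.subgroupOf D
  haveI : C'.Normal := (Subgroup.normal_subgroupOf_iff_le_normalizer le_sup_left).2 hDn
  haveI := Fintype.ofFinite C'
  let eC : C' ≃* C := Subgroup.subgroupOfEquivOfLe le_sup_left
  let xD : D := ⟨x, Subgroup.mem_sup_right (Subgroup.mem_zpowers x)⟩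
  have hgenD : C' ⊔ Subgroup.zpowers xD = ⊤ := by
    apply Subgroup.map_injective D.subtype_injective
    rw [Subgroup.map_sup, MonoidHom.map_zpowers, ← MonoidHom.range_eq_map, Subgroup.range_subtype]
    show (C.subgroupOf D).map D.subtype ⊔ Subgroup.zpowers x = D
    rw [Subgroup.map_subgroupOf_eq_of_le le_sup_left]
  have hinvC : ∀ θ : IrrCharacter C', InvAt C' xD (θ : C' → ℂ) ↔
      InvX x C (fun c => (θ : C' → ℂ) (eC.symm c)) := by
    intro θ
    constructor
    · intro hθ k k' hk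
      have := congrFun hθ (eC.symm k)
      refine Eq.trans (congrArg (θ : C' → ℂ) (Subtype.ext (Subtype.ext ?_))) this
      exact hk
    · intro hθ
      funext k
      exact hθ (eC k) ⟨x * ((k : D) : Γ) * x⁻¹,
        (mem_normalizer_conj_iff h.x_mem_normalizer _).2 k.2⟩ rfl
  have hinvK : ∀ χ : IrrCharacter K, InvX x K (χ : K → ℂ) → InvAt K x (χ : K → ℂ) := fun χ hχ =>
    funext fun k => hχ k ⟨x * k * x⁻¹, h.normal.conj_mem (k : Γ) k.2 x⟩ rfl
  have hinvK' : ∀ χ : IrrCharacter K, InvAt K x (χ : K → ℂ) → InvX x K (χ : K → ℂ) :=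
    fun χ hχ k k' hk => by
      rw [show k' = ⟨x * k * x⁻¹, h.normal.conj_mem (k : Γ) k.2 x⟩ from Subtype.ext hk]
      exact congrFun hχ k
  -- chosen extensions
  have hexK : ∀ χ : IrrCharacter K, ∃ e : Γ → ℂ, InvAt K x (χ : K → ℂ) →
      IsIrrCharacter Γ e ∧ ∀ k : K, e k = (χ : K → ℂ) k := fun χ => by
    by_cases hi : InvAt K x (χ : K → ℂ)
    · obtain ⟨e, he⟩ := exists_ext K h.gen χ hi
      exact ⟨e, fun _ => he⟩
    · exact ⟨0, fun hh => absurd hh hi⟩
  choose EK hEK using hexK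
  have hexC : ∀ θ : IrrCharacter C', ∃ e : D → ℂ, InvAt C' xD (θ : C' → ℂ) →
      IsIrrCharacter D e ∧ ∀ k : C', e k = (θ : C' → ℂ) k := fun θ => by
    by_cases hi : InvAt C' xD (θ : C' → ℂ)
    · obtain ⟨e, he⟩ := exists_ext C' hgenD θ hi
      exact ⟨e, fun _ => he⟩
    · exact ⟨0, fun hh => absurd hh hi⟩
  choose EC hEC using hexC
  let A : IrrCharacter K → IrrCharacter C' → D → ℂ := fun χ θ =>
    cosetAvg C' ((fun d : D => EK χ d) * fun d => conj (EC θ d))
  have hA : ∀ (χ : IrrCharacter K) (θ : IrrCharacter C'), InvAt K x (χ : K → ℂ) → InvAt C' xD (θ : C' → ℂ) → IsCharacter D (A χ θ) :=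
    fun χ θ hχ hθ => isCharacter_cosetAvg C' (isCharacter_mul
      (isCharacter_restrict (isCharacter_of_irr (hEK χ hχ).1) D)
      (isCharacter_conj (isCharacter_of_irr (hEC θ hθ).1)))
  let ξC : IrrCharacter C' → IrrCharacter C := fun θ =>
    ⟨fun c => (θ : C' → ℂ) (eC.symm c),
      isIrrCharacter_comp_surjective θ.2 eC.symm.toMonoidHom eC.symm.surjective⟩
  have hA1 : ∀ (χ : IrrCharacter K) (θ : IrrCharacter C'), InvAt K x (χ : K → ℂ) → InvAt C' xD (θ : C' → ℂ) →
      A χ θ 1 = (mult (Subgroup.inclusion hCK) χ (ξC θ) : ℂ) := by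
    intro χ θ hχ hθ
    rw [← mult_spec]
    show cosetAvg C' _ 1 = _
    simp only [cosetAvg, classInner, Pi.mul_apply, mul_one]
    rw [Nat.card_congr eC.toEquiv]
    congr 1
    refine Fintype.sum_equiv eC.toEquiv _ _ fun k => ?_
    show EK χ ((k : D) : Γ) * conj (EC θ (k : D)) =
      (χ : K → ℂ) (Subgroup.inclusion hCK (eC k)) * conj ((θ : C' → ℂ) (eC.symm (eC k)))
    rw [MulEquiv.symm_apply_apply, (hEC θ hθ).2,
      ← (hEK χ hχ).2 (Subgroup.inclusion hCK (eC k))]
    rfl
  have hmem : ∀ (χ : IrrCharacter K) (θ : IrrCharacter C'), InvAt K x (χ : K → ℂ) → InvAt C' xD (θ : C' → ℂ) →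
      MemLocalRing M (A χ θ xD) ∧
        res hM (A χ θ xD) = (mult (Subgroup.inclusion hCK) χ (ξC θ) : AlgInt ⧸ M) := by
    intro χ θ hχ hθ
    refine ⟨memRing_of_isIntegral hM (isIntegral_char (hA χ θ hχ hθ) xD), ?_⟩
    obtain ⟨k, hk⟩ := h.elt
    rw [res_char_pElt hM (hA χ θ hχ hθ) (z := xD) (k := k) (by rw [← Subgroup.orderOf_coe]; exact hk),
      hA1 χ θ hχ hθ, res_natCast]
  -- orthonormality
  set S := Finset.univ.filter (fun θ : IrrCharacter C' => InvAt C' xD (θ : C' → ℂ)) with hS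
  have hexp : ∀ χ : IrrCharacter K, InvAt K x (χ : K → ℂ) → ∀ c : C',
      EK χ (((c : D) * xD : D) : Γ) = ∑ θ ∈ S, A χ θ xD * EC θ ((c : D) * xD) := fun χ hχ c =>
    coset_expand C' hgenD EC hEC (f := fun d : D => EK χ d)
      (fun a b => isClassFunction_irr (hEK χ hχ).1 (a : Γ) (b : Γ)) c
  have horth : ∀ χ χ' : IrrCharacter K, InvAt K x (χ : K → ℂ) → InvAt K x (χ' : K → ℂ) →
      ∑ θ ∈ S, A χ θ xD * conj (A χ' θ xD) = if χ = χ' then 1 else 0 := by
    intro χ χ' hχ hχ'
    have hcl : IsClassFunction Γ (EK χ * fun g => conj (EK χ' g)) := fun a b => by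
      simp only [Pi.mul_apply, isClassFunction_irr (hEK χ hχ).1 a b,
        isClassFunction_irr (hEK χ' hχ').1 a b]
    rw [← ext_orth (s := x) K (hEK χ hχ).1 (hEK χ' hχ').1 χ χ' (hEK χ hχ).2 (hEK χ' hχ').2
      (fun e => by subst e; rfl)]
    have hK0 : (Nat.card K : ℂ) ≠ 0 := Nat.cast_ne_zero.2 Nat.card_pos.ne'
    have hC0 : (Nat.card C : ℂ) ≠ 0 := Nat.cast_ne_zero.2 Nat.card_pos.ne'
    have e1 : cosetAvg K (EK χ * fun g => conj (EK χ' g)) x =
        (Nat.card C : ℂ)⁻¹ * ∑ c : C, (EK χ * fun g => conj (EK χ' g)) ((c : Γ) * x) := by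
      simp only [cosetAvg]
      have := h.avg hcl
      field_simp
      linear_combination this
    rw [e1, ← Fintype.sum_equiv eC.toEquiv
      (fun k : C' => (EK χ * fun g => conj (EK χ' g)) (((k : D) * xD : D) : Γ)) _ (fun k => rfl)]
    simp only [Pi.mul_apply, A, cosetAvg, map_mul, map_sum, map_inv₀, map_natCast,
      Complex.conj_conj, Finset.mul_sum]
    rw [Nat.card_congr eC.toEquiv]
    symm
    rw [Finset.sum_congr rfl fun k (_ : k ∈ Finset.univ) => by rw [hexp χ hχ k, Finset.sum_mul, Finset.mul_sum],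
      Finset.sum_comm]
    refine Finset.sum_congr rfl fun θ _ => ?_
    refine Finset.sum_congr rfl fun k _ => ?_
    simp only [A, cosetAvg, Pi.mul_apply, Nat.card_congr eC.toEquiv, Finset.mul_sum, Finset.sum_mul]
    refine Finset.sum_congr rfl fun l _ => ?_
    ring
  have hone : ∀ χ : IrrCharacter K, InvAt K x (χ : K → ℂ) → ∃ θ ∈ S,
      A χ θ xD * conj (A χ θ xD) = 1 ∧ ∀ η ∈ S, η ≠ θ → A χ η xD = 0 := by
    intro χ hχ
    have hsum := horth χ χ hχ hχ
    rw [if_pos rfl] at hsum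
    set T := S.filter (fun θ => A χ θ xD ≠ 0) with hT
    have hsum' : ∑ θ ∈ T, A χ θ xD * conj (A χ θ xD) = ((1 : ℕ) : ℂ) := by
      rw [Nat.cast_one, ← hsum, Finset.sum_filter]
      refine Finset.sum_congr rfl fun θ _ => ?_
      split_ifs with h0
      · rfl
      · rw [not_not.1 h0, zero_mul]
    have hcard := card_le_of_sum_normSq (n := Nat.card D) Nat.card_pos.ne' T (fun θ => A χ θ xD)
      (fun θ hθ => char_mem_rootField
        (hA χ θ hχ (Finset.mem_filter.1 (Finset.mem_filter.1 hθ).1).2) xD)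
      (fun θ hθ => isIntegral_char
        (hA χ θ hχ (Finset.mem_filter.1 (Finset.mem_filter.1 hθ).1).2) xD)
      (fun θ hθ => (Finset.mem_filter.1 hθ).2) 1 hsum'
    obtain ⟨θ, hθ⟩ : ∃ θ, θ ∈ T := by
      by_contra hno
      push Not at hno
      rw [Finset.eq_empty_of_forall_notMem hno, Finset.sum_empty] at hsum'
      exact one_ne_zero (α := ℂ) (by simpa using hsum'.symm)
    have hT1 : T = {θ} := by
      rw [Finset.eq_singleton_iff_unique_mem]
      exact ⟨hθ, fun η hη => Finset.card_le_one.1 hcard η hη θ hθ⟩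
    refine ⟨θ, (Finset.mem_filter.1 hθ).1, ?_, fun η hη hne => ?_⟩
    · rw [hT1, Finset.sum_singleton, Nat.cast_one] at hsum'
      exact hsum'
    · by_contra h0
      exact hne (Finset.mem_singleton.1 (hT1 ▸ Finset.mem_filter.2 ⟨hη, h0⟩))
  have hdvd : ∀ (χ : IrrCharacter K) (θ : IrrCharacter C'), InvAt K x (χ : K → ℂ) → θ ∈ S →
      (p ∣ mult (Subgroup.inclusion hCK) χ (ξC θ) ↔ res hM (A χ θ xD) = 0) := fun χ θ hχ hθ => by
    rw [(hmem χ θ hχ (Finset.mem_filter.1 hθ).2).2, CharP.cast_eq_zero_iff (AlgInt ⧸ M) p]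
  -- back to `C`
  let θC : IrrCharacter C → IrrCharacter C' := fun ξ =>
    ⟨fun k => (ξ : C → ℂ) (eC k), isIrrCharacter_comp_surjective ξ.2 eC.toMonoidHom eC.surjective⟩
  have hback : ∀ ξ, ξC (θC ξ) = ξ := fun ξ => Subtype.ext (funext fun c => by
    show (ξ : C → ℂ) (eC (eC.symm c)) = _
    rw [MulEquiv.apply_symm_apply])
  have hθS : ∀ ξ : IrrCharacter C, InvX x C (ξ : C → ℂ) → θC ξ ∈ S := fun ξ hξ =>
    Finset.mem_filter.2 ⟨Finset.mem_univ _, (hinvC _).2 (by
      show InvX x C ((ξC (θC ξ) : IrrCharacter C) : C → ℂ)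
      rw [hback]; exact hξ)⟩
  refine ⟨fun χ hχ => ?_, fun ξ hξ => ?_, fun χ χ' ξ hχ hχ' hξ hm hm' => ?_⟩
  · obtain ⟨θ, hθS', h1, h0⟩ := hone χ (hinvK χ hχ)
    refine ⟨ξC θ, (hinvC θ).1 (Finset.mem_filter.1 hθS').2, ?_, fun η hη hne => ?_⟩
    · have hm := hmem χ θ (hinvK χ hχ) (Finset.mem_filter.1 hθS').2
      have hcm : MemLocalRing M (conj (A χ θ xD)) := memRing_of_isIntegral hM
        (isIntegral_char (isCharacter_conj (hA χ θ (hinvK χ hχ) (Finset.mem_filter.1 hθS').2)) xD)
      have hc : res hM (conj (A χ θ xD)) = (mult (Subgroup.inclusion hCK) χ (ξC θ) : AlgInt ⧸ M) := by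
        obtain ⟨k, hk⟩ := h.elt
        rw [res_char_pElt hM (A := fun d => conj (A χ θ d))
          (isCharacter_conj (hA χ θ (hinvK χ hχ) (Finset.mem_filter.1 hθS').2)) (z := xD) (k := k)
          (by rw [← Subgroup.orderOf_coe]; exact hk), hA1 χ θ (hinvK χ hχ)
          (Finset.mem_filter.1 hθS').2, Complex.conj_natCast, res_natCast]
      have h2 := congrArg (res hM) h1
      rw [res_mul hM hm.1 hcm, hm.2, hc, res_one] at h2
      have h3 : ((mult (Subgroup.inclusion hCK) χ (ξC θ) ^ 2 : ℕ) : AlgInt ⧸ M) = ((1 : ℕ) : AlgInt ⧸ M) := by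
        push_cast; rw [sq, h2]
      rw [CharP.natCast_eq_natCast (AlgInt ⧸ M) p, ← ZMod.natCast_eq_natCast_iff] at h3
      exact_mod_cast h3
    · rw [← hback η, hdvd χ _ (hinvK χ hχ) (hθS η hη),
        h0 _ (hθS η hη) (fun e => hne (by rw [← hback η, e])), res_zero]
  · by_contra hno
    push Not at hno
    have hzero : ∀ χ : IrrCharacter K, InvAt K x (χ : K → ℂ) → A χ (θC ξ) xD = 0 := by
      intro χ hχ
      by_contra h0
      obtain ⟨θ, hθ, h1, h2⟩ := hone χ hχ
      have he : θC ξ = θ := by_contra fun he => h0 (h2 _ (hθS ξ hξ) he)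
      subst he
      have h3 : res hM (A χ (θC ξ) xD) = 0 := (hdvd χ _ hχ hθ).1 (by
        rw [hback]; exact hno χ (hinvK' χ hχ))
      have h4 := congrArg (res hM) h1
      rw [res_mul hM (hmem χ _ hχ (Finset.mem_filter.1 hθ).2).1 (memRing_of_isIntegral hM
        (isIntegral_char (isCharacter_conj (hA χ _ hχ (Finset.mem_filter.1 hθ).2)) xD)), h3, zero_mul,
        res_one] at h4
      exact zero_ne_one h4
    -- transport the extension to `Γ`
    obtain ⟨hei, her⟩ := hEC (θC ξ) (Finset.mem_filter.1 (hθS ξ hξ)).2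
    set F : Γ → ℂ := indFun D (EC (θC ξ)) with hF
    have hFval : ∀ k : C', F (((k : D) * xD : D) : Γ) = EC (θC ξ) ((k : D) * xD) := by
      intro k
      rw [hF, indFun]
      rw [Finset.sum_congr rfl fun g (_ : g ∈ Finset.univ) => show
        extendByZero D (EC (θC ξ)) (g⁻¹ * (((k : D) * xD : D) : Γ) * g) =
          if g ∈ D then EC (θC ξ) ((k : D) * xD) else 0 by
        split_ifs with hg
        · rw [extendByZero_of_mem _ _ (D.mul_mem (D.mul_mem (D.inv_mem hg) ((k : D) * xD).2) hg)]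
          rw [← isClassFunction_irr hei ((k : D) * xD) ⟨g⁻¹, D.inv_mem hg⟩]
          exact congrArg _ (Subtype.ext (by simp))
        · refine extendByZero_of_not_mem _ _ fun hmem' => hg ?_
          obtain ⟨a, ha, i, hai⟩ := mem_prod (N := K) h.gen g
          -- the element of `K` is in `C`
          have hxi : x ^ i ∈ D := Subgroup.mem_sup_right ⟨i, rfl⟩
          rw [← hai]
          refine D.mul_mem (Subgroup.mem_sup_left ((h.fix a).2 ⟨ha, ?_⟩)) hxi
          have h1 : a⁻¹ * (((k : D) * xD : D) : Γ) * a ∈ D := by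
            have := D.mul_mem (D.mul_mem hxi hmem') (D.inv_mem hxi)
            rw [← hai] at this
            simpa [mul_assoc] using this
          have h2 : a⁻¹ * (((k : D) * xD : D) : Γ) * a * x⁻¹ ∈ C := by
            obtain ⟨c, hc, l, hl⟩ := mem_prod (N := C') hgenD ⟨_, h1⟩
            have hl' : ((c : D) : Γ) * x ^ l = a⁻¹ * (((k : D) * xD : D) : Γ) * a := by
              simpa using congrArg Subtype.val hl
            have hK : x ^ (l - 1) ∈ K := by
              have h3 : x ^ (l - 1) = ((c : D) : Γ)⁻¹ * (a⁻¹ * ((k : D) : Γ) * (x * a * x⁻¹)) := by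
                rw [zpow_sub_one, eq_inv_mul_iff_mul_eq, ← mul_assoc, hl']
                simp [xD, mul_assoc]
              rw [h3]
              exact K.mul_mem (K.inv_mem (h.cle hc)) (K.mul_mem (K.mul_mem (K.inv_mem ha)
                (h.cle k.2)) (h.normal.conj_mem a ha x))
            rw [← hl', mul_assoc, ← zpow_sub_one]
            exact C.mul_mem hc (h.pow_mem hK)
          haveI := h.qnormal
          let π := QuotientGroup.mk' Q
          have hcen : ∀ c ∈ C, π x * π c = π c * π x := fun c hc => by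
            have h3 : π (x * c * x⁻¹ * c⁻¹) = 1 := (QuotientGroup.eq_one_iff _).2 ((h.fix c).1 hc).2
            simp only [map_mul, map_inv] at h3
            exact mul_inv_eq_iff_eq_mul.1 (mul_inv_eq_one.1 h3)
          have h3 := ((h.fix _).1 h2)
          refine (QuotientGroup.eq_one_iff _).1 ?_
          show π (x * a * x⁻¹ * a⁻¹) = 1
          obtain ⟨e, he⟩ := h.elt
          obtain ⟨j, hj0, hj1⟩ := Nat.chineseRemainder
            (show (Q.relIndex K).Coprime (p ^ e) from
              ((h.prime.coprime_iff_not_dvd.2 h.sylow).symm).pow_right e) 0 1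
          have hpow : ∀ c ∈ C, π ((c * x) ^ j) = π x := by
            intro c hc
            have h4 : π c ^ j = 1 := by
              refine orderOf_dvd_iff_pow_eq_one.1 (dvd_trans ?_ (Nat.modEq_zero_iff_dvd.1 hj0))
              rw [show Q.relIndex K = Nat.card (K.map π) by
                rw [← Subgroup.relIndex_ker, QuotientGroup.ker_mk'],
                ← Subgroup.orderOf_mk (H := K.map π) (π c) ⟨c, h.cle hc, rfl⟩]
              exact orderOf_dvd_natCard _
            have h5 : x ^ j = x := by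
              conv_rhs => rw [← pow_one x]
              exact pow_eq_pow_iff_modEq.2 (by rw [he]; exact hj1)
            rw [map_pow, map_mul, (show Commute (π c) (π x) from (hcen c hc).symm).mul_pow, h4,
              one_mul, ← map_pow, h5]
          have h6 := hpow _ h2
          rw [inv_mul_cancel_right, show a⁻¹ * (((k : D) * xD : D) : Γ) * a =
            a⁻¹ * (((k : D) : Γ) * x) * a⁻¹⁻¹ by simp [xD], conj_pow, map_mul, map_mul,
            hpow _ (show ((k : D) : Γ) ∈ C from k.2)] at h6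
          simp only [inv_inv, map_inv, map_mul] at h6 ⊢
          rw [show π x * π a = π a * π x by
            rw [mul_assoc, inv_mul_eq_iff_eq_mul] at h6; exact h6]
          group, ← Finset.sum_filter, Finset.sum_const, nsmul_eq_mul, ← Fintype.card_subtype,
        ← Nat.card_eq_fintype_card, inv_mul_cancel_left₀ (Nat.cast_ne_zero.2 (Nat.card_pos (α := D)).ne')]
    have hFc : IsClassFunction Γ F := indFun_isClassFunction D (EC (θC ξ))
    have h1 := ext_orth (s := xD) C' hei hei (θC ξ) (θC ξ) her her (fun _ => rfl)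
    rw [if_pos rfl] at h1
    refine one_ne_zero (α := ℂ) (h1.symm.trans ?_)
    simp only [cosetAvg, Pi.mul_apply]
    rw [Finset.sum_eq_zero, mul_zero]
    intro k _
    rw [← hFval k]
    have hexpK := coset_expand K h.gen EK hEK hFc ⟨((k : D) : Γ), h.cle k.2⟩
    -- the coefficients vanish
    have hz : ∀ χ : IrrCharacter K, InvAt K x (χ : K → ℂ) →
        cosetAvg K (F * fun g => conj (EK χ g)) x = 0 := by
      intro χ hχ
      have hcl : IsClassFunction Γ (F * fun g => conj (EK χ g)) := fun a b => by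
        simp only [Pi.mul_apply, hFc a b, isClassFunction_irr (hEK χ hχ).1 a b]
      have hav := h.avg hcl
      rw [← Fintype.sum_equiv eC.toEquiv
        (fun l : C' => (F * fun g => conj (EK χ g)) (((l : D) * xD : D) : Γ)) _ (fun l => rfl)] at hav
      have h2 : ∑ l : C', (F * fun g => conj (EK χ g)) (((l : D) * xD : D) : Γ) = 0 := by
        have h3 := congrArg conj (hzero χ hχ)
        simp only [A, cosetAvg, Pi.mul_apply, map_zero, map_mul, map_inv₀, map_natCast, map_sum,
          Complex.conj_conj, mul_eq_zero, inv_eq_zero, Nat.cast_eq_zero, Nat.card_pos.ne',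
          false_or] at h3
        rw [← h3]
        exact Finset.sum_congr rfl fun l _ => by rw [Pi.mul_apply, hFval]; ring
      rw [h2, mul_zero, mul_eq_zero, Nat.cast_eq_zero] at hav
      simp only [cosetAvg, hav.resolve_left Nat.card_pos.ne', mul_zero]
    have hFk : F (((k : D) * xD : D) : Γ) = 0 := by
      show F (((k : D) : Γ) * x) = 0
      rw [hexpK]
      exact Finset.sum_eq_zero fun χ hχ => by rw [hz χ (Finset.mem_filter.1 hχ).2, zero_mul]
    rw [hFk, zero_mul]
  · by_contra hne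
    have hne0 : ∀ χ₁ : IrrCharacter K, InvX x K (χ₁ : K → ℂ) →
        ¬ p ∣ mult (Subgroup.inclusion hCK) χ₁ ξ →
        A χ₁ (θC ξ) xD ≠ 0 := fun χ₁ h₁ hm₁ h0 => hm₁ (by
      rw [← hback ξ]
      exact (hdvd χ₁ _ (hinvK χ₁ h₁) (hθS ξ hξ)).2 (by rw [h0, res_zero]))
    have h2 := horth χ χ' (hinvK χ hχ) (hinvK χ' hχ')
    rw [if_neg hne, Finset.sum_eq_single (θC ξ)] at h2
    · exact mul_ne_zero (hne0 χ hχ hm) ((map_ne_zero _).2 (hne0 χ' hχ' hm')) h2
    · intro η hη hne'
      obtain ⟨θ, hθ, -, h0⟩ := hone χ (hinvK χ hχ)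
      by_cases he : η = θ
      · subst he
        exact absurd (h0 _ (hθS ξ hξ) (Ne.symm hne')) (hne0 χ hχ hm)
      · rw [h0 η hη he, zero_mul]
    · exact fun hn => absurd (hθS ξ hξ) hn

end CfsgLib.Glauberman.NormalSylow
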