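import Cfsg.Agent.Lib.Glauberman.Solvable
import Cfsg.Agent.Lib.CharTheory.Fixed

/-!
# Real characters and real classes fixed by a coprime `p`-group
-/

namespace CfsgLib.Glauberman

open Cfsg CfsgLib.CharTheory CfsgLib.Blocks
open scoped ComplexConjugate

universe u v w

variable {K : Type u} [Group K] {P : Type v} [Group P] {C : Type w} [Group C]
  {φ : P →* MulAut K} {ι : C →* K} {p : ℕ} {M : Ideal AlgInt}

/-- Real irreducible characters and real classes are equinumerous. -/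
theorem card_real_irr [Finite C] :
    Nat.card {χ : IrrCharacter C // ∀ c : C, ((χ : C → ℂ) c).im = 0} =
      Nat.card {D : ConjClasses C // ∀ c : C, ConjClasses.mk c = D → IsConj c c⁻¹} := by
  classical
  let π : ConjClasses C → ConjClasses C := fun D => Quotient.liftOn D (fun c => ConjClasses.mk c⁻¹) fun a b hab => by
    obtain ⟨g, hg⟩ := isConj_iff.1 hab
    exact ConjClasses.mk_eq_mk_iff_isConj.2 (isConj_iff.2 ⟨g, by rw [← hg]; group⟩)
  have h := card_fixed_irr_eq_card_fixed_classes π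
    (fun χ => ⟨fun c => conj ((χ : C → ℂ) c), isIrrCharacter_conjChar χ.2⟩) (fun χ g g' hg' => by
      show conj ((χ : C → ℂ) g) = _
      rw [irr_conjInv]
      obtain ⟨x, hx⟩ := isConj_iff.1 (ConjClasses.mk_eq_mk_iff_isConj.1 (hg' : ConjClasses.mk g' = ConjClasses.mk g⁻¹))
      rw [← hx]
      exact isClassFunction_char (isCharacter_of_irr χ.2) g' x)
  refine Eq.trans ?_ (h.trans ?_)
  · refine Nat.card_congr (Equiv.subtypeEquivRight fun χ => ⟨fun hh => Subtype.ext (funext fun c => ?_),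
      fun hh c => ?_⟩)
    · exact Complex.conj_eq_iff_im.2 (hh c)
    · exact Complex.conj_eq_iff_im.1 (congrFun (congrArg Subtype.val hh) c)
  · refine Nat.card_congr (Equiv.subtypeEquivRight fun D => ⟨fun hh c hc => ?_, fun hh => ?_⟩)
    · subst hc
      exact (ConjClasses.mk_eq_mk_iff_isConj.1 (hh : ConjClasses.mk c⁻¹ = ConjClasses.mk c)).symm
    · obtain ⟨c, rfl⟩ := ConjClasses.mk_surjective D
      exact ConjClasses.mk_eq_mk_iff_isConj.2 (hh c rfl).symm

/-- An invariant class contains a fixed element. -/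
theorem Setup.exists_fixed_mem [Finite K] (h : Setup p M φ ι) (k : K) (hk : ∀ s, IsConj (φ s k) k) :
    ∃ c : C, IsConj (ι c) k := by
  classical
  haveI : Fact p.Prime := ⟨h.hM.1⟩
  letI := grpAction φ
  let T : SubMulAction P K :=
    { carrier := {x | IsConj k x}
      smul_mem' := fun s x hx => (hk s).symm.trans ((φ s).toMonoidHom.map_isConj hx) }
  have hcard : ¬ p ∣ Nat.card T := by
    intro hd
    have := card_isConj_mul_card_centralizer k
    exact h.hG (this ▸ dvd_mul_of_dvd_left hd _)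
  obtain ⟨x, hx⟩ := h.hP.nonempty_fixed_point_of_prime_not_dvd_card T hcard
  obtain ⟨c, hc⟩ := (h.fix x.1).2 fun s => congrArg Subtype.val (hx s)
  exact ⟨c, hc ▸ (x.2 : IsConj k x.1).symm⟩

/-- Fixed real characters and fixed real classes are equinumerous. -/
theorem Setup.card_real [Fintype K] [Fintype C] (h : Setup p M φ ι) :
    Nat.card {χ : IrrCharacter K // (∀ k : K, ((χ : K → ℂ) k).im = 0) ∧ Inv φ (χ : K → ℂ)} =
      Nat.card {D : ConjClasses K // (∀ k : K, ConjClasses.mk k = D → IsConj k k⁻¹) ∧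
        ∀ s k, ConjClasses.mk k = D → ConjClasses.mk (φ s k) = D} := by
  classical
  -- conjugation of characters
  let cj : IrrCharacter K → IrrCharacter K := fun χ => ⟨fun k => conj ((χ : K → ℂ) k), isIrrCharacter_conjChar χ.2⟩
  let cjC : IrrCharacter C → IrrCharacter C := fun χ => ⟨fun k => conj ((χ : C → ℂ) k), isIrrCharacter_conjChar χ.2⟩
  have hmult : ∀ χ β, mult ι (cj χ) (cjC β) = mult ι χ β := fun χ β => by
    apply mult_eq
    have := congrArg (starRingEnd ℂ) (mult_spec ι χ β)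
    rw [map_natCast] at this
    rw [← this]
    simp [classInner, map_sum, cj, cjC]
  have hinv : ∀ χ : IrrCharacter K, Inv φ (χ : K → ℂ) → Inv φ (cj χ : K → ℂ) := fun χ hχ s g =>
    congrArg (starRingEnd ℂ) (hχ s g)
  have hdata := fun χ : {χ : IrrCharacter K // Inv φ (χ : K → ℂ)} => h.exists_unique_under χ.1 χ.2
  choose f hf hfu using hdata
  have hover : ∀ β, ∃! χ : {χ : IrrCharacter K // Inv φ (χ : K → ℂ)},
      (mult ι χ.1 β : AlgInt ⧸ M) ≠ 0 := fun β => by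
    haveI := res_isDomain h.hM
    obtain ⟨χ, hχ, h1, hu⟩ := h.exists_unique_over β
    refine ⟨⟨χ, hχ⟩, left_ne_zero_of_mul (h1 ▸ one_ne_zero), fun χ' hne => ?_⟩
    by_contra e
    exact hne (hu χ'.1 χ'.2 fun e' => e (Subtype.ext e'))
  have hfinj : Function.Injective f := fun a b hab => (hover (f a)).unique (hf a) (hab ▸ hf b)
  have hfsurj : Function.Surjective f := fun β => by
    obtain ⟨χ, hχ, -⟩ := hover β
    exact ⟨χ, by by_contra e; exact hχ (hfu χ β (Ne.symm e))⟩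
  have hfcj : ∀ χ, f ⟨cj χ.1, hinv χ.1 χ.2⟩ = cjC (f χ) := fun χ => by
    by_contra e
    exact hf χ (by rw [← hmult]; exact hfu ⟨cj χ.1, hinv χ.1 χ.2⟩ _ (Ne.symm e))
  let e1 : {χ : IrrCharacter K // (∀ k : K, ((χ : K → ℂ) k).im = 0) ∧ Inv φ (χ : K → ℂ)} ≃
      {β : IrrCharacter C // ∀ c : C, ((β : C → ℂ) c).im = 0} :=
    Equiv.ofBijective (fun χ => ⟨f ⟨χ.1, χ.2.2⟩, fun c => by
      have hc : (⟨cj χ.1, hinv χ.1 χ.2.2⟩ : {χ : IrrCharacter K // Inv φ (χ : K → ℂ)}) = ⟨χ.1, χ.2.2⟩ :=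
        Subtype.ext (Subtype.ext (funext fun k => Complex.conj_eq_iff_im.2 (χ.2.1 k)))
      have := congrArg f hc
      rw [hfcj ⟨χ.1, χ.2.2⟩] at this
      exact Complex.conj_eq_iff_im.1 (congrFun (congrArg Subtype.val this) c)⟩) ⟨fun a b hab => by
        have := hfinj (congrArg Subtype.val hab)
        exact Subtype.ext (congrArg Subtype.val this : _), fun β => by
        obtain ⟨χ, hχ⟩ := hfsurj β.1
        refine ⟨⟨χ.1, fun k => ?_, χ.2⟩, Subtype.ext hχ⟩
        have hc : f ⟨cj χ.1, hinv χ.1 χ.2⟩ = f χ := by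
          rw [hfcj, hχ]
          exact Subtype.ext (funext fun c => Complex.conj_eq_iff_im.2 (β.2 c))
        exact Complex.conj_eq_iff_im.1 (congrFun (congrArg (fun t => (t.1 : K → ℂ)) (hfinj hc)) k)⟩
  rw [Nat.card_congr e1, card_real_irr]
  refine Nat.card_eq_of_bijective (fun D => ⟨ConjClasses.map ι D.1, ?_, ?_⟩) ⟨?_, ?_⟩
  · intro k hk
    obtain ⟨c, hc⟩ := ConjClasses.mk_surjective D.1
    rw [← hc] at hk
    have h1 : IsConj k (ι c) := ConjClasses.mk_eq_mk_iff_isConj.1 hk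
    have h2 : IsConj (ι c) (ι c)⁻¹ := by
      rw [← map_inv]; exact ι.map_isConj (D.2 c hc)
    obtain ⟨g, hg⟩ := isConj_iff.1 h1
    exact h1.trans (h2.trans (isConj_iff.2 ⟨g, by rw [← hg]; group⟩).symm)
  · intro s k hk
    obtain ⟨c, hc⟩ := ConjClasses.mk_surjective D.1
    rw [← hc] at hk ⊢
    show ConjClasses.mk _ = ConjClasses.mk (ι c)
    rw [← h.apply_fix s c]
    exact ConjClasses.mk_eq_mk_iff_isConj.2
      ((φ s).toMonoidHom.map_isConj (ConjClasses.mk_eq_mk_iff_isConj.1 hk))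
  · rintro ⟨D, hD⟩ ⟨D', hD'⟩ he
    obtain ⟨a, rfl⟩ := ConjClasses.mk_surjective D
    obtain ⟨b, rfl⟩ := ConjClasses.mk_surjective D'
    exact Subtype.ext (ConjClasses.mk_eq_mk_iff_isConj.2
      (h.fusion (ConjClasses.mk_eq_mk_iff_isConj.1 (congrArg Subtype.val he))))
  · rintro ⟨D, hD, hDs⟩
    obtain ⟨k, rfl⟩ := ConjClasses.mk_surjective D
    obtain ⟨c, hc⟩ := h.exists_fixed_mem k fun s => ConjClasses.mk_eq_mk_iff_isConj.1 (hDs s k rfl)
    refine ⟨⟨ConjClasses.mk c, fun c' hc' => ?_⟩, Subtype.ext (ConjClasses.mk_eq_mk_iff_isConj.2 hc)⟩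
    apply h.fusion
    rw [map_inv]
    exact hD (ι c') (ConjClasses.mk_eq_mk_iff_isConj.2
      ((ι.map_isConj (ConjClasses.mk_eq_mk_iff_isConj.1 hc')).trans hc))

/-- The ambient form. -/
theorem real_invariant {G : Type u} [Group G] [Finite G] {p : ℕ} (hp : p.Prime) (P K : Subgroup G)
    (hP : IsPGroup p P) (hK : ¬ p ∣ Nat.card K) (hPK : P ≤ Subgroup.normalizer (K : Set G)) :
    Nat.card {θ : IrrCharacter K // (∀ k : K, ((θ : K → ℂ) k).im = 0) ∧
        (∀ x ∈ P, ∀ k k' : K, (k' : G) = x * (k : G) * x⁻¹ → (θ : K → ℂ) k' = (θ : K → ℂ) k)} =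
      Nat.card {c : ConjClasses K // (∀ k : K, ConjClasses.mk k = c → IsConj k k⁻¹) ∧
        ∀ k : K, ConjClasses.mk k = c → ∀ x ∈ P, ∀ k' : K, (k' : G) = x * (k : G) * x⁻¹ → ConjClasses.mk k' = c} ∧
    ((∀ θ : IrrCharacter K, (∀ k : K, ((θ : K → ℂ) k).im = 0) →
        (∀ x ∈ P, ∀ k k' : K, (k' : G) = x * (k : G) * x⁻¹ → (θ : K → ℂ) k' = (θ : K → ℂ) k)) →
      ∀ k : K, IsConj k k⁻¹ → ∃ k' : K, IsConj k k' ∧ ∀ x ∈ P, x * (k' : G) * x⁻¹ = (k' : G)) := by
  classical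
  haveI := Fintype.ofFinite K
  let φ : P →* MulAut K := (Subgroup.normalizerMonoidHom K).comp (Subgroup.inclusion hPK)
  have hφ : ∀ (s : P) (k : K), ((φ s k : K) : G) = (s : G) * k * (s : G)⁻¹ := fun s k => rfl
  let C : Subgroup K := (Subgroup.centralizer (P : Set G)).subgroupOf K
  haveI := Fintype.ofFinite C
  have hC : ∀ g : K, g ∈ C ↔ ∀ s, φ s g = g := fun g => by
    rw [Subgroup.mem_subgroupOf, Subgroup.mem_centralizer_iff]
    refine ⟨fun hh s => Subtype.ext (by rw [hφ, hh s s.2, mul_inv_cancel_right]), fun hh x hx => ?_⟩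
    have := congrArg Subtype.val (hh ⟨x, hx⟩)
    rw [hφ] at this
    exact mul_inv_eq_iff_eq_mul.1 this
  obtain ⟨M, hM⟩ := CfsgLib.ZStar.exists_isPModular hp
  have h : Setup p M φ C.subtype := setup_subgroup hM hP φ hK C hC
  have hinvX : ∀ θ : IrrCharacter K, (∀ x ∈ P, ∀ k k' : K, (k' : G) = x * (k : G) * x⁻¹ →
      (θ : K → ℂ) k' = (θ : K → ℂ) k) ↔ Inv φ (θ : K → ℂ) := fun θ =>
    ⟨fun hh s g => hh s s.2 g _ (hφ s g), fun hh x hx k k' e => by
      rw [show k' = φ ⟨x, hx⟩ k from Subtype.ext (e.trans (hφ ⟨x, hx⟩ k).symm)]; exact hh _ _⟩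
  have hinvC : ∀ c : ConjClasses K, (∀ k : K, ConjClasses.mk k = c → ∀ x ∈ P, ∀ k' : K,
      (k' : G) = x * (k : G) * x⁻¹ → ConjClasses.mk k' = c) ↔
      ∀ s k, ConjClasses.mk k = c → ConjClasses.mk (φ s k) = c := fun c =>
    ⟨fun hh s k hk => hh k hk s s.2 _ (hφ s k), fun hh k hk x hx k' e => by
      rw [show k' = φ ⟨x, hx⟩ k from Subtype.ext (e.trans (hφ ⟨x, hx⟩ k).symm)]; exact hh _ _ hk⟩
  have hmain := h.card_real
  refine ⟨by simpa only [hinvX, hinvC] using hmain, fun hall k hk => ?_⟩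
  have hrealall : Nat.card {χ : IrrCharacter K // (∀ k : K, ((χ : K → ℂ) k).im = 0) ∧ Inv φ (χ : K → ℂ)} =
      Nat.card {D : ConjClasses K // ∀ k : K, ConjClasses.mk k = D → IsConj k k⁻¹} := by
    rw [← card_real_irr]
    exact Nat.card_congr (Equiv.subtypeEquivRight fun χ =>
      ⟨fun hh => hh.1, fun hh => ⟨hh, (hinvX χ).1 (hall χ hh)⟩⟩)
  rw [hmain] at hrealall
  let i : {D : ConjClasses K // (∀ k : K, ConjClasses.mk k = D → IsConj k k⁻¹) ∧
      ∀ s k, ConjClasses.mk k = D → ConjClasses.mk (φ s k) = D} →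
      {D : ConjClasses K // ∀ k : K, ConjClasses.mk k = D → IsConj k k⁻¹} := fun D => ⟨D.1, D.2.1⟩
  have hbij : Function.Bijective i := (Nat.bijective_iff_injective_and_card i).2
    ⟨fun a b hab => Subtype.ext (congrArg Subtype.val hab : _), hrealall⟩
  have hk' : ∀ k' : K, ConjClasses.mk k' = ConjClasses.mk k → IsConj k' k'⁻¹ := fun k' e => by
    have e' := ConjClasses.mk_eq_mk_iff_isConj.1 e
    obtain ⟨g, hg⟩ := isConj_iff.1 e'
    exact e'.trans (hk.trans (isConj_iff.2 ⟨g, by rw [← hg]; group⟩).symm)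
  obtain ⟨D, hD⟩ := hbij.2 ⟨ConjClasses.mk k, hk'⟩
  have hD1 : D.1 = ConjClasses.mk k := congrArg Subtype.val hD
  obtain ⟨c, hc⟩ := h.exists_fixed_mem k fun s =>
    ConjClasses.mk_eq_mk_iff_isConj.1 (by have := D.2.2 s k hD1.symm; rwa [hD1] at this)
  exact ⟨c, hc.symm, fun x hx => by
    rw [← hφ ⟨x, hx⟩ c]; exact congrArg Subtype.val (h.apply_fix ⟨x, hx⟩ c)⟩

end CfsgLib.Glauberman
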